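import Mathlib
import Cfsg.Prelude.Def_Transfer

set_option autoImplicit false

/-!
Toolkit for extraspecial-like groups: finite groups `P` with centre of prime order `p` and
commutator subgroup inside the centre.  Commutator pairing, duality, order formula.
-/

namespace Cfsg.Agent.Lib.Helper29

/-- commutator of two elements, written out -/
def cm {P : Type*} [Group P] (a b : P) : P := a * b * a⁻¹ * b⁻¹

theorem cm_def {P : Type*} [Group P] (a b : P) : cm a b = a * b * a⁻¹ * b⁻¹ := rfl

theorem cm_mul_left {P : Type*} [Group P] (q q' x : P)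
    (h : ∀ g : P, g * cm q' x = cm q' x * g) : cm (q * q') x = cm q x * cm q' x := by
  have h1 : cm (q * q') x = q * cm q' x * q⁻¹ * cm q x := by
    simp only [cm]; group
  rw [h1, h q]
  have h2 := h (cm q x)
  calc cm q' x * q * q⁻¹ * cm q x = cm q' x * cm q x := by group
    _ = cm q x * cm q' x := h2.symm

theorem cm_mul_right {P : Type*} [Group P] (q x y : P)
    (h : ∀ g : P, g * cm q y = cm q y * g) : cm q (x * y) = cm q x * cm q y := by
  have h1 : cm q (x * y) = q * x * q⁻¹ * cm q y * x⁻¹ := by
    simp only [cm]; group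
  rw [h1, mul_assoc (q * x * q⁻¹), ← h x⁻¹]
  simp only [cm]; group

theorem cm_mul_right' {P : Type*} [Group P] (q x y : P)
    (h : x * cm q y = cm q y * x) : cm q (x * y) = cm q x * cm q y := by
  have h1 : cm q (x * y) = q * x * q⁻¹ * cm q y * x⁻¹ := by
    simp only [cm]; group
  have h2 : cm q y * x⁻¹ = x⁻¹ * cm q y := by
    calc cm q y * x⁻¹ = x⁻¹ * (x * cm q y) * x⁻¹ := by group
      _ = x⁻¹ * (cm q y * x) * x⁻¹ := by rw [h]
      _ = x⁻¹ * cm q y := by group
  rw [h1, mul_assoc (q * x * q⁻¹), h2]
  simp only [cm]; group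

theorem cm_eq_one_iff {P : Type*} [Group P] (a b : P) : cm a b = 1 ↔ a * b = b * a := by
  unfold cm
  constructor
  · intro h
    calc a * b = (a * b * a⁻¹ * b⁻¹) * (b * a) := by group
      _ = b * a := by rw [h, one_mul]
  · intro h
    calc a * b * a⁻¹ * b⁻¹ = (a * b) * (a⁻¹ * b⁻¹) := by group
      _ = (b * a) * (a⁻¹ * b⁻¹) := by rw [h]
      _ = 1 := by group

theorem cm_inv_swap {P : Type*} [Group P] (a b : P) : (cm a b)⁻¹ = cm b a := by
  simp only [cm]; group

theorem cm_self {P : Type*} [Group P] (a : P) : cm a a = 1 := by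
  simp only [cm]; group

theorem cm_one_left {P : Type*} [Group P] (a : P) : cm 1 a = 1 := by
  simp only [cm]; group

theorem cm_one_right {P : Type*} [Group P] (a : P) : cm a 1 = 1 := by
  simp only [cm]; group

theorem cm_mem_commutator {P : Type*} [Group P] (a b : P) : cm a b ∈ commutator P :=
  Subgroup.commutator_mem_commutator (Subgroup.mem_top a) (Subgroup.mem_top b)

section pairing

variable {P : Type*} [Group P] (hcomm : commutator P ≤ Subgroup.center P)
include hcomm

theorem cm_mem_center (a b : P) : cm a b ∈ Subgroup.center P := hcomm (cm_mem_commutator a b)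

theorem cm_comm (a b g : P) : g * cm a b = cm a b * g :=
  Subgroup.mem_center_iff.1 (cm_mem_center hcomm a b) g

open scoped IsMulCommutative in
/-- the homomorphism `q ↦ [q, x]` into the centre -/
def pairHom (x : P) : P →* ↥(Subgroup.center P) where
  toFun q := ⟨cm q x, cm_mem_center hcomm q x⟩
  map_one' := by apply Subtype.ext; exact cm_one_left x
  map_mul' q q' := by
    apply Subtype.ext
    exact cm_mul_left q q' x (cm_comm hcomm q' x)

theorem pairHom_apply (x q : P) : ((pairHom hcomm x q : ↥(Subgroup.center P)) : P) = cm q x := rfl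

theorem pairHom_mul (x y q : P) : pairHom hcomm (x * y) q = pairHom hcomm x q * pairHom hcomm y q := by
  apply Subtype.ext
  exact cm_mul_right q x y (cm_comm hcomm q y)

theorem pairHom_eq_one_iff (x q : P) : pairHom hcomm x q = 1 ↔ q * x = x * q := by
  rw [← cm_eq_one_iff]
  exact Subtype.ext_iff

theorem cm_pow_left (q x : P) (n : ℕ) : cm (q ^ n) x = (cm q x) ^ n := by
  have := map_pow (pairHom hcomm x) q n
  exact congrArg Subtype.val this

theorem cm_inv_left (q x : P) : cm q⁻¹ x = (cm q x)⁻¹ := by
  have := map_inv (pairHom hcomm x) q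
  exact congrArg Subtype.val this

theorem cm_inv_right (q x : P) : cm q x⁻¹ = (cm q x)⁻¹ := by
  rw [cm_inv_swap]
  have h1 : cm q x⁻¹ = x⁻¹ * cm x q * x := by simp only [cm]; group
  rw [h1, mul_assoc, ← cm_comm hcomm x q x]
  group

end pairing

section duality

/-- an injective homomorphism from a group of prime order into `ℂˣ` -/
theorem exists_injective_hom_complex {p : ℕ} [hp : Fact p.Prime] (Z : Type*) [Group Z]
    (hZ : Nat.card Z = p) : ∃ j : Z →* ℂˣ, Function.Injective j := by
  haveI : Finite Z := Nat.finite_of_card_ne_zero (by rw [hZ]; exact hp.1.ne_zero)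
  haveI : IsCyclic Z := isCyclic_of_prime_card hZ
  letI : CommGroup Z := IsCyclic.commGroup
  haveI : Nontrivial Z := by
    rw [← Finite.one_lt_card_iff_nontrivial, hZ]; exact hp.1.one_lt
  obtain ⟨a, ha⟩ := exists_ne (1 : Z)
  obtain ⟨φ, hφ⟩ := CommGroup.exists_apply_ne_one_of_hasEnoughRootsOfUnity Z ℂ ha
  refine ⟨φ, ?_⟩
  rw [← MonoidHom.ker_eq_bot_iff]
  haveI : Fact (Nat.card Z).Prime := ⟨by rw [hZ]; exact hp.1⟩
  rcases φ.ker.eq_bot_or_eq_top_of_prime_card with h | h
  · exact h
  · exfalso
    apply hφ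
    have : a ∈ φ.ker := by rw [h]; exact Subgroup.mem_top a
    exact this

variable {P : Type*} [Group P] [Finite P] {p : ℕ} [hp : Fact p.Prime]

/-- **Duality** for extraspecial-like groups: if the centre of `P` has prime order and equals the
commutator subgroup, every homomorphism from `P` to its centre is `q ↦ [q, x]` for some `x`. -/
theorem exists_eq_cm_of_hom (hc : Nat.card (Subgroup.center P) = p)
    (hcomm : commutator P = Subgroup.center P) (lam : P →* ↥(Subgroup.center P)) :
    ∃ x : P, ∀ q, (lam q : P) = cm q x := by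
  classical
  obtain ⟨j, hj⟩ := exists_injective_hom_complex (p := p) ↥(Subgroup.center P) hc
  have hle : commutator P ≤ Subgroup.center P := hcomm.le
  let Ψ : P →* (P →* ℂˣ) :=
    { toFun := fun x => j.comp (pairHom hle x)
      map_one' := by
        ext q
        have : pairHom hle 1 q = 1 := by apply Subtype.ext; exact cm_one_right q
        simp [this]
      map_mul' := fun x y => by
        ext q
        simp [pairHom_mul hle x y q] }
  have hΨ : ∀ x q, Ψ x q = j (pairHom hle x q) := fun x q => rfl
  have hΨ1 : ∀ x q, Ψ x q = 1 ↔ q * x = x * q := by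
    intro x q
    rw [hΨ, ← pairHom_eq_one_iff hle]
    constructor
    · intro h; apply hj; rw [h, map_one]
    · intro h; rw [h, map_one]
  have hker : Ψ.ker = Subgroup.center P := by
    ext x
    rw [MonoidHom.mem_ker, Subgroup.mem_center_iff]
    constructor
    · intro h g
      exact (hΨ1 x g).1 (by rw [h]; rfl)
    · intro h
      ext q
      have := (hΨ1 x q).2 (h q)
      rw [this]; rfl
  have hcard1 : Nat.card (Abelianization P →* ℂˣ) = Nat.card (Abelianization P) :=
    CommGroup.card_monoidHom_of_hasEnoughRootsOfUnity (Abelianization P) ℂ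
  have hcard2 : Nat.card (P →* ℂˣ) = Nat.card (Abelianization P →* ℂˣ) :=
    Nat.card_congr Abelianization.lift
  have hcard3 : Nat.card (Abelianization P) = (Subgroup.center P).index := by
    rw [← hcomm]; rfl
  have hcard4 : Nat.card Ψ.range = (Subgroup.center P).index := by
    rw [← hker, Subgroup.index_ker]
  have hrange : Ψ.range = ⊤ := by
    rw [← Subgroup.card_eq_iff_eq_top, hcard4, hcard2, hcard1, hcard3]
  obtain ⟨x, hx⟩ : j.comp lam ∈ Ψ.range := by rw [hrange]; exact Subgroup.mem_top _
  refine ⟨x, fun q => ?_⟩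
  have h1 : Ψ x q = j (lam q) := by rw [hx]; rfl
  rw [hΨ] at h1
  have h2 := hj h1
  rw [← h2]; rfl

end duality

universe u

section order

variable {p : ℕ} [hp : Fact p.Prime]

/-- inductive step: in a noncommutative `P` with centre of order `p` containing the commutator
subgroup, there is a subgroup `Q` with the same properties and `|P| = p² |Q|`. -/
theorem exists_subgroup_step {P : Type u} [Group P] [Finite P]
    (hc : Nat.card (Subgroup.center P) = p) (hle : commutator P ≤ Subgroup.center P)
    (hne : Subgroup.center P ≠ ⊤) :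
    ∃ Q : Subgroup P, Nat.card P = p ^ 2 * Nat.card Q ∧ Nat.card (Subgroup.center ↥Q) = p ∧
      commutator ↥Q ≤ Subgroup.center ↥Q := by
  classical
  -- a noncentral element `x` and `y` not commuting with it
  obtain ⟨x, hx⟩ : ∃ x : P, x ∉ Subgroup.center P := by
    by_contra h
    push Not at h
    exact hne ((Subgroup.eq_top_iff' _).2 h)
  obtain ⟨y, hy⟩ : ∃ y : P, y * x ≠ x * y := by
    by_contra h
    push Not at h
    exact hx (Subgroup.mem_center_iff.2 h)
  set c : ↥(Subgroup.center P) := pairHom hle x y with hcdef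
  have hc1 : c ≠ 1 := by
    intro h
    exact hy ((pairHom_eq_one_iff hle x y).1 h)
  have hc2 : pairHom hle y x = c⁻¹ := by
    apply Subtype.ext
    rw [pairHom_apply, hcdef, Subgroup.coe_inv, pairHom_apply, cm_inv_swap]
  have hc2' : c⁻¹ ≠ 1 := by
    intro h; apply hc1; rw [← inv_inv c, h, inv_one]
  have hxx : pairHom hle x x = 1 := by apply Subtype.ext; exact cm_self x
  have hyy : pairHom hle y y = 1 := by apply Subtype.ext; exact cm_self y
  -- the product homomorphism
  let f : P →* ↥(Subgroup.center P) × ↥(Subgroup.center P) :=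
    (pairHom hle x).prod (pairHom hle y)
  have hf : ∀ q, f q = (pairHom hle x q, pairHom hle y q) := fun q => rfl
  have hsurj : Function.Surjective f := by
    rintro ⟨a, b⟩
    obtain ⟨i, hi⟩ := mem_powers_of_prime_card (g' := a) hc hc1
    obtain ⟨j, hj⟩ := mem_powers_of_prime_card (g' := b) hc hc2'
    refine ⟨y ^ i * x ^ j, ?_⟩
    rw [hf, map_mul, map_mul, map_pow, map_pow, map_pow, map_pow, hxx, hyy, hc2]
    simp only [one_pow, mul_one, one_mul]
    rw [← hcdef]
    simp only at hi hj
    rw [hi, hj]
  refine ⟨f.ker, ?_, ?_, ?_⟩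
  · have h1 : f.ker.index = Nat.card f.range := Subgroup.index_ker f
    have h2 : f.range = ⊤ := MonoidHom.range_eq_top.2 hsurj
    rw [h2, Subgroup.card_top, Nat.card_prod, hc] at h1
    rw [← Subgroup.card_mul_index f.ker, h1]
    ring
  · -- the centre of the kernel is the centre of `P`
    have hmemker : ∀ q : P, q ∈ f.ker ↔ q * x = x * q ∧ q * y = y * q := by
      intro q
      rw [MonoidHom.mem_ker, hf, Prod.mk_eq_one, pairHom_eq_one_iff, pairHom_eq_one_iff]
    have hzker : ∀ z : P, z ∈ Subgroup.center P → z ∈ f.ker := by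
      intro z hz
      rw [hmemker]
      exact ⟨(Subgroup.mem_center_iff.1 hz x).symm, (Subgroup.mem_center_iff.1 hz y).symm⟩
    have hcenQ : ∀ w : ↥f.ker, w ∈ Subgroup.center ↥f.ker → (w : P) ∈ Subgroup.center P := by
      intro w hw
      rw [Subgroup.mem_center_iff]
      intro g
      obtain ⟨⟨i, hi⟩, ⟨j, hj⟩⟩ :
          (∃ i : ℕ, c ^ i = pairHom hle x g) ∧ (∃ j : ℕ, c⁻¹ ^ j = pairHom hle y g) :=
        ⟨mem_powers_of_prime_card hc hc1, mem_powers_of_prime_card hc hc2'⟩
      -- q' := g * (y^i x^j)⁻¹ lies in the kernel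
      have hq' : g * (y ^ i * x ^ j)⁻¹ ∈ f.ker := by
        rw [MonoidHom.mem_ker, map_mul, map_inv, mul_inv_eq_one, hf, hf, map_mul, map_mul, map_pow,
          map_pow, map_pow, map_pow, hxx, hyy, hc2]
        simp only [one_pow, mul_one, one_mul]
        rw [← hcdef, hi, hj]
      have hwx : (w : P) * x = x * w := ((hmemker w).1 w.2).1
      have hwy : (w : P) * y = y * w := ((hmemker w).1 w.2).2
      have hwq : (⟨_, hq'⟩ : ↥f.ker) * w = w * ⟨_, hq'⟩ := Subgroup.mem_center_iff.1 hw _
      have hwq' : (g * (y ^ i * x ^ j)⁻¹) * (w : P) = w * (g * (y ^ i * x ^ j)⁻¹) :=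
        congrArg Subtype.val hwq
      have hwyi : (w : P) * y ^ i = y ^ i * w := (Commute.pow_right hwy i)
      have hwxj : (w : P) * x ^ j = x ^ j * w := (Commute.pow_right hwx j)
      have hwyx : (w : P) * (y ^ i * x ^ j) = (y ^ i * x ^ j) * w := by
        rw [← mul_assoc, hwyi, mul_assoc, hwxj, mul_assoc]
      calc g * (w : P) = (g * (y ^ i * x ^ j)⁻¹) * ((y ^ i * x ^ j) * w) := by group
        _ = (g * (y ^ i * x ^ j)⁻¹) * (w * (y ^ i * x ^ j)) := by rw [hwyx]
        _ = ((g * (y ^ i * x ^ j)⁻¹) * w) * (y ^ i * x ^ j) := by group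
        _ = (w * (g * (y ^ i * x ^ j)⁻¹)) * (y ^ i * x ^ j) := by rw [hwq']
        _ = w * g := by group
    let e : ↥(Subgroup.center ↥f.ker) ≃ ↥(Subgroup.center P) :=
      { toFun := fun w => ⟨(w : ↥f.ker), hcenQ w w.2⟩
        invFun := fun z => ⟨⟨z, hzker z z.2⟩, by
          rw [Subgroup.mem_center_iff]
          intro g
          apply Subtype.ext
          exact Subgroup.mem_center_iff.1 z.2 g⟩
        left_inv := fun w => rfl
        right_inv := fun z => rfl }
    rw [Nat.card_congr e, hc]
  · unfold commutator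
    rw [Subgroup.commutator_le]
    intro a _ b _
    rw [Subgroup.mem_center_iff]
    intro g
    apply Subtype.ext
    exact cm_comm hle (a : P) (b : P) g


/-- the order of a finite group with centre of prime order `p` containing the commutator
subgroup is an odd power of `p`. -/
theorem card_eq_odd_pow_aux : ∀ (N : ℕ) (P : Type u) [Group P] [Finite P], Nat.card P = N →
    Nat.card (Subgroup.center P) = p → commutator P ≤ Subgroup.center P →
    ∃ n : ℕ, Nat.card P = p ^ (2 * n + 1) := by
  intro N
  induction N using Nat.strong_induction_on with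
  | _ N ih =>
    intro P _ _ hN hc hle
    by_cases hne : Subgroup.center P = ⊤
    · refine ⟨0, ?_⟩
      rw [← hc, hne, Subgroup.card_top]
      simp
    · obtain ⟨Q, h1, h2, h3⟩ := exists_subgroup_step hc hle hne
      have hQpos : 0 < Nat.card Q := Nat.card_pos
      have hlt : Nat.card Q < N := by
        rw [← hN, h1]
        have h2p : 2 ≤ p := hp.1.two_le
        have h4 : 4 ≤ p ^ 2 := by nlinarith
        calc Nat.card Q < 4 * Nat.card Q := by omega
          _ ≤ p ^ 2 * Nat.card Q := Nat.mul_le_mul_right _ h4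
      obtain ⟨n, hn⟩ := ih (Nat.card Q) hlt ↥Q rfl h2 h3
      refine ⟨n + 1, ?_⟩
      rw [h1, hn]
      ring

theorem card_eq_odd_pow {P : Type u} [Group P] [Finite P]
    (hc : Nat.card (Subgroup.center P) = p) (hle : commutator P ≤ Subgroup.center P) :
    ∃ n : ℕ, Nat.card P = p ^ (2 * n + 1) :=
  card_eq_odd_pow_aux _ P rfl hc hle

/-- extraspecial groups have order `p ^ (2 n + 1)` with `n ≥ 1`. -/
theorem card_extraspecial {P : Type u} [Group P] [Finite P] (h : Cfsg.IsExtraspecial p P) :
    ∃ n : ℕ, 1 ≤ n ∧ Nat.card P = p ^ (2 * n + 1) := by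
  obtain ⟨⟨_, _, hcomm⟩, hc⟩ := h
  obtain ⟨n, hn⟩ := card_eq_odd_pow hc hcomm.le
  refine ⟨n, ?_, hn⟩
  by_contra h0
  have hn0 : n = 0 := by omega
  subst hn0
  have h1 : Nat.card (Subgroup.center P) = Nat.card P := by rw [hc, hn]; simp
  have h2 : Subgroup.center P = ⊤ := (Subgroup.card_eq_iff_eq_top _).1 h1
  have h3 : commutator P = ⊥ := by
    rw [commutator_def, Subgroup.commutator_eq_bot_iff_le_centralizer,
      Subgroup.coe_top, Subgroup.centralizer_univ, h2]
  rw [hcomm, h2] at h3
  have h4 : Nat.card (⊤ : Subgroup P) = 1 := by rw [h3, Subgroup.card_bot]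
  rw [← h2, hc] at h4
  exact hp.1.one_lt.ne' h4

end order

end Cfsg.Agent.Lib.Helper29
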