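import Mathlib
import Cfsg.Agent.Lib.Helper29.Extraspecial

set_option autoImplicit false

/-!
Power formula in groups of nilpotency class at most two.
-/

namespace Cfsg.Agent.Lib.Helper29

section classTwo

variable {P : Type*} [Group P] (hle : commutator P ≤ Subgroup.center P)
include hle

/-- `y ^ n * x = [y, x] ^ n * x * y ^ n` in class two -/
theorem pow_mul_comm_classTwo (x y : P) (n : ℕ) : y ^ n * x = (cm y x) ^ n * x * y ^ n := by
  rw [← cm_pow_left hle y x n]
  simp only [cm]; group

/-- the class-two power formula `(x y)^n = x^n y^n [y,x]^(n choose 2)` -/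
theorem mul_pow_classTwo (x y : P) (n : ℕ) :
    (x * y) ^ n = x ^ n * y ^ n * (cm y x) ^ (n.choose 2) := by
  induction n with
  | zero => simp
  | succ n ih =>
    have hc : ∀ g : P, g * cm y x = cm y x * g := cm_comm hle y x
    have hck : ∀ (k : ℕ) (g : P), g * (cm y x) ^ k = (cm y x) ^ k * g := fun k g =>
      (Commute.pow_right (hc g) k)
    have h1 : Nat.choose (n + 1) 2 = Nat.choose n 2 + n := by
      rw [Nat.choose_succ_succ' n 1, Nat.choose_one_right, add_comm]
    rw [h1]
    calc (x * y) ^ (n + 1) = x ^ n * y ^ n * cm y x ^ n.choose 2 * (x * y) := by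
          rw [pow_succ, ih]
      _ = x ^ n * (y ^ n * (cm y x ^ n.choose 2 * x)) * y := by group
      _ = x ^ n * (y ^ n * (x * cm y x ^ n.choose 2)) * y := by rw [hck (n.choose 2) x]
      _ = x ^ n * (y ^ n * x) * cm y x ^ n.choose 2 * y := by group
      _ = x ^ n * (cm y x ^ n * x * y ^ n) * cm y x ^ n.choose 2 * y := by
          rw [pow_mul_comm_classTwo hle x y n]
      _ = x ^ n * (cm y x ^ n * x) * (y ^ n * cm y x ^ n.choose 2) * y := by group
      _ = x ^ n * (x * cm y x ^ n) * (cm y x ^ n.choose 2 * y ^ n) * y := by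
          rw [hck n x, hck (n.choose 2) (y ^ n)]
      _ = x ^ (n + 1) * ((cm y x ^ n * cm y x ^ n.choose 2) * y ^ (n + 1)) := by
          rw [pow_succ, pow_succ]; group
      _ = x ^ (n + 1) * (y ^ (n + 1) * (cm y x ^ n * cm y x ^ n.choose 2)) := by
          rw [← pow_add, hck _ (y ^ (n + 1))]
      _ = x ^ (n + 1) * y ^ (n + 1) * cm y x ^ (n.choose 2 + n) := by
          rw [← pow_add, Nat.add_comm n (n.choose 2), mul_assoc]

/-- for an odd prime `p`, if `[y,x]^p = 1` then `(x y)^p = x^p y^p` in class two -/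
theorem mul_pow_prime_classTwo {p : ℕ} (hp : p.Prime) (hp2 : p ≠ 2) (x y : P)
    (hc : (cm y x) ^ p = 1) : (x * y) ^ p = x ^ p * y ^ p := by
  rw [mul_pow_classTwo hle x y p]
  have h2 : 2 < p := lt_of_le_of_ne hp.two_le (Ne.symm hp2)
  obtain ⟨k, hk⟩ := hp.dvd_choose_self (by norm_num : (2 : ℕ) ≠ 0) h2
  rw [hk, pow_mul, hc, one_pow, mul_one]

/-- the elements with `x^p = 1` are closed under multiplication (class two, `p` odd) -/
theorem mul_pow_prime_eq_one {p : ℕ} (hp : p.Prime) (hp2 : p ≠ 2) (x y : P)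
    (hx : x ^ p = 1) (hy : y ^ p = 1) : (x * y) ^ p = 1 := by
  have hc : (cm y x) ^ p = 1 := by
    rw [← cm_pow_left hle y x p, hy, cm_one_left]
  rw [mul_pow_prime_classTwo hle hp hp2 x y hc, hx, hy, one_mul]

theorem pow_prime_eq_one_of_mem_closure {p : ℕ} (hp : p.Prime) (hp2 : p ≠ 2) (g : P)
    (hg : g ∈ Subgroup.closure {x : P | x ^ p = 1}) : g ^ p = 1 := by
  induction hg using Subgroup.closure_induction with
  | mem x hx => exact hx
  | one => exact one_pow p
  | mul x y _ _ hx hy => exact mul_pow_prime_eq_one hle hp hp2 x y hx hy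
  | inv x _ hx => rw [inv_pow, hx, inv_one]

end classTwo

end Cfsg.Agent.Lib.Helper29
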