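import Mathlib
import Cfsg.Agent.Lib.Helper29.ClassTwo

set_option autoImplicit false

/-!
Finite `p`-groups, `p` odd, with a cyclic subgroup of index `p`:
class at most two, derived subgroup of exponent `p`, the `p`-th power map is an endomorphism,
`Ω₁` is elementary abelian of order `p²` in the non-cyclic case.
-/

namespace Cfsg.Agent.Lib.Helper29

/-- lifting the exponent: `r^p ≡ 1 mod p^m` forces `r ≡ 1 mod p` and `p (r-1) ≡ 0 mod p^m`. -/
theorem int_dvd_of_pow_prime_sub_one {p : ℕ} (hp : p.Prime) (hodd : p ≠ 2) {m : ℕ} (hm : 1 ≤ m)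
    (r : ℤ) (h : (p : ℤ) ^ m ∣ r ^ p - 1) : (p : ℤ) ∣ r - 1 ∧ (p : ℤ) ^ m ∣ p * (r - 1) := by
  have hp' : Prime (p : ℤ) := Nat.prime_iff_prime_int.mp hp
  have h1 : (p : ℤ) ∣ r ^ p - 1 := dvd_trans (dvd_pow_self _ (by omega)) h
  have h2 : (p : ℤ) ∣ r ^ p - r := by
    have := Fact.mk hp
    rw [← ZMod.intCast_zmod_eq_zero_iff_dvd]
    push_cast
    rw [ZMod.pow_card, sub_self]
  have h3 : (p : ℤ) ∣ r - 1 := by
    have : r - 1 = (r ^ p - 1) - (r ^ p - r) := by ring
    rw [this]; exact dvd_sub h1 h2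
  refine ⟨h3, ?_⟩
  have hr : ¬ (p : ℤ) ∣ r := by
    intro hd
    have : (p : ℤ) ∣ r - (r - 1) := dvd_sub hd h3
    rw [sub_sub_cancel] at this
    exact hp'.not_dvd_one this
  have hodd' : Odd p := hp.odd_of_ne_two hodd
  have key := emultiplicity_pow_prime_sub_pow_prime (R := ℤ) (x := r) (y := 1) hp' hodd'
    (by simpa using h3) hr
  rw [one_pow] at key
  rw [pow_dvd_iff_le_emultiplicity, key] at h
  obtain ⟨k, rfl⟩ : ∃ k, m = k + 1 := ⟨m - 1, by omega⟩
  have h4 : (k : ℕ∞) ≤ emultiplicity (p : ℤ) (r - 1) := by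
    have h5 : ((k : ℕ∞) + 1) ≤ emultiplicity (p : ℤ) (r - 1) + 1 := by exact_mod_cast h
    exact (ENat.add_le_add_iff_right (by simp)).mp h5
  have h6 : (p : ℤ) ^ k ∣ r - 1 := pow_dvd_of_le_emultiplicity h4
  rw [pow_succ']
  exact mul_dvd_mul_left _ h6

section cyclicNormal

variable {R : Type*} [Group R]

theorem conj_pow_zpow {g c : R} {r : ℤ} (h : g * c * g⁻¹ = c ^ r) (j : ℕ) :
    g ^ j * c * (g ^ j)⁻¹ = c ^ (r ^ j) := by
  induction j with
  | zero => simp
  | succ j ih =>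
    calc g ^ (j + 1) * c * (g ^ (j + 1))⁻¹ = g * (g ^ j * c * (g ^ j)⁻¹) * g⁻¹ := by
          rw [pow_succ']; group
      _ = g * c ^ (r ^ j) * g⁻¹ := by rw [ih]
      _ = (g * c * g⁻¹) ^ (r ^ j) := by rw [conj_zpow]
      _ = c ^ (r ^ (j + 1)) := by rw [h, ← zpow_mul, pow_succ']

/-- conjugation on a cyclic normal subgroup `⟨c⟩` of order `p^m` by an element whose `p`-th power
lies in `⟨c⟩`: `g c g⁻¹ = c^(1+ps)` with `c^(p·ps) = 1`. -/
theorem exists_conj_eq_zpow {p : ℕ} (hp : p.Prime) (hodd : p ≠ 2) {m : ℕ}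
    (C : Subgroup R) [hCn : C.Normal] (c : R) (hc : Subgroup.zpowers c = C)
    (hord : orderOf c = p ^ m) (g : R) (hg : g ^ p ∈ C) :
    ∃ s : ℤ, g * c * g⁻¹ = c ^ (1 + (p : ℤ) * s) ∧ c ^ ((p : ℤ) * ((p : ℤ) * s)) = 1 := by
  rcases Nat.eq_zero_or_pos m with hm0 | hm
  · have hc1 : c = 1 := by
      rw [hm0, pow_zero, orderOf_eq_one_iff] at hord; exact hord
    exact ⟨0, by simp [hc1], by simp [hc1]⟩
  have hcC : c ∈ C := hc ▸ Subgroup.mem_zpowers c
  have h1 : g * c * g⁻¹ ∈ Subgroup.zpowers c := hc ▸ hCn.conj_mem c hcC g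
  obtain ⟨r, hr⟩ := Subgroup.mem_zpowers_iff.mp h1
  have hr' : g * c * g⁻¹ = c ^ r := hr.symm
  have h2 := conj_pow_zpow hr' p
  obtain ⟨k, hk⟩ := Subgroup.mem_zpowers_iff.mp (hc ▸ hg : g ^ p ∈ Subgroup.zpowers c)
  have h3 : g ^ p * c * (g ^ p)⁻¹ = c := by
    rw [← hk, ← zpow_neg, ← zpow_add_one, ← zpow_add]
    have : k + 1 + -k = 1 := by ring
    rw [this, zpow_one]
  rw [h3] at h2
  have h4 : c ^ (r ^ p - 1) = 1 := by
    rw [zpow_sub_one, ← h2, mul_inv_cancel]
  have h5 : ((orderOf c : ℕ) : ℤ) ∣ r ^ p - 1 := orderOf_dvd_iff_zpow_eq_one.mpr h4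
  rw [hord] at h5
  push_cast at h5
  obtain ⟨⟨s, hs⟩, h7⟩ := int_dvd_of_pow_prime_sub_one hp hodd hm r h5
  refine ⟨s, ?_, ?_⟩
  · rw [hr']; congr 1; linarith
  · rw [← hs]
    apply orderOf_dvd_iff_zpow_eq_one.mp
    rw [hord]; push_cast; exact h7

/-- the elements of order dividing `p` of a commutative subgroup -/
def omegaSub (C : Subgroup R) (hab : ∀ x ∈ C, ∀ y ∈ C, x * y = y * x) (p : ℕ) : Subgroup R where
  carrier := {z | z ∈ C ∧ z ^ p = 1}
  one_mem' := ⟨C.one_mem, one_pow p⟩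
  mul_mem' := by
    rintro a b ⟨ha, ha'⟩ ⟨hb, hb'⟩
    have hcomm : Commute a b := hab a ha b hb
    exact ⟨C.mul_mem ha hb, by rw [hcomm.mul_pow, ha', hb', one_mul]⟩
  inv_mem' := by
    rintro a ⟨ha, ha'⟩
    exact ⟨C.inv_mem ha, by rw [inv_pow, ha', inv_one]⟩

theorem mem_omegaSub {C : Subgroup R} {hab : ∀ x ∈ C, ∀ y ∈ C, x * y = y * x} {p : ℕ} {z : R} :
    z ∈ omegaSub C hab p ↔ z ∈ C ∧ z ^ p = 1 := Iff.rfl

theorem zpowers_comm (c : R) : ∀ x ∈ Subgroup.zpowers c, ∀ y ∈ Subgroup.zpowers c, x * y = y * x := by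
  intro x hx y hy
  obtain ⟨i, rfl⟩ := Subgroup.mem_zpowers_iff.mp hx
  obtain ⟨j, rfl⟩ := Subgroup.mem_zpowers_iff.mp hy
  rw [← zpow_add, ← zpow_add, add_comm]

/-- `[g, x] = x^(ps)` on the cyclic normal subgroup -/
theorem exists_cm_eq_zpow {p : ℕ} (hp : p.Prime) (hodd : p ≠ 2) {m : ℕ}
    (C : Subgroup R) [hCn : C.Normal] (c : R) (hc : Subgroup.zpowers c = C)
    (hord : orderOf c = p ^ m) (g : R) (hg : g ^ p ∈ C) :
    ∃ s : ℤ, (∀ x ∈ C, cm g x = x ^ ((p : ℤ) * s)) ∧ (∀ x ∈ C, x ^ ((p : ℤ) * ((p : ℤ) * s)) = 1) := by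
  obtain ⟨s, hs1, hs2⟩ := exists_conj_eq_zpow hp hodd C c hc hord g hg
  refine ⟨s, ?_, ?_⟩
  · intro x hx
    obtain ⟨i, rfl⟩ := Subgroup.mem_zpowers_iff.mp (hc ▸ hx : x ∈ Subgroup.zpowers c)
    calc cm g (c ^ i) = (g * c ^ i * g⁻¹) * (c ^ i)⁻¹ := rfl
      _ = (g * c * g⁻¹) ^ i * (c ^ i)⁻¹ := by rw [conj_zpow]
      _ = (c ^ (1 + (p : ℤ) * s)) ^ i * (c ^ i)⁻¹ := by rw [hs1]
      _ = (c ^ i) ^ ((p : ℤ) * s) := by
        rw [← zpow_mul, ← zpow_neg, ← zpow_add, ← zpow_mul]; congr 1; ring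
  · intro x hx
    obtain ⟨i, rfl⟩ := Subgroup.mem_zpowers_iff.mp (hc ▸ hx : x ∈ Subgroup.zpowers c)
    rw [← zpow_mul, mul_comm, zpow_mul, hs2, one_zpow]

theorem cm_mem_omegaSub {p : ℕ} (hp : p.Prime) (hodd : p ≠ 2) {m : ℕ}
    (C : Subgroup R) [hCn : C.Normal] (c : R) (hc : Subgroup.zpowers c = C)
    (hord : orderOf c = p ^ m) (hab : ∀ x ∈ C, ∀ y ∈ C, x * y = y * x)
    (g : R) (hg : g ^ p ∈ C) (x : R) (hx : x ∈ C) : cm g x ∈ omegaSub C hab p := by
  obtain ⟨s, hs1, hs2⟩ := exists_cm_eq_zpow hp hodd C c hc hord g hg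
  rw [mem_omegaSub, hs1 x hx]
  refine ⟨C.zpow_mem hx _, ?_⟩
  rw [← zpow_natCast, ← zpow_mul, mul_comm]
  exact hs2 x hx

theorem omegaSub_le_center {p : ℕ} (hp : p.Prime) (hodd : p ≠ 2) {m : ℕ}
    (C : Subgroup R) [hCn : C.Normal] (c : R) (hc : Subgroup.zpowers c = C)
    (hord : orderOf c = p ^ m) (hab : ∀ x ∈ C, ∀ y ∈ C, x * y = y * x)
    (hpow : ∀ g : R, g ^ p ∈ C) : omegaSub C hab p ≤ Subgroup.center R := by
  intro z hz
  rw [mem_omegaSub] at hz
  rw [Subgroup.mem_center_iff]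
  intro g
  obtain ⟨s, hs1, -⟩ := exists_cm_eq_zpow hp hodd C c hc hord g (hpow g)
  have h1 : cm g z = 1 := by
    rw [hs1 z hz.1, zpow_mul, zpow_natCast, hz.2, one_zpow]
  exact (cm_eq_one_iff g z).mp h1

theorem normal_of_le_center' {H : Subgroup R} (h : H ≤ Subgroup.center R) : H.Normal :=
  ⟨fun n hn g => by
    have := (Subgroup.mem_center_iff.mp (h hn)) g
    rw [this, mul_inv_cancel_right]; exact hn⟩

/-- all commutators lie in `Ω₁(C)` -/
theorem cm_mem_omegaSub_of_index_prime {p : ℕ} [hpf : Fact p.Prime] (hodd : p ≠ 2) {m : ℕ}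
    (C : Subgroup R) [hCn : C.Normal] (c : R) (hc : Subgroup.zpowers c = C)
    (hord : orderOf c = p ^ m) (hab : ∀ x ∈ C, ∀ y ∈ C, x * y = y * x)
    (hCi : C.index = p) (x y : R) : cm x y ∈ omegaSub C hab p := by
  have hp : p.Prime := hpf.out
  have hpow : ∀ g : R, g ^ p ∈ C := fun g => hCi ▸ C.pow_index_mem g
  set Z0 := omegaSub C hab p with hZ0
  have hZc : Z0 ≤ Subgroup.center R := omegaSub_le_center hp hodd C c hc hord hab hpow
  have hZn : Z0.Normal := normal_of_le_center' hZc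
  have hle : Z0 ≤ C.comap (MonoidHom.id R) := fun z hz => (mem_omegaSub.mp hz).1
  let f : R ⧸ Z0 →* R ⧸ C := QuotientGroup.map Z0 C (MonoidHom.id R) hle
  have : IsCyclic (R ⧸ C) := by
    apply isCyclic_of_prime_card (p := p)
    rw [← Subgroup.index_eq_card, hCi]
  have hf : f.ker ≤ Subgroup.center (R ⧸ Z0) := by
    intro q hq
    induction q using QuotientGroup.induction_on with
    | H u =>
      rw [MonoidHom.mem_ker] at hq
      have hu : u ∈ C := by
        have : f (QuotientGroup.mk u) = QuotientGroup.mk u := rfl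
        rw [this] at hq
        exact (QuotientGroup.eq_one_iff u).mp hq
      rw [Subgroup.mem_center_iff]
      intro q'
      induction q' using QuotientGroup.induction_on with
      | H v =>
        rw [← QuotientGroup.mk_mul, ← QuotientGroup.mk_mul, QuotientGroup.eq]
        have : (v * u)⁻¹ * (u * v) = (cm v⁻¹ u⁻¹)⁻¹ := by simp only [cm]; group
        rw [this]
        exact Z0.inv_mem (cm_mem_omegaSub hp hodd C c hc hord hab v⁻¹ (hpow _) u⁻¹ (C.inv_mem hu))
  have hcomm : ∀ a b : R ⧸ Z0, a * b = b * a :=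
    (MonoidHom.isMulCommutative_of_isCyclic_of_ker_le_center f hf).is_comm.comm
  have h1 : (QuotientGroup.mk (cm x y) : R ⧸ Z0) = 1 := by
    simp only [cm, QuotientGroup.mk_mul, QuotientGroup.mk_inv]
    rw [hcomm (QuotientGroup.mk x) (QuotientGroup.mk y)]
    group
  exact (QuotientGroup.eq_one_iff _).mp h1

/-- data of a cyclic subgroup of index `p` in a finite `p`-group: it is normal, generated by some
`c` of order `p^m`, and `|R| = p^(m+1)`. -/
theorem exists_generator_of_cyclic_index_prime [Finite R] {p : ℕ} [hpf : Fact p.Prime]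
    (hR : IsPGroup p R) (C : Subgroup R) (hC : IsCyclic C) (hCi : C.index = p) :
    C.Normal ∧ ∃ (c : R) (m : ℕ), Subgroup.zpowers c = C ∧ orderOf c = p ^ m ∧
      Nat.card R = p ^ (m + 1) := by
  have hp : p.Prime := hpf.out
  obtain ⟨n, hn⟩ := IsPGroup.iff_card.mp hR
  obtain ⟨m, hm⟩ := IsPGroup.iff_card.mp (hR.to_subgroup C)
  have hmul : Nat.card C * C.index = Nat.card R := C.card_mul_index
  rw [hm, hCi, hn, ← pow_succ] at hmul
  have hnm : m + 1 = n := Nat.pow_right_injective hp.two_le hmul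
  subst hnm
  have hnorm : C.Normal := by
    apply Subgroup.normal_of_index_eq_minFac_card
    rw [hCi, hn, hp.pow_minFac (by omega)]
  obtain ⟨c, hc⟩ := (Subgroup.isCyclic_iff_exists_zpowers_eq_top C).mp hC
  refine ⟨hnorm, c, m, hc, ?_, hn⟩
  rw [← Nat.card_zpowers, hc, hm]

/-- **structure**: a finite `p`-group, `p` odd, with a cyclic subgroup of index `p` has class at most
two and all its commutators have order dividing `p`. -/
theorem classTwo_of_cyclic_index_prime [Finite R] {p : ℕ} [hpf : Fact p.Prime] (hodd : p ≠ 2)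
    (hR : IsPGroup p R) (C : Subgroup R) (hC : IsCyclic C) (hCi : C.index = p) :
    commutator R ≤ Subgroup.center R ∧ ∀ x y : R, (cm x y) ^ p = 1 := by
  have hp : p.Prime := hpf.out
  obtain ⟨hnorm, c, m, hc, hord, -⟩ := exists_generator_of_cyclic_index_prime hR C hC hCi
  have hab : ∀ x ∈ C, ∀ y ∈ C, x * y = y * x := hc ▸ zpowers_comm c
  have hpow : ∀ g : R, g ^ p ∈ C := fun g => hCi ▸ C.pow_index_mem g
  have key : ∀ x y : R, cm x y ∈ omegaSub C hab p :=
    cm_mem_omegaSub_of_index_prime hodd C c hc hord hab hCi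
  have hZc : omegaSub C hab p ≤ Subgroup.center R :=
    omegaSub_le_center hp hodd C c hc hord hab hpow
  refine ⟨?_, fun x y => (mem_omegaSub.mp (key x y)).2⟩
  rw [commutator_def, Subgroup.commutator_le]
  intro a _ b _
  exact hZc (key a b)

/-- the `p`-th power endomorphism of a class two group whose commutators have order dividing `p` -/
def powHom {p : ℕ} (hp : p.Prime) (hp2 : p ≠ 2) (hle : commutator R ≤ Subgroup.center R)
    (hc : ∀ x y : R, (cm x y) ^ p = 1) : R →* R where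
  toFun x := x ^ p
  map_one' := one_pow p
  map_mul' x y := mul_pow_prime_classTwo hle hp hp2 x y (hc y x)

theorem powHom_apply {p : ℕ} (hp : p.Prime) (hp2 : p ≠ 2) (hle : commutator R ≤ Subgroup.center R)
    (hc : ∀ x y : R, (cm x y) ^ p = 1) (x : R) : powHom hp hp2 hle hc x = x ^ p := rfl

/-- **`Ω₁`**: in a non-cyclic finite `p`-group, `p` odd, with a cyclic subgroup of index `p`, the
elements of order dividing `p` form a subgroup of order `p²`. -/
theorem exists_omega_card_sq [Finite R] {p : ℕ} [hpf : Fact p.Prime] (hodd : p ≠ 2)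
    (hR : IsPGroup p R) (hnc : ¬ IsCyclic R) (C : Subgroup R) (hC : IsCyclic C) (hCi : C.index = p) :
    ∃ W : Subgroup R, (∀ x, x ∈ W ↔ x ^ p = 1) ∧ Nat.card W = p ^ 2 := by
  have hp : p.Prime := hpf.out
  obtain ⟨hle, hcm⟩ := classTwo_of_cyclic_index_prime hodd hR C hC hCi
  obtain ⟨hnorm, c, m, hc, hord, hcard⟩ := exists_generator_of_cyclic_index_prime hR C hC hCi
  have hpow : ∀ g : R, g ^ p ∈ C := fun g => hCi ▸ C.pow_index_mem g
  set φ := powHom hp hodd hle hcm with hφ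
  refine ⟨φ.ker, fun x => by rw [MonoidHom.mem_ker]; rfl, ?_⟩
  -- m ≥ 1
  have hm : 1 ≤ m := by
    by_contra h
    have hm0 : m = 0 := by omega
    apply hnc
    apply isCyclic_of_prime_card (p := p)
    rw [hcard, hm0]; simp
  have hcardC : Nat.card C = p ^ m := by rw [← hc, Nat.card_zpowers, hord]
  -- range φ ≤ C
  have hrC : φ.range ≤ C := by
    rintro _ ⟨x, rfl⟩
    exact hpow x
  -- zpowers (c^p) ≤ range φ
  have hzr : Subgroup.zpowers (c ^ p) ≤ φ.range := by
    rw [Subgroup.zpowers_le]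
    exact ⟨c, rfl⟩
  have hordcp : orderOf (c ^ p) = p ^ (m - 1) := by
    rw [orderOf_pow' c hp.ne_zero, hord]
    obtain ⟨k, rfl⟩ : ∃ k, m = k + 1 := ⟨m - 1, by omega⟩
    have : Nat.gcd (p ^ (k + 1)) p = p := Nat.gcd_eq_right (dvd_pow_self p (by omega))
    rw [this, pow_succ, Nat.mul_div_cancel _ hp.pos]
    simp
  have hd1 : p ^ (m - 1) ∣ Nat.card φ.range := by
    have := Subgroup.card_dvd_of_le hzr
    rwa [Nat.card_zpowers, hordcp] at this
  have hd2 : Nat.card φ.range ∣ p ^ m := by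
    have := Subgroup.card_dvd_of_le hrC
    rwa [hcardC] at this
  obtain ⟨j, hj, hj2⟩ := (Nat.dvd_prime_pow hp).mp hd2
  have hj1 : m - 1 ≤ j := by
    rw [hj2] at hd1
    exact (Nat.pow_dvd_pow_iff_le_right hp.one_lt).mp hd1
  have hjm : j ≠ m := by
    intro hjm
    have hrange : φ.range = C := by
      apply Subgroup.eq_of_le_of_card_ge hrC
      rw [hcardC, hj2, hjm]
    have hcr : c ∈ φ.range := by
      rw [hrange, ← hc]; exact Subgroup.mem_zpowers c
    obtain ⟨h, hh⟩ := hcr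
    change h ^ p = c at hh
    obtain ⟨k, hk⟩ := IsPGroup.iff_orderOf.mp hR h
    have hk1 : k ≠ 0 := by
      intro hk0
      rw [hk0, pow_zero, orderOf_eq_one_iff] at hk
      rw [hk, one_pow] at hh
      rw [← hh, orderOf_one] at hord
      have : 1 < p ^ m := Nat.one_lt_pow (by omega) hp.one_lt
      omega
    have h2 : orderOf (h ^ p) = p ^ (k - 1) := by
      rw [orderOf_pow' h hp.ne_zero, hk]
      obtain ⟨k', rfl⟩ : ∃ k', k = k' + 1 := ⟨k - 1, by omega⟩
      have : Nat.gcd (p ^ (k' + 1)) p = p := Nat.gcd_eq_right (dvd_pow_self p (by omega))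
      rw [this, pow_succ, Nat.mul_div_cancel _ hp.pos]
      simp
    rw [hh, hord] at h2
    have h3 : m = k - 1 := Nat.pow_right_injective hp.two_le h2
    apply hnc
    apply isCyclic_of_orderOf_eq_card h
    rw [hk, hcard]
    congr 1
    omega
  have hj3 : j = m - 1 := by omega
  have hmul : Nat.card φ.ker * Nat.card φ.range = Nat.card R := by
    rw [← Subgroup.index_ker]; exact Subgroup.card_mul_index _
  rw [hj2, hj3, hcard] at hmul
  have : p ^ (m + 1) = p ^ 2 * p ^ (m - 1) := by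
    rw [← pow_add]; congr 1; omega
  rw [this] at hmul
  exact Nat.eq_of_mul_eq_mul_right (pow_pos hp.pos _) hmul

/-- a subgroup of exponent dividing `p` of a cyclic group has order dividing `p` -/
theorem card_dvd_of_le_zpowers_of_pow_eq_one {p : ℕ} (W : Subgroup R) (c : R)
    (hW : W ≤ Subgroup.zpowers c) (hexp : ∀ x ∈ W, x ^ p = 1) : Nat.card W ∣ p := by
  have hcyc : IsCyclic W := Subgroup.isCyclic_of_le hW
  obtain ⟨g, hg⟩ := hcyc.exists_generator
  rw [← orderOf_eq_card_of_forall_mem_zpowers hg]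
  apply orderOf_dvd_of_pow_eq_one
  apply Subtype.ext
  have := hexp g g.2
  simpa using this

/-- a group with a central cyclic subgroup... : if `c` commutes with an element outside `⟨c⟩` and
`⟨c⟩` has prime index then the group is commutative. -/
theorem comm_of_commute_of_index_prime {p : ℕ} [hpf : Fact p.Prime] (C : Subgroup R) [hCn : C.Normal]
    (c : R) (hc : Subgroup.zpowers c = C) (hCi : C.index = p) (b : R) (hb : b ∉ C)
    (hbc : b * c = c * b) : ∀ x y : R, x * y = y * x := by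
  have hp : p.Prime := hpf.out
  -- the centralizer of c is everything
  set K := Subgroup.centralizer ({c} : Set R) with hK
  have hCK : C ≤ K := by
    rw [← hc, Subgroup.zpowers_le, hK, Subgroup.mem_centralizer_singleton_iff]
  have hbK : b ∈ K := by
    rw [hK, Subgroup.mem_centralizer_singleton_iff]; exact hbc
  have h1 : C.relIndex K * K.index = C.index := Subgroup.relIndex_mul_index hCK
  rw [hCi] at h1
  have hKi : K.index = 1 := by
    rcases (Nat.dvd_prime hp).mp ⟨_, h1.symm.trans (mul_comm _ _)⟩ with h | h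
    · exact h
    · exfalso
      rw [h] at h1
      have h2 : C.relIndex K = 1 := by
        have := Nat.eq_of_mul_eq_mul_right hp.pos (h1.trans (one_mul p).symm)
        exact this
      exact hb (Subgroup.relIndex_eq_one.mp h2 hbK)
  have hKtop : K = ⊤ := Subgroup.index_eq_one.mp hKi
  have hcen : C ≤ Subgroup.center R := by
    rw [← hc, Subgroup.zpowers_le, Subgroup.mem_center_iff]
    intro g
    have : g ∈ K := hKtop ▸ Subgroup.mem_top g
    rw [hK, Subgroup.mem_centralizer_singleton_iff] at this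
    exact this
  have : IsCyclic (R ⧸ C) := by
    apply isCyclic_of_prime_card (p := p)
    rw [← Subgroup.index_eq_card, hCi]
  have hker : (QuotientGroup.mk' C).ker ≤ Subgroup.center R := by
    rw [QuotientGroup.ker_mk']; exact hcen
  exact (MonoidHom.isMulCommutative_of_isCyclic_of_ker_le_center (QuotientGroup.mk' C) hker).is_comm.comm

end cyclicNormal

end Cfsg.Agent.Lib.Helper29
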