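import Mathlib
import Cfsg.Agent.Lib.Helper32.PGroupCenter

set_option autoImplicit false

/-!
Normal subgroups of finite `p`-groups: a nontrivial normal subgroup `T` contains a normal subgroup
of the whole group of index `p` in `T`.
-/

namespace Cfsg.Agent.Lib.Helper29

theorem exists_pow_orderOf_eq_prime {G : Type*} [Group G] {p : ℕ} (hp : p.Prime) {x : G}
    (hx : ∃ k, orderOf x = p ^ k) (hx1 : x ≠ 1) : ∃ j : ℕ, orderOf (x ^ j) = p := by
  obtain ⟨k, hk⟩ := hx
  have hk0 : k ≠ 0 := by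
    intro h0
    rw [h0, pow_zero, orderOf_eq_one_iff] at hk
    exact hx1 hk
  obtain ⟨k', rfl⟩ : ∃ k', k = k' + 1 := ⟨k - 1, by omega⟩
  refine ⟨p ^ k', ?_⟩
  rw [orderOf_pow_of_dvd (pow_pos hp.pos k').ne' (by rw [hk]; exact pow_dvd_pow p (by omega)), hk,
    pow_succ, Nat.mul_div_cancel_left _ (pow_pos hp.pos k')]

/-- In a finite `p`-group, a nontrivial normal subgroup `T` has a subgroup `M`, normal in the whole
group, with `[T : M] = p`. -/
theorem exists_normal_relIndex_prime {R : Type*} [Group R] [Finite R] {p : ℕ} [hpf : Fact p.Prime]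
    (hR : IsPGroup p R) (T : Subgroup R) [hT : T.Normal] (hT1 : T ≠ ⊥) :
    ∃ M : Subgroup R, M.Normal ∧ M < T ∧ M.relIndex T = p := by
  have hp : p.Prime := hpf.out
  have hbot : (⊥ : Subgroup R).Normal ∧ (⊥ : Subgroup R) < T := ⟨inferInstance, bot_lt_iff_ne_bot.mpr hT1⟩
  obtain ⟨M, -, ⟨hMn, hMT⟩, hmax⟩ :=
    Finite.exists_le_maximal (p := fun M : Subgroup R => M.Normal ∧ M < T) hbot
  have := hMn
  refine ⟨M, hMn, hMT, ?_⟩
  set π := QuotientGroup.mk' M with hπ
  have hπs : Function.Surjective π := QuotientGroup.mk'_surjective M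
  have hker : π.ker = M := QuotientGroup.ker_mk' M
  have hQ : IsPGroup p (R ⧸ M) := hR.to_quotient M
  have hTbar : (T.map π).Normal := hT.map π hπs
  have hTbar1 : T.map π ≠ ⊥ := by
    intro h
    rw [Subgroup.map_eq_bot_iff, hker] at h
    exact absurd hMT (not_lt_of_ge h)
  obtain ⟨x, hxT, hxZ, hx1⟩ :=
    Cfsg.Agent.Lib.Helper32.exists_ne_one_mem_normal_inf_center hQ (T.map π) hTbar1
  obtain ⟨j, hj⟩ := exists_pow_orderOf_eq_prime hp (IsPGroup.iff_orderOf.mp hQ x) hx1
  set y := x ^ j with hy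
  have hyT : y ∈ T.map π := Subgroup.pow_mem _ hxT j
  have hyZ : y ∈ Subgroup.center (R ⧸ M) := Subgroup.pow_mem _ hxZ j
  set Y := Subgroup.zpowers y with hY
  have hYn : Y.Normal := by
    refine ⟨fun n hn g => ?_⟩
    obtain ⟨i, rfl⟩ := Subgroup.mem_zpowers_iff.mp hn
    have hc : g * y ^ i = y ^ i * g := (Subgroup.mem_center_iff.mp (Subgroup.zpow_mem _ hyZ i)) g
    rw [hc, mul_inv_cancel_right]
    exact Subgroup.zpow_mem _ (Subgroup.mem_zpowers y) i
  set N := Y.comap π with hN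
  have hNn : N.Normal := hYn.comap π
  have hMN : M ≤ N := by
    rw [← hker]; exact Subgroup.ker_le_comap π Y
  have hNT : N ≤ T := by
    intro n hn
    have h1 : π n ∈ T.map π := (Subgroup.zpowers_le.mpr hyT) hn
    obtain ⟨t, ht, htn⟩ := h1
    have h2 : t⁻¹ * n ∈ M := by
      rw [← hker, MonoidHom.mem_ker, map_mul, map_inv, htn, inv_mul_cancel]
    have : n = t * (t⁻¹ * n) := by group
    rw [this]
    exact T.mul_mem ht (hMT.le h2)
  have hNM : ¬ N ≤ M := by
    intro h
    obtain ⟨y', hy'⟩ := hπs y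
    have h1 : y' ∈ N := by
      change π y' ∈ Y
      rw [hy']; exact Subgroup.mem_zpowers y
    have h2 : π y' = 1 := by
      rw [← MonoidHom.mem_ker, hker]; exact h h1
    have h3 : y = 1 := by rw [← hy', h2]
    rw [h3, orderOf_one] at hj
    exact hp.one_lt.ne hj
  have hNeqT : N = T := by
    by_contra hne
    exact hNM (hmax ⟨hNn, lt_of_le_of_ne hNT hne⟩ hMN)
  have h1 : M.relIndex T = (⊥ : Subgroup (R ⧸ M)).relIndex (T.map π) := by
    rw [← Subgroup.relIndex_comap, MonoidHom.comap_bot, hker]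
  rw [h1, Subgroup.relIndex_bot_left, ← hNeqT, hN, Subgroup.map_comap_eq_self_of_surjective hπs,
    hY, Nat.card_zpowers, hj]

end Cfsg.Agent.Lib.Helper29
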