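import Mathlib

set_option autoImplicit false

/-!
Gluing isomorphisms along central products: if `P₁ = Q₁ H₁` and `P₂ = Q₂ H₂` with the factors
commuting elementwise, isomorphisms `Q₁ ≃* Q₂` and `H₁ ≃* H₂` which agree on the intersections
glue to an isomorphism `P₁ ≃* P₂`.
-/

namespace Cfsg.Agent.Lib.Helper29

theorem glue_central_product {P₁ : Type*} {P₂ : Type*} [Group P₁] [Group P₂]
    (Q₁ H₁ : Subgroup P₁) (Q₂ H₂ : Subgroup P₂)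
    (hc₁ : ∀ q ∈ Q₁, ∀ h ∈ H₁, q * h = h * q) (hc₂ : ∀ q ∈ Q₂, ∀ h ∈ H₂, q * h = h * q)
    (hg₁ : ∀ g : P₁, ∃ q ∈ Q₁, ∃ h ∈ H₁, g = q * h)
    (hg₂ : ∀ g : P₂, ∃ q ∈ Q₂, ∃ h ∈ H₂, g = q * h)
    (φ : Q₁ ≃* Q₂) (ψ : H₁ ≃* H₂)
    (hcompat : ∀ (q : Q₁) (h : H₁), (q : P₁) = (h : P₁) → ((φ q : Q₂) : P₂) = ((ψ h : H₂) : P₂))
    (hcompat' : ∀ (q : Q₂) (h : H₂), (q : P₂) = (h : P₂) →
      ((φ.symm q : Q₁) : P₁) = ((ψ.symm h : H₁) : P₁)) :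
    Nonempty (P₁ ≃* P₂) := by
  let μ : Q₁ × H₁ →* P₁ := Q₁.subtype.noncommCoprod H₁.subtype (fun q h => hc₁ q q.2 h h.2)
  let F : Q₁ × H₁ →* P₂ :=
    (Q₂.subtype.comp φ.toMonoidHom).noncommCoprod (H₂.subtype.comp ψ.toMonoidHom)
      (fun q h => hc₂ _ (φ q).2 _ (ψ h).2)
  have hμ : ∀ w : Q₁ × H₁, μ w = (w.1 : P₁) * (w.2 : P₁) := fun w => rfl
  have hF : ∀ w : Q₁ × H₁, F w = ((φ w.1 : Q₂) : P₂) * ((ψ w.2 : H₂) : P₂) := fun w => rfl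
  have hsurj : Function.Surjective μ := by
    intro g
    obtain ⟨q, hq, h, hh, rfl⟩ := hg₁ g
    exact ⟨(⟨q, hq⟩, ⟨h, hh⟩), rfl⟩
  have hker : μ.ker ≤ F.ker := by
    intro w hw
    rw [MonoidHom.mem_ker, hμ] at hw
    rw [MonoidHom.mem_ker, hF]
    have h1 : (w.1 : P₁) = ((w.2⁻¹ : H₁) : P₁) := by
      rw [Subgroup.coe_inv]
      exact eq_inv_of_mul_eq_one_left hw
    have h2 := hcompat w.1 w.2⁻¹ h1
    rw [h2, map_inv, Subgroup.coe_inv, inv_mul_cancel]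
  let f : P₁ →* P₂ :=
    μ.liftOfRightInverse (Function.surjInv hsurj) (Function.rightInverse_surjInv hsurj) ⟨F, hker⟩
  have hf : ∀ w : Q₁ × H₁, f (μ w) = F w := fun w =>
    μ.liftOfRightInverse_comp_apply (Function.surjInv hsurj) (Function.rightInverse_surjInv hsurj)
      ⟨F, hker⟩ w
  have hfsurj : Function.Surjective f := by
    intro g
    obtain ⟨q, hq, h, hh, rfl⟩ := hg₂ g
    refine ⟨μ (φ.symm ⟨q, hq⟩, ψ.symm ⟨h, hh⟩), ?_⟩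
    rw [hf, hF]
    simp
  have hfinj : Function.Injective f := by
    rw [injective_iff_map_eq_one]
    intro g hg
    obtain ⟨w, rfl⟩ := hsurj g
    rw [hf, hF] at hg
    have h1 : ((φ w.1 : Q₂) : P₂) = (((ψ w.2)⁻¹ : H₂) : P₂) := by
      rw [Subgroup.coe_inv]
      exact eq_inv_of_mul_eq_one_left hg
    have h2 := hcompat' (φ w.1) (ψ w.2)⁻¹ h1
    rw [MulEquiv.symm_apply_apply, map_inv, MulEquiv.symm_apply_apply, Subgroup.coe_inv] at h2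
    rw [hμ, h2, inv_mul_cancel]
  exact ⟨MulEquiv.ofBijective f ⟨hfinj, hfsurj⟩⟩

end Cfsg.Agent.Lib.Helper29
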