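import Mathlib
import Cfsg.Agent.Lib.Helper29.Extraspecial
import Cfsg.Agent.Lib.Helper29.CentralProd

set_option autoImplicit false

/-!
Groups with centre `{1, z}` of order two containing the commutator subgroup (the cyclic group of
order two and the extraspecial `2`-groups): decomposition as a central product along a
non-commuting pair.
-/

namespace Cfsg.Agent.Lib.Helper29

/-- `P` has centre `{1, z}` with `z ≠ 1`, containing the commutator subgroup. -/
structure IsE2 (P : Type*) [Group P] (z : P) : Prop where
  mem : z ∈ Subgroup.center P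
  ne : z ≠ 1
  all : ∀ w ∈ Subgroup.center P, w = 1 ∨ w = z
  comm : commutator P ≤ Subgroup.center P

theorem IsE2.exists_of_card {P : Type*} [Group P] (hc : Nat.card (Subgroup.center P) = 2)
    (hle : commutator P ≤ Subgroup.center P) : ∃ z : P, IsE2 P z := by
  obtain ⟨z, hz, hzu⟩ := (Nat.card_eq_two_iff' (1 : Subgroup.center P)).mp hc
  refine ⟨z, z.2, fun h => hz (Subtype.ext h), fun w hw => ?_, hle⟩
  by_cases hw1 : w = 1
  · exact Or.inl hw1
  · right
    have := hzu ⟨w, hw⟩ (fun h => hw1 (congrArg Subtype.val h))
    exact congrArg Subtype.val this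

theorem mul_sq_of_comm {P : Type*} [Group P] {a b : P} (hab : a * b = b * a) :
    (a * b) * (a * b) = (a * a) * (b * b) := by
  calc (a * b) * (a * b) = a * (b * a) * b := by group
    _ = a * (a * b) * b := by rw [hab]
    _ = (a * a) * (b * b) := by group

namespace IsE2

variable {P : Type*} [Group P] {z : P} (h : IsE2 P z)
include h

theorem zcomm (g : P) : g * z = z * g := Subgroup.mem_center_iff.mp h.mem g

theorem sq : z * z = 1 := by
  rcases h.all (z * z) (Subgroup.mul_mem _ h.mem h.mem) with h1 | h1
  · exact h1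
  · exfalso
    apply h.ne
    have : z * z = z * 1 := by rw [h1, mul_one]
    exact mul_left_cancel this

theorem zinv : z⁻¹ = z := inv_eq_of_mul_eq_one_right h.sq

theorem card_center : Nat.card (Subgroup.center P) = 2 := by
  rw [Nat.card_eq_two_iff' (1 : Subgroup.center P)]
  refine ⟨⟨z, h.mem⟩, fun hz => h.ne (congrArg Subtype.val hz), ?_⟩
  intro w hw
  rcases h.all w w.2 with h1 | h1
  · exact absurd (Subtype.ext h1) hw
  · exact Subtype.ext h1

theorem cm_cases (a b : P) : cm a b = 1 ∨ cm a b = z := h.all _ (cm_mem_center h.comm a b)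

theorem cm_eq_z {a b : P} (hab : a * b ≠ b * a) : cm a b = z := by
  rcases h.cm_cases a b with h1 | h1
  · exact absurd ((cm_eq_one_iff a b).mp h1) hab
  · exact h1

theorem mul_eq_z_mul {a b : P} (hab : a * b ≠ b * a) : a * b = z * (b * a) := by
  have h1 := h.cm_eq_z hab
  calc a * b = (a * b * a⁻¹ * b⁻¹) * (b * a) := by group
    _ = z * (b * a) := by rw [← cm_def, h1]

theorem sq_mem_center (g : P) : g * g ∈ Subgroup.center P := by
  rw [Subgroup.mem_center_iff]
  intro k
  have h1 : cm (g ^ 2) k = (cm g k) ^ 2 := cm_pow_left h.comm g k 2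
  have h2 : (cm g k) ^ 2 = 1 := by
    rcases h.cm_cases g k with h3 | h3
    · rw [h3, one_pow]
    · rw [h3, pow_two, h.sq]
  rw [h2, cm_eq_one_iff, pow_two] at h1
  exact h1.symm

theorem sq_cases (g : P) : g * g = 1 ∨ g * g = z := h.all _ (h.sq_mem_center g)

theorem mul_sq_of_not_comm {a b : P} (hab : a * b ≠ b * a) :
    (a * b) * (a * b) = z * ((a * a) * (b * b)) := by
  have hba : b * a ≠ a * b := fun e => hab e.symm
  have h1 := h.mul_eq_z_mul hba
  calc (a * b) * (a * b) = a * (b * a) * b := by group
    _ = a * (z * (a * b)) * b := by rw [h1]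
    _ = (a * z) * (a * b) * b := by group
    _ = (z * a) * (a * b) * b := by rw [h.zcomm a]
    _ = z * ((a * a) * (b * b)) := by group

end IsE2

/-! ### decomposition along a non-commuting pair -/

/-- the centralizer of a pair -/
def pairCent {P : Type*} [Group P] (x y : P) : Subgroup P := Subgroup.centralizer ({x, y} : Set P)

theorem mem_pairCent {P : Type*} [Group P] {x y q : P} :
    q ∈ pairCent x y ↔ q * x = x * q ∧ q * y = y * q := by
  unfold pairCent
  rw [Subgroup.mem_centralizer_iff]
  constructor
  · intro hq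
    exact ⟨(hq x (by simp)).symm, (hq y (by simp)).symm⟩
  · rintro ⟨h1, h2⟩ k hk
    rcases hk with rfl | rfl
    · exact h1.symm
    · exact h2.symm

/-- Boolean power -/
def bp {P : Type*} [Group P] (g : P) (b : Bool) : P := if b then g else 1

theorem bp_true {P : Type*} [Group P] (g : P) : bp g true = g := rfl
theorem bp_false {P : Type*} [Group P] (g : P) : bp g false = 1 := rfl

/-- the coset representative `x^i y^j` -/
def rep {P : Type*} [Group P] (x y : P) (i j : Bool) : P := bp x i * bp y j

/-- the decomposition map `(q, i, j) ↦ q x^i y^j` -/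
def decompMap {P : Type*} [Group P] (x y : P) : (pairCent x y) × Bool × Bool → P :=
  fun w => (w.1 : P) * rep x y w.2.1 w.2.2

namespace IsE2

variable {P : Type*} [Group P] {z : P} (h : IsE2 P z)
include h

/-- the generator of the centre as an element of the centre -/
def zeta : Subgroup.center P := ⟨z, h.mem⟩

theorem zeta_ne : h.zeta ≠ 1 := fun e => h.ne (congrArg Subtype.val e)

theorem center_cases (w : Subgroup.center P) : w = 1 ∨ w = h.zeta := by
  rcases h.all w w.2 with h1 | h1
  · exact Or.inl (Subtype.ext h1)
  · exact Or.inr (Subtype.ext h1)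

theorem zeta_sq : h.zeta * h.zeta = 1 := Subtype.ext h.sq

theorem pairHom_of_not_comm {a b : P} (hab : a * b ≠ b * a) : pairHom h.comm b a = h.zeta := by
  apply Subtype.ext
  rw [pairHom_apply]
  exact h.cm_eq_z hab

theorem pairHom_rep_left {x y : P} (hxy : x * y ≠ y * x) (i j : Bool) :
    pairHom h.comm x (rep x y i j) = bp h.zeta j := by
  have hyx : y * x ≠ x * y := fun e => hxy e.symm
  have h1 : pairHom h.comm x x = 1 := Subtype.ext (cm_self x)
  have h2 : pairHom h.comm x y = h.zeta := h.pairHom_of_not_comm hyx
  cases i <;> cases j <;> simp [rep, bp, map_mul, h1, h2]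

theorem pairHom_rep_right {x y : P} (hxy : x * y ≠ y * x) (i j : Bool) :
    pairHom h.comm y (rep x y i j) = bp h.zeta i := by
  have h1 : pairHom h.comm y y = 1 := Subtype.ext (cm_self y)
  have h2 : pairHom h.comm y x = h.zeta := h.pairHom_of_not_comm hxy
  cases i <;> cases j <;> simp [rep, bp, map_mul, h1, h2]

theorem mem_pairCent_iff {x y q : P} :
    q ∈ pairCent x y ↔ pairHom h.comm x q = 1 ∧ pairHom h.comm y q = 1 := by
  rw [mem_pairCent, pairHom_eq_one_iff, pairHom_eq_one_iff]

theorem bp_zeta_injective {i j : Bool} (e : bp h.zeta i = bp h.zeta j) : i = j := by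
  cases i <;> cases j
  · rfl
  · exact absurd e.symm (by simpa [bp] using h.zeta_ne)
  · exact absurd e (by simpa [bp] using h.zeta_ne)
  · rfl

theorem decompMap_injective {x y : P} (hxy : x * y ≠ y * x) :
    Function.Injective (decompMap x y) := by
  rintro ⟨q, i, j⟩ ⟨q', i', j'⟩ e
  simp only [decompMap] at e
  have hq := (h.mem_pairCent_iff).mp q.2
  have hq' := (h.mem_pairCent_iff).mp q'.2
  have e1 := congrArg (pairHom h.comm x) e
  have e2 := congrArg (pairHom h.comm y) e
  rw [map_mul, map_mul, hq.1, hq'.1, one_mul, one_mul, h.pairHom_rep_left hxy,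
    h.pairHom_rep_left hxy] at e1
  rw [map_mul, map_mul, hq.2, hq'.2, one_mul, one_mul, h.pairHom_rep_right hxy,
    h.pairHom_rep_right hxy] at e2
  have hj := h.bp_zeta_injective e1
  have hi := h.bp_zeta_injective e2
  subst hi; subst hj
  have := mul_right_cancel e
  have hqq : q = q' := Subtype.ext this
  rw [hqq]

theorem decompMap_surjective {x y : P} (hxy : x * y ≠ y * x) :
    Function.Surjective (decompMap x y) := by
  intro g
  -- choose i, j
  obtain ⟨j, hj⟩ : ∃ j : Bool, pairHom h.comm x g = bp h.zeta j := by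
    rcases h.center_cases (pairHom h.comm x g) with h1 | h1
    · exact ⟨false, h1⟩
    · exact ⟨true, h1⟩
  obtain ⟨i, hi⟩ : ∃ i : Bool, pairHom h.comm y g = bp h.zeta i := by
    rcases h.center_cases (pairHom h.comm y g) with h1 | h1
    · exact ⟨false, h1⟩
    · exact ⟨true, h1⟩
  have hq : g * (rep x y i j)⁻¹ ∈ pairCent x y := by
    rw [h.mem_pairCent_iff, map_mul, map_mul, map_inv, map_inv, h.pairHom_rep_left hxy,
      h.pairHom_rep_right hxy, hj, hi]
    exact ⟨mul_inv_cancel _, mul_inv_cancel _⟩
  refine ⟨(⟨_, hq⟩, i, j), ?_⟩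
  simp only [decompMap]
  group

theorem decompMap_bijective {x y : P} (hxy : x * y ≠ y * x) :
    Function.Bijective (decompMap x y) :=
  ⟨h.decompMap_injective hxy, h.decompMap_surjective hxy⟩

theorem card_eq_four_mul [Finite P] {x y : P} (hxy : x * y ≠ y * x) :
    Nat.card P = 4 * Nat.card (pairCent x y) := by
  rw [← Nat.card_congr (Equiv.ofBijective _ (h.decompMap_bijective hxy)), Nat.card_prod,
    Nat.card_prod]
  simp
  ring

theorem z_mem_pairCent (x y : P) : z ∈ pairCent x y :=
  mem_pairCent.mpr ⟨(h.zcomm x).symm, (h.zcomm y).symm⟩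

omit h in
theorem commute_rep {x y q : P} (hq : q ∈ pairCent x y) (i j : Bool) :
    q * rep x y i j = rep x y i j * q := by
  obtain ⟨h1, h2⟩ := mem_pairCent.mp hq
  have c1 : Commute q x := h1
  have c2 : Commute q y := h2
  cases i <;> cases j
  · simp [rep, bp]
  · simpa [rep, bp] using c2.eq
  · simpa [rep, bp] using c1.eq
  · simpa [rep, bp] using (c1.mul_right c2).eq

/-- the centralizer of a non-commuting pair is again of the same kind -/
theorem pairCent_isE2 {x y : P} (hxy : x * y ≠ y * x) :
    IsE2 (pairCent x y) ⟨z, h.z_mem_pairCent x y⟩ where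
  mem := by
    rw [Subgroup.mem_center_iff]
    intro g
    exact Subtype.ext (h.zcomm g)
  ne := fun e => h.ne (congrArg Subtype.val e)
  all := by
    intro w hw
    have hwP : (w : P) ∈ Subgroup.center P := by
      rw [Subgroup.mem_center_iff]
      intro g
      obtain ⟨⟨q, i, j⟩, rfl⟩ := h.decompMap_surjective hxy g
      simp only [decompMap]
      have h1 : q * w = w * q := Subgroup.mem_center_iff.mp hw q
      have h1' : (q : P) * (w : P) = (w : P) * (q : P) := congrArg Subtype.val h1
      have h2 := commute_rep w.2 i j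
      calc (q : P) * rep x y i j * (w : P) = (q : P) * (rep x y i j * (w : P)) := by group
        _ = (q : P) * ((w : P) * rep x y i j) := by rw [h2]
        _ = ((q : P) * (w : P)) * rep x y i j := by group
        _ = ((w : P) * (q : P)) * rep x y i j := by rw [h1']
        _ = (w : P) * ((q : P) * rep x y i j) := by group
    rcases h.all _ hwP with h1 | h1
    · exact Or.inl (Subtype.ext h1)
    · exact Or.inr (Subtype.ext h1)
  comm := by
    unfold commutator
    rw [Subgroup.commutator_le]
    intro a _ b _
    rw [Subgroup.mem_center_iff]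
    intro g
    apply Subtype.ext
    exact cm_comm h.comm (a : P) (b : P) g

/-- squares in the decomposition when `x² = y² = 1` -/
theorem decompMap_sq {x y : P} (hxy : x * y ≠ y * x) (hx : x * x = 1) (hy : y * y = 1)
    (w : (pairCent x y) × Bool × Bool) :
    (decompMap x y w) ^ 2 = 1 ↔ (if w.2.1 && w.2.2 then w.1 ^ 2 ≠ 1 else w.1 ^ 2 = 1) := by
  obtain ⟨q, i, j⟩ := w
  simp only [decompMap]
  have hc := commute_rep q.2 i j
  have hsq : ((q : P) * rep x y i j) ^ 2 = ((q : P) * (q : P)) * (rep x y i j * rep x y i j) := by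
    rw [pow_two]; exact mul_sq_of_comm hc
  have hq2 : ((q ^ 2 : pairCent x y) : P) = (q : P) * (q : P) := by
    rw [pow_two]; rfl
  have hqq : (q ^ 2 = 1) ↔ (q : P) * (q : P) = 1 := by
    rw [← hq2]
    constructor
    · intro e; rw [e]; rfl
    · intro e; exact Subtype.ext e
  rw [hsq]
  cases i <;> cases j
  · have hr : rep x y false false * rep x y false false = 1 := by
      show (1 * 1) * (1 * 1) = (1 : P)
      simp
    rw [hr, mul_one]
    exact hqq.symm
  · have hr : rep x y false true * rep x y false true = 1 := by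
      show (1 * y) * (1 * y) = (1 : P)
      rw [one_mul, hy]
    rw [hr, mul_one]
    exact hqq.symm
  · have hr : rep x y true false * rep x y true false = 1 := by
      show (x * 1) * (x * 1) = (1 : P)
      rw [mul_one, hx]
    rw [hr, mul_one]
    exact hqq.symm
  · have hr : rep x y true true * rep x y true true = z := by
      show (x * y) * (x * y) = z
      rw [h.mul_sq_of_not_comm hxy, hx, hy, mul_one, mul_one]
    rw [hr]
    show (q : P) * (q : P) * z = 1 ↔ q ^ 2 ≠ 1
    rw [Ne, hqq]
    rcases h.sq_cases (q : P) with h1 | h1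
    · rw [h1, one_mul]
      constructor
      · intro e; exact absurd e h.ne
      · intro e; exact absurd rfl e
    · rw [h1, h.sq]
      constructor
      · intro _ e; exact h.ne e
      · intro _; rfl

/-- the number of solutions of `g² = 1` along a decomposition by a pair of non-commuting
involutions -/
theorem card_sq_eq_one [Finite P] {x y : P} (hxy : x * y ≠ y * x) (hx : x * x = 1)
    (hy : y * y = 1) :
    Nat.card {g : P // g ^ 2 = 1} =
      2 * Nat.card {q : pairCent x y // q ^ 2 = 1} + Nat.card (pairCent x y) := by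
  classical
  have hfQ := Fintype.ofFinite (pairCent x y)
  set E := Equiv.ofBijective _ (h.decompMap_bijective hxy) with hE
  have e1 : Nat.card {g : P // g ^ 2 = 1} =
      Nat.card {w : (pairCent x y) × Bool × Bool // (decompMap x y w) ^ 2 = 1} :=
    Nat.card_congr (E.subtypeEquiv (fun w => Iff.rfl)).symm
  rw [e1, Nat.card_congr (Equiv.subtypeEquivRight (h.decompMap_sq hxy hx hy))]
  rw [Nat.card_eq_fintype_card, Nat.card_eq_fintype_card, Nat.card_eq_fintype_card,
    Fintype.card_subtype, Fintype.card_subtype, Finset.card_filter, Finset.card_filter,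
    Fintype.sum_prod_type]
  simp only [Fintype.sum_prod_type, Fintype.sum_bool, Bool.and_false,
    Bool.and_true, if_true, Bool.false_eq_true, if_false]
  rw [Finset.mul_sum, ← Finset.card_univ, Finset.card_eq_sum_ones, ← Finset.sum_add_distrib]
  apply Finset.sum_congr rfl
  intro q _
  by_cases hq : q ^ 2 = 1 <;> simp [hq]

end IsE2

end Cfsg.Agent.Lib.Helper29
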