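import Mathlib
import Cfsg.Agent.Lib.Helper29.ExtraTwo
import Cfsg.Agent.Lib.Helper61.DihedralLift
import Cfsg.Agent.Lib.Helper86.QuatLift

set_option autoImplicit false

/-!
Central decompositions `P = Q ∘ H` of groups with centre `{1, z}`, gluing of isomorphisms, the
dihedral decomposition along a non-central involution, and recognition of the quaternion group.
-/

namespace Cfsg.Agent.Lib.Helper29

/-- a central decomposition `P = Q H` with `Q ∩ H`, `Z(Q)`, `Z(H)` all inside `{1, z}` -/
structure IsCDecomp {P : Type*} [Group P] (z : P) (Q H : Subgroup P) : Prop where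
  comm : ∀ q ∈ Q, ∀ h ∈ H, q * h = h * q
  gen : ∀ g : P, ∃ q ∈ Q, ∃ h ∈ H, g = q * h
  zQ : z ∈ Q
  zH : z ∈ H
  z_ne : z ≠ 1
  zcent : z ∈ Subgroup.center P
  centQ : ∀ w : Q, w ∈ Subgroup.center Q → (w : P) = 1 ∨ (w : P) = z
  centH : ∀ w : H, w ∈ Subgroup.center H → (w : P) = 1 ∨ (w : P) = z
  inter : ∀ w, w ∈ Q → w ∈ H → w = 1 ∨ w = z

/-- an isomorphism maps the centre into the centre -/
theorem mulEquiv_mem_center {A : Type*} {B : Type*} [Group A] [Group B] (e : A ≃* B) {a : A}
    (ha : a ∈ Subgroup.center A) : e a ∈ Subgroup.center B := by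
  rw [Subgroup.mem_center_iff] at ha ⊢
  intro g
  obtain ⟨g', rfl⟩ := e.surjective g
  rw [← map_mul, ← map_mul, ha g']

theorem glue_cdecomp_aux {P₁ : Type*} {P₂ : Type*} [Group P₁] [Group P₂] {z₁ : P₁} {z₂ : P₂}
    {Q₁ H₁ : Subgroup P₁} {Q₂ H₂ : Subgroup P₂} (d₁ : IsCDecomp z₁ Q₁ H₁)
    (d₂ : IsCDecomp z₂ Q₂ H₂) (φ : Q₁ ≃* Q₂) (ψ : H₁ ≃* H₂) (q : Q₁) (h : H₁)
    (e : (q : P₁) = (h : P₁)) : ((φ q : Q₂) : P₂) = ((ψ h : H₂) : P₂) := by
  rcases d₁.inter (q : P₁) q.2 (e ▸ h.2) with h1 | h1
  · have hq : q = 1 := Subtype.ext h1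
    have hh : h = 1 := Subtype.ext (e ▸ h1)
    rw [hq, hh, map_one, map_one]; rfl
  · -- both are the central involution
    have hqc : q ∈ Subgroup.center Q₁ := by
      rw [Subgroup.mem_center_iff]
      intro g
      apply Subtype.ext
      show (g : P₁) * (q : P₁) = (q : P₁) * (g : P₁)
      rw [h1]
      exact Subgroup.mem_center_iff.mp d₁.zcent g
    have hhc : h ∈ Subgroup.center H₁ := by
      rw [Subgroup.mem_center_iff]
      intro g
      apply Subtype.ext
      show (g : P₁) * (h : P₁) = (h : P₁) * (g : P₁)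
      rw [← e, h1]
      exact Subgroup.mem_center_iff.mp d₁.zcent g
    have hq1 : φ q ≠ 1 := by
      intro e1
      have : q = 1 := by
        have := φ.injective (e1.trans (map_one φ).symm)
        exact this
      apply d₁.z_ne
      rw [← h1, this]; rfl
    have hh1 : ψ h ≠ 1 := by
      intro e1
      have : h = 1 := ψ.injective (e1.trans (map_one ψ).symm)
      apply d₁.z_ne
      rw [← h1, e, this]; rfl
    rcases d₂.centQ (φ q) (mulEquiv_mem_center φ hqc) with h2 | h2
    · exact absurd (Subtype.ext h2) hq1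
    · rcases d₂.centH (ψ h) (mulEquiv_mem_center ψ hhc) with h3 | h3
      · exact absurd (Subtype.ext h3) hh1
      · rw [h2, h3]

/-- gluing isomorphisms along central decompositions -/
theorem glue_cdecomp {P₁ : Type*} {P₂ : Type*} [Group P₁] [Group P₂] {z₁ : P₁} {z₂ : P₂}
    {Q₁ H₁ : Subgroup P₁} {Q₂ H₂ : Subgroup P₂} (d₁ : IsCDecomp z₁ Q₁ H₁)
    (d₂ : IsCDecomp z₂ Q₂ H₂) (φ : Q₁ ≃* Q₂) (ψ : H₁ ≃* H₂) : Nonempty (P₁ ≃* P₂) :=
  glue_central_product Q₁ H₁ Q₂ H₂ d₁.comm d₂.comm d₁.gen d₂.gen φ ψ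
    (glue_cdecomp_aux d₁ d₂ φ ψ) (glue_cdecomp_aux d₂ d₁ φ.symm ψ.symm)

section dihedral

open Cfsg.Agent.Lib.Helper61 DihedralGroup

variable {P : Type*} [Group P] {z : P} (h : IsE2 P z) {x y : P} (hxy : x * y ≠ y * x)
  (hx : x * x = 1) (hy : y * y = 1)
include h hxy hx hy

theorem rot_sq : (x * y) * (x * y) = z := by
  rw [h.mul_sq_of_not_comm hxy, hx, hy, mul_one, mul_one]

theorem rot_pow_four : (x * y) ^ 4 = 1 := by
  have e : (x * y) ^ 4 = ((x * y) * (x * y)) * ((x * y) * (x * y)) := by
    have e4 : 4 = 2 + 2 := by norm_num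
    rw [e4, pow_add, pow_two]
  rw [e, rot_sq h hxy hx hy, h.sq]

omit h hxy in
theorem rot_conj : x * (x * y) * x = (x * y)⁻¹ := by
  have hxi : x⁻¹ = x := inv_eq_of_mul_eq_one_right hx
  have hyi : y⁻¹ = y := inv_eq_of_mul_eq_one_right hy
  rw [mul_inv_rev, hxi, hyi, ← mul_assoc, hx, one_mul]

omit h hx hy in
theorem x_not_mem_zpowers_rot : x ∉ Subgroup.zpowers (x * y) := by
  intro hmem
  obtain ⟨k, hk⟩ := Subgroup.mem_zpowers_iff.mp hmem
  have hc : Commute (x * y) x := by
    have hc' : Commute (x * y) ((x * y) ^ k) := (Commute.refl (x * y)).zpow_right k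
    rw [hk] at hc'
    exact hc'
  apply hxy
  have e : x * (y * x) = x * (x * y) := by rw [← mul_assoc, hc.eq]
  exact (mul_left_cancel e).symm

theorem orderOf_rot : orderOf (x * y) = 4 := by
  have : Fact (Nat.Prime 2) := ⟨Nat.prime_two⟩
  have h1 : ¬ (x * y) ^ 2 ^ 1 = 1 := by
    rw [pow_one, pow_two, rot_sq h hxy hx hy]; exact h.ne
  have h2 : (x * y) ^ 2 ^ (1 + 1) = 1 := by
    have : 2 ^ (1 + 1) = 4 := by norm_num
    rw [this]; exact rot_pow_four h hxy hx hy
  have := orderOf_eq_prime_pow h1 h2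
  rw [this]
  norm_num

/-- the lift of the dihedral group of order eight -/
def dLift : DihedralGroup 4 →* P :=
  dihedralLift x (x * y) 4 hx (rot_conj hx hy) (rot_pow_four h hxy hx hy)

theorem dLift_injective : Function.Injective (dLift h hxy hx hy) := by
  have key : ∀ (n : ℕ) (_ : orderOf (x * y) = n) (hr : (x * y) ^ n = 1),
      Function.Injective (dihedralLift x (x * y) n hx (rot_conj hx hy) hr) := by
    intro n hn hr
    subst hn
    exact dihedralLift_injective x (x * y) hx (rot_conj hx hy) (x_not_mem_zpowers_rot hxy)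
  exact key 4 (orderOf_rot h hxy hx hy) _

theorem x_mem_range : x ∈ (dLift h hxy hx hy).range := by
  refine ⟨sr 0, ?_⟩
  show dihedralLift x (x * y) 4 hx _ _ (sr 0) = x
  rw [dihedralLift_sr]
  simp

theorem rot_mem_range : x * y ∈ (dLift h hxy hx hy).range := by
  refine ⟨r 1, ?_⟩
  show dihedralLift x (x * y) 4 hx _ _ (r 1) = x * y
  rw [dihedralLift_r]
  have : (((1 : ZMod 4).cast : ℤ)) = 1 := by decide
  rw [this, zpow_one]

theorem y_mem_range : y ∈ (dLift h hxy hx hy).range := by
  have e : x⁻¹ * (x * y) = y := by group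
  have := Subgroup.mul_mem _ (Subgroup.inv_mem _ (x_mem_range h hxy hx hy))
    (rot_mem_range h hxy hx hy)
  rwa [e] at this

theorem z_mem_range : z ∈ (dLift h hxy hx hy).range := by
  have := Subgroup.mul_mem _ (rot_mem_range h hxy hx hy) (rot_mem_range h hxy hx hy)
  rwa [rot_sq h hxy hx hy] at this

theorem rep_mem_range (i j : Bool) : rep x y i j ∈ (dLift h hxy hx hy).range := by
  cases i <;> cases j
  · show (1 : P) * 1 ∈ _
    rw [one_mul]; exact Subgroup.one_mem _
  · show (1 : P) * y ∈ _
    rw [one_mul]; exact y_mem_range h hxy hx hy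
  · show x * (1 : P) ∈ _
    rw [mul_one]; exact x_mem_range h hxy hx hy
  · exact rot_mem_range h hxy hx hy

theorem commute_range {q : P} (hq : q ∈ pairCent x y) {g : P}
    (hg : g ∈ (dLift h hxy hx hy).range) : q * g = g * q := by
  obtain ⟨h1, h2⟩ := mem_pairCent.mp hq
  have c1 : Commute q x := h1
  have c2 : Commute q y := h2
  have c3 : Commute q (x * y) := c1.mul_right c2
  obtain ⟨d, rfl⟩ := hg
  rcases d with i | i
  · show q * dihedralLift x (x * y) 4 hx _ _ (r i) = dihedralLift x (x * y) 4 hx _ _ (r i) * q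
    rw [dihedralLift_r]
    exact (c3.zpow_right _).eq
  · show q * dihedralLift x (x * y) 4 hx _ _ (sr i) = dihedralLift x (x * y) 4 hx _ _ (sr i) * q
    rw [dihedralLift_sr]
    exact (c1.mul_right (c3.zpow_right _)).eq

theorem inter_range {w : P} (hwQ : w ∈ pairCent x y) (hwH : w ∈ (dLift h hxy hx hy).range) :
    w = 1 ∨ w = z := by
  apply h.all
  rw [Subgroup.mem_center_iff]
  intro g
  obtain ⟨⟨q, i, j⟩, rfl⟩ := h.decompMap_surjective hxy g
  simp only [decompMap]
  have h1 : (q : P) * w = w * (q : P) := commute_range h hxy hx hy q.2 hwH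
  have h2 : w * rep x y i j = rep x y i j * w :=
    commute_range h hxy hx hy hwQ (rep_mem_range h hxy hx hy i j)
  calc (q : P) * rep x y i j * w = (q : P) * (rep x y i j * w) := by group
    _ = (q : P) * (w * rep x y i j) := by rw [h2]
    _ = ((q : P) * w) * rep x y i j := by group
    _ = (w * (q : P)) * rep x y i j := by rw [h1]
    _ = w * ((q : P) * rep x y i j) := by group

theorem isCDecomp_range : IsCDecomp z (pairCent x y) (dLift h hxy hx hy).range where
  comm := fun q hq g hg => commute_range h hxy hx hy hq hg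
  gen := by
    intro g
    obtain ⟨⟨q, i, j⟩, rfl⟩ := h.decompMap_surjective hxy g
    exact ⟨q, q.2, rep x y i j, rep_mem_range h hxy hx hy i j, rfl⟩
  zQ := h.z_mem_pairCent x y
  zH := z_mem_range h hxy hx hy
  z_ne := h.ne
  zcent := h.mem
  centQ := by
    intro w hw
    rcases (h.pairCent_isE2 hxy).all w hw with h1 | h1
    · left; rw [h1]; rfl
    · right; rw [h1]
  centH := by
    intro w hw
    apply inter_range h hxy hx hy _ w.2
    rw [mem_pairCent]
    have hxH := x_mem_range h hxy hx hy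
    have hyH := y_mem_range h hxy hx hy
    have e1 := Subgroup.mem_center_iff.mp hw ⟨x, hxH⟩
    have e2 := Subgroup.mem_center_iff.mp hw ⟨y, hyH⟩
    exact ⟨(congrArg Subtype.val e1).symm, (congrArg Subtype.val e2).symm⟩
  inter := fun w hwQ hwH => inter_range h hxy hx hy hwQ hwH

theorem range_equiv_dihedral : Nonempty ((dLift h hxy hx hy).range ≃* DihedralGroup 4) :=
  ⟨(MonoidHom.ofInjective (dLift_injective h hxy hx hy)).symm⟩

end dihedral

/-- **Dihedral decomposition**: a group with centre `{1, z}` containing the commutator subgroup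
and having a non-central involution is a central product of a smaller such group and a dihedral
group of order eight. -/
theorem IsE2.exists_dihedral_decomp {P : Type*} [Group P] [Finite P] {z : P} (h : IsE2 P z)
    (t : P) (ht : t * t = 1) (htc : t ∉ Subgroup.center P) :
    ∃ (Q H : Subgroup P) (hzQ : z ∈ Q), IsCDecomp z Q H ∧ IsE2 Q ⟨z, hzQ⟩ ∧
      Nat.card P = 4 * Nat.card Q ∧ Nonempty (H ≃* DihedralGroup 4) ∧
      Nat.card {g : P // g ^ 2 = 1} = 2 * Nat.card {q : Q // q ^ 2 = 1} + Nat.card Q := by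
  -- an element not commuting with t
  obtain ⟨y0, hy0⟩ : ∃ y0 : P, t * y0 ≠ y0 * t := by
    by_contra hcon
    push Not at hcon
    apply htc
    rw [Subgroup.mem_center_iff]
    intro g
    exact (hcon g).symm
  -- an involution not commuting with t
  obtain ⟨y, hy, hty⟩ : ∃ y : P, y * y = 1 ∧ t * y ≠ y * t := by
    rcases h.sq_cases y0 with h1 | h1
    · exact ⟨y0, h1, hy0⟩
    · refine ⟨t * y0, ?_, ?_⟩
      · rw [h.mul_sq_of_not_comm hy0, ht, h1, one_mul, h.sq]
      · intro e
        apply hy0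
        have e' : t * (t * y0) = t * (y0 * t) := by rw [e]; group
        exact mul_left_cancel e'
  exact ⟨pairCent t y, (dLift h hty ht hy).range, h.z_mem_pairCent t y,
    isCDecomp_range h hty ht hy, h.pairCent_isE2 hty, h.card_eq_four_mul hty,
    range_equiv_dihedral h hty ht hy, h.card_sq_eq_one hty ht hy⟩

/-- **Quaternion recognition**: a non-commutative group with centre `{1, z}` containing the
commutator subgroup in which every involution is central is the quaternion group of order 8. -/
theorem IsE2.quaternion_of_no_involution {P : Type*} [Group P] [Finite P] {z : P}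
    (h : IsE2 P z) (hna : ∃ x y : P, x * y ≠ y * x)
    (hNI : ∀ t : P, t * t = 1 → t ∈ Subgroup.center P) :
    Nat.card P = 8 ∧ Nonempty (P ≃* QuaternionGroup 2) ∧ Nat.card {g : P // g ^ 2 = 1} = 2 := by
  obtain ⟨x, y, hxy⟩ := hna
  have hyx : y * x ≠ x * y := fun e => hxy e.symm
  -- squares of non-central elements are z
  have hsq : ∀ g : P, g ∉ Subgroup.center P → g * g = z := by
    intro g hg
    rcases h.sq_cases g with h1 | h1
    · exact absurd (hNI g h1) hg
    · exact h1
  have hxc : x ∉ Subgroup.center P := fun hc => hxy (Subgroup.mem_center_iff.mp hc y).symm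
  have hyc : y ∉ Subgroup.center P := fun hc => hxy (Subgroup.mem_center_iff.mp hc x)
  have hxx : x * x = z := hsq x hxc
  have hyy : y * y = z := hsq y hyc
  -- the centralizer of the pair is commutative
  have hQ := h.pairCent_isE2 hxy
  have hQcomm : ∀ a b : pairCent x y, a * b = b * a := by
    by_contra hcon
    push Not at hcon
    obtain ⟨a, b, hab⟩ := hcon
    have hab' : (a : P) * (b : P) ≠ (b : P) * (a : P) := fun e => hab (Subtype.ext e)
    have hac : (a : P) ∉ Subgroup.center P :=
      fun hc => hab' (Subgroup.mem_center_iff.mp hc (b : P)).symm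
    have haa : (a : P) * (a : P) = z := hsq _ hac
    obtain ⟨ha1, ha2⟩ := mem_pairCent.mp a.2
    -- (x a)² = 1
    have hxa : x * (a : P) = (a : P) * x := ha1.symm
    have h1 : (x * (a : P)) * (x * (a : P)) = 1 := by
      rw [mul_sq_of_comm hxa, hxx, haa, h.sq]
    have h2 := hNI _ h1
    -- so x a commutes with y, hence x does
    have h3 := Subgroup.mem_center_iff.mp h2 y
    apply hxy
    have h4 : y * (x * (a : P)) = (y * x) * (a : P) := by group
    have h5 : x * (a : P) * y = (x * y) * (a : P) := by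
      rw [mul_assoc, ha2, ← mul_assoc]
    rw [h4, h5] at h3
    exact (mul_right_cancel h3).symm
  have hQtop : Subgroup.center (pairCent x y) = ⊤ := by
    rw [eq_top_iff]
    intro w _
    rw [Subgroup.mem_center_iff]
    intro g
    exact hQcomm g w
  have hcQ : Nat.card (pairCent x y) = 2 := by
    rw [← hQ.card_center, hQtop, Subgroup.card_top]
  have hcP : Nat.card P = 8 := by rw [h.card_eq_four_mul hxy, hcQ]
  refine ⟨hcP, ?_, ?_⟩
  · -- the quaternion relations
    have hx2 : x ^ 2 = z := by rw [pow_two]; exact hxx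
    have hx4 : x ^ 4 = 1 := by
      have e4 : 4 = 2 + 2 := by norm_num
      rw [e4, pow_add, hx2, h.sq]
    have hx2ne : x ^ 2 ≠ 1 := by rw [hx2]; exact h.ne
    have hy2 : y ^ 2 = x ^ 2 := by rw [pow_two, hyy, hx2]
    have hynot : y ∉ Subgroup.zpowers x := by
      intro hmem
      obtain ⟨k, hk⟩ := Subgroup.mem_zpowers_iff.mp hmem
      have hc' : Commute x (x ^ k) := (Commute.refl x).zpow_right k
      rw [hk] at hc'
      exact hxy hc'.eq
    have hconj : y * x * y⁻¹ = x⁻¹ := by
      have h1 := h.mul_eq_z_mul hyx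
      have hxinv : x⁻¹ = z * x := by
        apply inv_eq_of_mul_eq_one_right
        rw [← mul_assoc, h.zcomm x, mul_assoc, hxx, h.sq]
      rw [h1, hxinv]
      group
    exact Cfsg.Agent.Lib.Helper86.nonempty_mulEquiv_quaternionGroup hcP x y hx4 hx2ne hy2 hynot hconj
  · -- the solutions of g² = 1 are 1 and z
    have hset : ∀ g : P, g ^ 2 = 1 ↔ g = 1 ∨ g = z := by
      intro g
      rw [pow_two]
      constructor
      · intro hg
        exact h.all g (hNI g hg)
      · rintro (rfl | rfl)
        · exact one_mul 1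
        · exact h.sq
    rw [Nat.card_congr (Equiv.subtypeEquivRight hset)]
    rw [Nat.card_eq_two_iff]
    refine ⟨⟨1, Or.inl rfl⟩, ⟨z, Or.inr rfl⟩, ?_, ?_⟩
    · intro e
      exact h.ne (congrArg Subtype.val e).symm
    · ext w
      simp only [Set.mem_insert_iff, Set.mem_singleton_iff, Set.mem_univ, iff_true]
      rcases w.2 with hw | hw
      · left; exact Subtype.ext hw
      · right; exact Subtype.ext hw

end Cfsg.Agent.Lib.Helper29
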