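import Mathlib
import Cfsg.Agent.Lib.Helper29.ExtraTwoIso
import Cfsg.Prelude.Def_Transfer

set_option autoImplicit false

/-!
Classification of the groups with centre `{1, z}` of order two containing the commutator subgroup
(the cyclic group of order two and the extraspecial `2`-groups): order, number of solutions of
`g² = 1`, and the isomorphism theorem.
-/

namespace Cfsg.Agent.Lib.Helper29

universe u v w

/-- number of solutions of `g² = 1` -/
noncomputable def sqCount (P : Type*) [Group P] : ℕ := Nat.card {g : P // g ^ 2 = 1}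

theorem sqCount_pos (P : Type*) [Group P] [Finite P] : 0 < sqCount P := by
  unfold sqCount
  have : Nonempty {g : P // g ^ 2 = 1} := ⟨⟨1, one_pow 2⟩⟩
  exact Nat.card_pos

theorem IsE2.comm_or_exists {P : Type*} [Group P] :
    (∀ a b : P, a * b = b * a) ∨ ∃ x y : P, x * y ≠ y * x := by
  by_cases hc : ∀ a b : P, a * b = b * a
  · exact Or.inl hc
  · right
    push Not at hc
    exact hc

theorem IsE2.card_of_comm {P : Type*} [Group P] [Finite P] {z : P} (h : IsE2 P z)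
    (hc : ∀ a b : P, a * b = b * a) : Nat.card P = 2 := by
  have htop : Subgroup.center P = ⊤ := by
    rw [eq_top_iff]
    intro w _
    rw [Subgroup.mem_center_iff]
    intro g
    exact hc g w
  rw [← h.card_center, htop, Subgroup.card_top]

theorem IsE2.not_comm_of_card {P : Type*} [Group P] [Finite P] {z : P} (h : IsE2 P z)
    (hcard : Nat.card P ≠ 2) : ∃ x y : P, x * y ≠ y * x := by
  rcases IsE2.comm_or_exists (P := P) with hc | hc
  · exact absurd (h.card_of_comm hc) hcard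
  · exact hc

theorem IsE2.exists_noncentral_involution {P : Type*} [Group P] {z : P} (_h : IsE2 P z)
    (hNI : ¬ ∀ t : P, t * t = 1 → t ∈ Subgroup.center P) :
    ∃ t : P, t * t = 1 ∧ t ∉ Subgroup.center P := by
  push Not at hNI
  exact hNI

/-- **Isomorphism theorem**: two such groups of the same order with the same number of solutions
of `g² = 1` are isomorphic. -/
theorem IsE2.iso_main : ∀ (N : ℕ) (P₁ : Type u) (P₂ : Type v) [Group P₁] [Group P₂] [Finite P₁]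
    [Finite P₂] (z₁ : P₁) (z₂ : P₂), IsE2 P₁ z₁ → IsE2 P₂ z₂ → Nat.card P₁ = N → Nat.card P₂ = N →
    sqCount P₁ = sqCount P₂ → Nonempty (P₁ ≃* P₂) := by
  intro N
  induction N using Nat.strong_induction_on with
  | _ N ih =>
  intro P₁ P₂ _ _ _ _ z₁ z₂ h₁ h₂ hc₁ hc₂ hs
  have hf2 : Fact (Nat.Prime 2) := ⟨Nat.prime_two⟩
  by_cases hN : N = 2
  · rw [hN] at hc₁ hc₂
    exact ⟨mulEquivOfPrimeCardEq hc₁ hc₂⟩
  · have hna₁ := h₁.not_comm_of_card (by rw [hc₁]; exact hN)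
    have hna₂ := h₂.not_comm_of_card (by rw [hc₂]; exact hN)
    by_cases hNI₁ : ∀ t : P₁, t * t = 1 → t ∈ Subgroup.center P₁
    · obtain ⟨hcard₁, ⟨e₁⟩, hcount₁⟩ := h₁.quaternion_of_no_involution hna₁ hNI₁
      by_cases hNI₂ : ∀ t : P₂, t * t = 1 → t ∈ Subgroup.center P₂
      · obtain ⟨-, ⟨e₂⟩, -⟩ := h₂.quaternion_of_no_involution hna₂ hNI₂
        exact ⟨e₁.trans e₂.symm⟩
      · exfalso
        obtain ⟨t, ht, htc⟩ := h₂.exists_noncentral_involution hNI₂
        obtain ⟨Q, H, hzQ, -, -, hcQ, -, hcnt⟩ := h₂.exists_dihedral_decomp t ht htc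
        have hpos : 0 < sqCount Q := sqCount_pos Q
        unfold sqCount at hs hpos
        rw [hcount₁, hcnt] at hs
        have hQ2 : Nat.card Q = 2 := by
          rw [hc₂, ← hc₁, hcard₁] at hcQ
          omega
        omega
    · obtain ⟨t₁, ht₁, htc₁⟩ := h₁.exists_noncentral_involution hNI₁
      obtain ⟨Q₁, H₁, hzQ₁, d₁, hQ₁, hcQ₁, ⟨eH₁⟩, hcnt₁⟩ := h₁.exists_dihedral_decomp t₁ ht₁ htc₁
      by_cases hNI₂ : ∀ t : P₂, t * t = 1 → t ∈ Subgroup.center P₂
      · exfalso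
        obtain ⟨hcard₂, -, hcount₂⟩ := h₂.quaternion_of_no_involution hna₂ hNI₂
        have hpos : 0 < sqCount Q₁ := sqCount_pos Q₁
        unfold sqCount at hs hpos
        rw [hcount₂, hcnt₁] at hs
        have hQ2 : Nat.card Q₁ = 2 := by
          rw [hc₁, ← hc₂, hcard₂] at hcQ₁
          omega
        omega
      · obtain ⟨t₂, ht₂, htc₂⟩ := h₂.exists_noncentral_involution hNI₂
        obtain ⟨Q₂, H₂, hzQ₂, d₂, hQ₂, hcQ₂, ⟨eH₂⟩, hcnt₂⟩ :=
          h₂.exists_dihedral_decomp t₂ ht₂ htc₂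
        have hcard : Nat.card Q₁ = Nat.card Q₂ := by
          rw [hc₁] at hcQ₁; rw [hc₂] at hcQ₂; omega
        have hlt : Nat.card Q₁ < N := by
          have : 0 < Nat.card Q₁ := Nat.card_pos
          rw [hc₁] at hcQ₁; omega
        have hs' : sqCount Q₁ = sqCount Q₂ := by
          unfold sqCount at hs ⊢
          rw [hcnt₁, hcnt₂, hcard] at hs
          omega
        obtain ⟨φ⟩ := ih (Nat.card Q₁) hlt Q₁ Q₂ _ _ hQ₁ hQ₂ rfl hcard.symm hs'
        exact glue_cdecomp d₁ d₂ φ (eH₁.trans eH₂.symm)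

/-- order and number of solutions of `g² = 1` -/
theorem IsE2.count_main : ∀ (N : ℕ) (P : Type u) [Group P] [Finite P] (z : P), IsE2 P z →
    Nat.card P = N → ∃ m : ℕ, Nat.card P = 2 ^ (2 * m + 1) ∧
      (sqCount P = 2 ^ (2 * m) + 2 ^ m ∨ sqCount P = 2 ^ (2 * m) - 2 ^ m) ∧
      ((∃ x y : P, x * y ≠ y * x) → 1 ≤ m) := by
  intro N
  induction N using Nat.strong_induction_on with
  | _ N ih =>
  intro P _ _ z h hc
  rcases IsE2.comm_or_exists (P := P) with hcomm | hna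
  · refine ⟨0, ?_, ?_, ?_⟩
    · rw [h.card_of_comm hcomm]; norm_num
    · left
      -- every element squares to 1
      have hcard := h.card_of_comm hcomm
      have hall : ∀ g : P, g ^ 2 = 1 := by
        intro g
        have hg : g ∈ Subgroup.center P := by
          rw [Subgroup.mem_center_iff]; intro k; exact hcomm k g
        rcases h.all g hg with rfl | rfl
        · exact one_pow 2
        · rw [pow_two]; exact h.sq
      unfold sqCount
      rw [Nat.card_congr (Equiv.subtypeUnivEquiv hall), hcard]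
      norm_num
    · rintro ⟨x, y, hxy⟩
      exact absurd (hcomm x y) hxy
  · by_cases hNI : ∀ t : P, t * t = 1 → t ∈ Subgroup.center P
    · obtain ⟨hcard, -, hcount⟩ := h.quaternion_of_no_involution hna hNI
      refine ⟨1, ?_, ?_, fun _ => le_refl 1⟩
      · rw [hcard]; norm_num
      · right
        unfold sqCount
        rw [hcount]; norm_num
    · obtain ⟨t, ht, htc⟩ := h.exists_noncentral_involution hNI
      obtain ⟨Q, H, hzQ, -, hQ, hcQ, -, hcnt⟩ := h.exists_dihedral_decomp t ht htc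
      have hlt : Nat.card Q < N := by
        have : 0 < Nat.card Q := Nat.card_pos
        rw [hc] at hcQ; omega
      obtain ⟨m, hm, hcount, -⟩ := ih (Nat.card Q) hlt Q _ hQ rfl
      refine ⟨m + 1, ?_, ?_, fun _ => by omega⟩
      · rw [hcQ, hm]; ring
      · unfold sqCount at hcount ⊢
        rw [hcnt, hm]
        have hle : 2 ^ m ≤ 2 ^ (2 * m) := Nat.pow_le_pow_right (by norm_num) (by omega)
        have e1 : 2 ^ (2 * (m + 1)) = 2 * 2 ^ (2 * m) + 2 ^ (2 * m + 1) := by ring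
        have e2 : 2 ^ (m + 1) = 2 * 2 ^ m := by ring
        rcases hcount with hcount | hcount
        · left
          rw [hcount, e1, e2]; ring
        · right
          rw [hcount, e1, e2]
          omega

/-- among three such groups of equal order two are isomorphic -/
theorem IsE2.three_main : ∀ (N : ℕ) (P₁ : Type u) (P₂ : Type v) (P₃ : Type w) [Group P₁]
    [Group P₂] [Group P₃] [Finite P₁] [Finite P₂] [Finite P₃] (z₁ : P₁) (z₂ : P₂) (z₃ : P₃),
    IsE2 P₁ z₁ → IsE2 P₂ z₂ → IsE2 P₃ z₃ → Nat.card P₁ = N → Nat.card P₂ = N → Nat.card P₃ = N →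
    Nonempty (P₁ ≃* P₂) ∨ Nonempty (P₂ ≃* P₃) ∨ Nonempty (P₁ ≃* P₃) := by
  intro N P₁ P₂ P₃ _ _ _ _ _ _ z₁ z₂ z₃ h₁ h₂ h₃ hc₁ hc₂ hc₃
  obtain ⟨m₁, hm₁, hs₁, -⟩ := IsE2.count_main N P₁ z₁ h₁ hc₁
  obtain ⟨m₂, hm₂, hs₂, -⟩ := IsE2.count_main N P₂ z₂ h₂ hc₂
  obtain ⟨m₃, hm₃, hs₃, -⟩ := IsE2.count_main N P₃ z₃ h₃ hc₃
  have e12 : m₁ = m₂ := by
    have : 2 ^ (2 * m₁ + 1) = 2 ^ (2 * m₂ + 1) := by rw [← hm₁, ← hm₂, hc₁, hc₂]
    have := Nat.pow_right_injective (le_refl 2) this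
    omega
  have e13 : m₁ = m₃ := by
    have : 2 ^ (2 * m₁ + 1) = 2 ^ (2 * m₃ + 1) := by rw [← hm₁, ← hm₃, hc₁, hc₃]
    have := Nat.pow_right_injective (le_refl 2) this
    omega
  subst e12; subst e13
  rcases hs₁ with a₁ | a₁ <;> rcases hs₂ with a₂ | a₂ <;> rcases hs₃ with a₃ | a₃
  · exact Or.inl (IsE2.iso_main N P₁ P₂ z₁ z₂ h₁ h₂ hc₁ hc₂ (a₁.trans a₂.symm))
  · exact Or.inl (IsE2.iso_main N P₁ P₂ z₁ z₂ h₁ h₂ hc₁ hc₂ (a₁.trans a₂.symm))
  · exact Or.inr (Or.inr (IsE2.iso_main N P₁ P₃ z₁ z₃ h₁ h₃ hc₁ hc₃ (a₁.trans a₃.symm)))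
  · exact Or.inr (Or.inl (IsE2.iso_main N P₂ P₃ z₂ z₃ h₂ h₃ hc₂ hc₃ (a₂.trans a₃.symm)))
  · exact Or.inr (Or.inl (IsE2.iso_main N P₂ P₃ z₂ z₃ h₂ h₃ hc₂ hc₃ (a₂.trans a₃.symm)))
  · exact Or.inr (Or.inr (IsE2.iso_main N P₁ P₃ z₁ z₃ h₁ h₃ hc₁ hc₃ (a₁.trans a₃.symm)))
  · exact Or.inl (IsE2.iso_main N P₁ P₂ z₁ z₂ h₁ h₂ hc₁ hc₂ (a₁.trans a₂.symm))
  · exact Or.inl (IsE2.iso_main N P₁ P₂ z₁ z₂ h₁ h₂ hc₁ hc₂ (a₁.trans a₂.symm))

/-- extraspecial `2`-groups are of this kind -/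
theorem IsE2.of_isExtraspecial {P : Type*} [Group P] (hP : Cfsg.IsExtraspecial 2 P) :
    ∃ z : P, IsE2 P z := by
  obtain ⟨⟨-, -, hcomm⟩, hc⟩ := hP
  exact IsE2.exists_of_card hc hcomm.le

/-- extraspecial groups are not commutative -/
theorem exists_not_comm_of_isExtraspecial {P : Type*} [Group P] [Finite P]
    (hP : Cfsg.IsExtraspecial 2 P) : ∃ x y : P, x * y ≠ y * x := by
  have hf2 : Fact (Nat.Prime 2) := ⟨Nat.prime_two⟩
  obtain ⟨z, h⟩ := IsE2.of_isExtraspecial hP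
  apply h.not_comm_of_card
  intro h2
  obtain ⟨n, hn1, hn⟩ := card_extraspecial (p := 2) hP
  rw [h2] at hn
  have : 2 ^ 1 = 2 ^ (2 * n + 1) := by rw [← hn]; norm_num
  have := Nat.pow_right_injective (le_refl 2) this
  omega

end Cfsg.Agent.Lib.Helper29
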