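import Mathlib
import Cfsg.Agent.Lib.Helper29.ExtraTwoClass
import Cfsg.Prelude.Def_CaseTheorems

set_option autoImplicit false

/-!
Elementary abelian subgroups of groups with centre `{1, z}` containing the commutator subgroup:
the largest ones have order `2^(n+1)` (plus type) or `2^n` (minus type), where `|P| = 2^(2n+1)`.
-/

namespace Cfsg.Agent.Lib.Helper29

universe u v

/-- elementary abelian `2`-subgroup -/
def IsEA2 {P : Type*} [Group P] (A : Subgroup P) : Prop :=
  (∀ a ∈ A, ∀ b ∈ A, a * b = b * a) ∧ ∀ a ∈ A, a * a = 1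

theorem IsE2.exists_involution_not_comm {P : Type*} [Group P] {z : P} (h : IsE2 P z)
    (t : P) (ht : t * t = 1) (htc : t ∉ Subgroup.center P) :
    ∃ y : P, y * y = 1 ∧ t * y ≠ y * t := by
  obtain ⟨y0, hy0⟩ : ∃ y0 : P, t * y0 ≠ y0 * t := by
    by_contra hcon
    push Not at hcon
    apply htc
    rw [Subgroup.mem_center_iff]
    intro g
    exact (hcon g).symm
  rcases h.sq_cases y0 with h1 | h1
  · exact ⟨y0, h1, hy0⟩
  · refine ⟨t * y0, ?_, ?_⟩
    · rw [h.mul_sq_of_not_comm hy0, ht, h1, one_mul, h.sq]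
    · intro e
      apply hy0
      have e' : t * (t * y0) = t * (y0 * t) := by rw [e]; group
      exact mul_left_cancel e'

theorem IsE2.isEA2_center {P : Type*} [Group P] {z : P} (h : IsE2 P z) :
    IsEA2 (Subgroup.center P) := by
  constructor
  · intro a ha b _
    exact (Subgroup.mem_center_iff.mp ha b).symm
  · intro a ha
    rcases h.all a ha with rfl | rfl
    · exact one_mul 1
    · exact h.sq

theorem IsE2.sqCount_of_card_two {P : Type u} [Group P] [Finite P] {z : P} (h : IsE2 P z)
    (hc : Nat.card P = 2) : sqCount P = 2 := by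
  obtain ⟨m, hm, hs, -⟩ := IsE2.count_main 2 P z h hc
  have hm0 : m = 0 := by
    have : 2 ^ 1 = 2 ^ (2 * m + 1) := by rw [← hm, hc]; norm_num
    have := Nat.pow_right_injective (le_refl 2) this
    omega
  subst hm0
  rcases hs with hs | hs
  · rw [hs]; norm_num
  · have := sqCount_pos P
    rw [hs] at this
    norm_num at this

theorem card_subgroupOf_comm {P : Type*} [Group P] (A Q : Subgroup P) :
    Nat.card (Q.subgroupOf A) = Nat.card (A.subgroupOf Q) :=
  Nat.card_congr
    { toFun := fun a => ⟨⟨a.1.1, Subgroup.mem_subgroupOf.mp a.2⟩, Subgroup.mem_subgroupOf.mpr a.1.2⟩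
      invFun := fun q => ⟨⟨q.1.1, Subgroup.mem_subgroupOf.mp q.2⟩, Subgroup.mem_subgroupOf.mpr q.1.2⟩
      left_inv := fun _ => rfl
      right_inv := fun _ => rfl }

theorem IsEA2.subgroupOf {P : Type*} [Group P] {A : Subgroup P} (hA : IsEA2 A) (Q : Subgroup P) :
    IsEA2 (A.subgroupOf Q) := by
  constructor
  · intro a ha b hb
    exact Subtype.ext (hA.1 _ (Subgroup.mem_subgroupOf.mp ha) _ (Subgroup.mem_subgroupOf.mp hb))
  · intro a ha
    exact Subtype.ext (hA.2 _ (Subgroup.mem_subgroupOf.mp ha))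

/-- an elementary abelian subgroup containing the involution `x` meets the centralizer of the pair
`x, y` in a subgroup of index two -/
theorem IsE2.card_eq_two_mul_subgroupOf {P : Type*} [Group P] [Finite P] {z : P} (h : IsE2 P z)
    {A : Subgroup P} (hA : IsEA2 A) {x y : P} (hxA : x ∈ A) (hxy : x * y ≠ y * x) :
    Nat.card A = 2 * Nat.card (A.subgroupOf (pairCent x y)) := by
  have hx := hA.2 x hxA
  have hidx : ((pairCent x y).subgroupOf A).index = 2 := by
    rw [Subgroup.index_eq_two_iff]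
    refine ⟨⟨x, hxA⟩, fun b => ?_⟩
    rw [Subgroup.mem_subgroupOf, Subgroup.mem_subgroupOf]
    have hbx : (b : P) * x = x * (b : P) := hA.1 _ b.2 _ hxA
    have hbxx : ((b : P) * x) * x = x * ((b : P) * x) := by
      have e1 : ((b : P) * x) * x = (b : P) := by rw [mul_assoc, hx, mul_one]
      have e2 : x * ((b : P) * x) = (b : P) := by rw [hbx, ← mul_assoc, hx, one_mul]
      rw [e1, e2]
    have e1 : (((b * ⟨x, hxA⟩ : A)) : P) = (b : P) * x := rfl
    rw [e1, mem_pairCent, mem_pairCent]
    have hyx : pairHom h.comm y x = h.zeta := h.pairHom_of_not_comm hxy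
    have hmul : pairHom h.comm y ((b : P) * x) = pairHom h.comm y (b : P) * h.zeta := by
      rw [map_mul, hyx]
    rcases h.center_cases (pairHom h.comm y (b : P)) with hb1 | hb1
    · right
      refine ⟨⟨hbx, (pairHom_eq_one_iff h.comm y _).mp hb1⟩, ?_⟩
      rintro ⟨-, h2⟩
      have := (pairHom_eq_one_iff h.comm y _).mpr h2
      rw [hmul, hb1, one_mul] at this
      exact h.zeta_ne this
    · left
      refine ⟨⟨hbxx, ?_⟩, ?_⟩
      · apply (pairHom_eq_one_iff h.comm y _).mp
        rw [hmul, hb1, h.zeta_sq]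
      · rintro ⟨-, h2⟩
        have := (pairHom_eq_one_iff h.comm y _).mpr h2
        rw [hb1] at this
        exact h.zeta_ne this
  have := Subgroup.card_mul_index ((pairCent x y).subgroupOf A)
  rw [hidx, card_subgroupOf_comm] at this
  omega

/-- **upper bound**: an elementary abelian subgroup `A` has `|A|² ≤ 2 |P|`, and equality forces the
number of solutions of `g² = 1` -/
theorem IsE2.rank_upper : ∀ (N : ℕ) (P : Type u) [Group P] [Finite P] (z : P), IsE2 P z →
    Nat.card P = N → ∀ A : Subgroup P, IsEA2 A →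
      Nat.card A ^ 2 ≤ 2 * Nat.card P ∧
      (Nat.card A ^ 2 = 2 * Nat.card P → 2 * sqCount P = Nat.card P + Nat.card A) := by
  intro N
  induction N using Nat.strong_induction_on with
  | _ N ih =>
  intro P _ _ z h hc A hA
  by_cases hAZ : A ≤ Subgroup.center P
  · have h1 : Nat.card A ≤ 2 := by rw [← h.card_center]; exact Subgroup.card_le_of_le hAZ
    have h2 : 2 ≤ Nat.card P := by rw [← h.card_center]; exact Subgroup.card_le_card_group _
    have h3 : 0 < Nat.card A := Nat.card_pos
    have h4 : Nat.card A = 1 ∨ Nat.card A = 2 := by omega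
    constructor
    · rcases h4 with e | e <;> rw [e] <;> omega
    · intro e
      rcases h4 with e1 | e1
      · rw [e1] at e; omega
      · rw [e1] at e ⊢
        have hP2 : Nat.card P = 2 := by omega
        rw [h.sqCount_of_card_two hP2, hP2]
  · obtain ⟨x, hxA, hxc⟩ := SetLike.not_le_iff_exists.mp hAZ
    have hx := hA.2 x hxA
    obtain ⟨y, hy, hxy⟩ := h.exists_involution_not_comm x hx hxc
    have hQ := h.pairCent_isE2 hxy
    have hcQ := h.card_eq_four_mul hxy
    have hcnt := h.card_sq_eq_one hxy hx hy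
    have hlt : Nat.card (pairCent x y) < N := by
      have : 0 < Nat.card (pairCent x y) := Nat.card_pos
      omega
    have hA' : IsEA2 (A.subgroupOf (pairCent x y)) := hA.subgroupOf _
    have hcard := h.card_eq_two_mul_subgroupOf hA hxA hxy
    obtain ⟨i1, i2⟩ := ih (Nat.card (pairCent x y)) hlt (pairCent x y) _ hQ rfl
      (A.subgroupOf (pairCent x y)) hA'
    constructor
    · rw [hcard, hcQ]; nlinarith
    · intro e
      have e' : Nat.card (A.subgroupOf (pairCent x y)) ^ 2 = 2 * Nat.card (pairCent x y) := by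
        rw [hcard, hcQ] at e; nlinarith
      have i3 := i2 e'
      unfold sqCount at i3 ⊢
      rw [hcnt, hcard, hcQ]; omega

theorem mem_zpowers_of_sq {P : Type*} [Group P] {x : P} (hx : x * x = 1) (u : P)
    (hu : u ∈ Subgroup.zpowers x) : u = 1 ∨ u = x := by
  obtain ⟨k, rfl⟩ := Subgroup.mem_zpowers_iff.mp hu
  have hx2 : x ^ (2 : ℤ) = 1 := by
    rw [zpow_two]; exact hx
  have hk : k = 2 * (k / 2) + k % 2 := (Int.mul_ediv_add_emod k 2).symm
  rw [hk, zpow_add, zpow_mul, hx2, one_zpow, one_mul]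
  rcases Int.emod_two_eq_zero_or_one k with e | e
  · left; rw [e, zpow_zero]
  · right; rw [e, zpow_one]

/-- extend an elementary abelian subgroup of the centralizer of the pair `x, y` by `x` -/
theorem exists_isEA2_extend {P : Type*} [Group P] {x y : P} (hx : x * x = 1)
    (hxy : x * y ≠ y * x) (A' : Subgroup (pairCent x y)) (hA' : IsEA2 A') :
    ∃ A : Subgroup P, IsEA2 A ∧ Nat.card A = 2 * Nat.card A' := by
  have hx1 : x ≠ 1 := by
    rintro rfl
    exact hxy (by rw [one_mul, mul_one])
  let f : A' →* P := (pairCent x y).subtype.comp A'.subtype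
  let g : Subgroup.zpowers x →* P := (Subgroup.zpowers x).subtype
  have hfa : ∀ a : A', f a = ((a : pairCent x y) : P) := fun _ => rfl
  have hgu : ∀ u : Subgroup.zpowers x, g u = (u : P) := fun _ => rfl
  have hu : ∀ u : Subgroup.zpowers x, (u : P) = 1 ∨ (u : P) = x :=
    fun u => mem_zpowers_of_sq hx u u.2
  have hax : ∀ a : A', f a * x = x * f a := fun a => (mem_pairCent.mp (a : pairCent x y).2).1
  have comm : ∀ (a : A') (u : Subgroup.zpowers x), Commute (f a) (g u) := by
    intro a u
    rw [hgu]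
    rcases hu u with e | e <;> rw [e]
    · exact Commute.one_right _
    · exact hax a
  let F := MonoidHom.noncommCoprod f g comm
  have hF : ∀ w, F w = f w.1 * g w.2 := fun w => rfl
  have hinj : Function.Injective F := by
    rw [MonoidHom.noncommCoprod_injective]
    refine ⟨?_, ?_, ?_⟩
    · intro a b e
      exact Subtype.ext (Subtype.ext e)
    · exact Subtype.val_injective
    · rw [Subgroup.disjoint_def]
      rintro w ⟨a, rfl⟩ ⟨u, hu'⟩
      rw [hgu] at hu'
      rcases hu u with e | e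
      · rw [← hu', e]
      · exfalso
        have hfx : f a = x := by rw [← hu']; exact e
        have h3 : f a ∈ pairCent x y := (a : pairCent x y).2
        rw [hfx] at h3
        exact hxy (mem_pairCent.mp h3).2
  have hww : ∀ w w' : A' × Subgroup.zpowers x, w * w' = w' * w := by
    intro w w'
    apply Prod.ext
    · exact Subtype.ext (hA'.1 _ w.1.2 _ w'.1.2)
    · apply Subtype.ext
      show (w.2 : P) * (w'.2 : P) = (w'.2 : P) * (w.2 : P)
      rcases hu w.2 with e | e <;> rcases hu w'.2 with e' | e' <;> rw [e, e'] <;>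
        rw [one_mul, mul_one]
  have hsq : ∀ w : A' × Subgroup.zpowers x, w * w = 1 := by
    intro w
    apply Prod.ext
    · exact Subtype.ext (hA'.2 _ w.1.2)
    · apply Subtype.ext
      show (w.2 : P) * (w.2 : P) = 1
      rcases hu w.2 with e | e <;> rw [e]
      · exact one_mul 1
      · exact hx
  refine ⟨F.range, ⟨?_, ?_⟩, ?_⟩
  · rintro _ ⟨w, rfl⟩ _ ⟨w', rfl⟩
    rw [← map_mul, ← map_mul, hww]
  · rintro _ ⟨w, rfl⟩
    rw [← map_mul, hsq, map_one]
  · rw [← Nat.card_congr (MonoidHom.ofInjective hinj).toEquiv, Nat.card_prod, Nat.card_zpowers,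
      orderOf_eq_prime (by rw [pow_two]; exact hx) hx1, mul_comm]

/-- **lower bound**: there is an elementary abelian subgroup of the largest possible order -/
theorem IsE2.rank_lower : ∀ (N : ℕ) (P : Type u) [Group P] [Finite P] (z : P), IsE2 P z →
    Nat.card P = N → ∃ A : Subgroup P, IsEA2 A ∧
      ((Nat.card A ^ 2 = 2 * Nat.card P ∧ 2 * sqCount P = Nat.card P + Nat.card A) ∨
       (2 * Nat.card A ^ 2 = Nat.card P ∧ 2 * sqCount P + 2 * Nat.card A = Nat.card P)) := by
  intro N
  induction N using Nat.strong_induction_on with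
  | _ N ih =>
  intro P _ _ z h hc
  rcases IsE2.comm_or_exists (P := P) with hcomm | hna
  · refine ⟨Subgroup.center P, h.isEA2_center, Or.inl ?_⟩
    have hP2 := h.card_of_comm hcomm
    rw [h.card_center, hP2, h.sqCount_of_card_two hP2]
    norm_num
  · by_cases hNI : ∀ t : P, t * t = 1 → t ∈ Subgroup.center P
    · obtain ⟨hcard, -, hcount⟩ := h.quaternion_of_no_involution hna hNI
      refine ⟨Subgroup.center P, h.isEA2_center, Or.inr ?_⟩
      unfold sqCount
      rw [h.card_center, hcard, hcount]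
      norm_num
    · obtain ⟨x, hx, hxc⟩ := h.exists_noncentral_involution hNI
      obtain ⟨y, hy, hxy⟩ := h.exists_involution_not_comm x hx hxc
      have hQ := h.pairCent_isE2 hxy
      have hcQ := h.card_eq_four_mul hxy
      have hcnt := h.card_sq_eq_one hxy hx hy
      have hlt : Nat.card (pairCent x y) < N := by
        have : 0 < Nat.card (pairCent x y) := Nat.card_pos
        omega
      obtain ⟨A', hA', hcase⟩ := ih (Nat.card (pairCent x y)) hlt (pairCent x y) _ hQ rfl
      obtain ⟨A, hA, hcardA⟩ := exists_isEA2_extend hx hxy A' hA'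
      refine ⟨A, hA, ?_⟩
      unfold sqCount at hcase ⊢
      rcases hcase with ⟨c1, c2⟩ | ⟨c1, c2⟩
      · left
        constructor
        · rw [hcardA, hcQ]; nlinarith
        · rw [hcnt, hcardA, hcQ]; omega
      · right
        constructor
        · rw [hcardA, hcQ]; nlinarith
        · rw [hcnt, hcardA, hcQ]; omega

theorem isEA2_of_prank {P : Type*} [Group P] (A : Subgroup P) (hc : IsMulCommutative A)
    (h2 : ∀ a ∈ A, a ^ 2 = 1) : IsEA2 A := by
  constructor
  · intro a ha b hb
    exact congrArg Subtype.val (hc.is_comm.comm ⟨a, ha⟩ ⟨b, hb⟩)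
  · intro a ha
    rw [← pow_two]; exact h2 a ha

theorem IsEA2.isMulCommutative {P : Type*} [Group P] {A : Subgroup P} (hA : IsEA2 A) :
    IsMulCommutative A :=
  ⟨⟨fun a b => Subtype.ext (hA.1 a a.2 b b.2)⟩⟩

theorem IsEA2.pow_two {P : Type*} [Group P] {A : Subgroup P} (hA : IsEA2 A) :
    ∀ a ∈ A, a ^ 2 = 1 := by
  intro a ha
  rw [_root_.pow_two]; exact hA.2 a ha

/-- **rank of extraspecial 2-groups** -/
theorem rank_extraspecial_two {P : Type u} [Group P] [Finite P] (hP : Cfsg.IsExtraspecial 2 P)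
    (n : ℕ) (hn : Nat.card P = 2 ^ (2 * n + 1)) :
    (Cfsg.PRankLE 2 n P ∧ ¬ Cfsg.PRankLE 2 (n - 1) P ∧
        2 * sqCount P + 2 ^ (n + 1) = 2 ^ (2 * n + 1)) ∨
    (Cfsg.PRankLE 2 (n + 1) P ∧ ¬ Cfsg.PRankLE 2 n P ∧
        2 * sqCount P = 2 ^ (2 * n + 1) + 2 ^ (n + 1)) := by
  have hf2 : Fact (Nat.Prime 2) := ⟨Nat.prime_two⟩
  obtain ⟨z, h⟩ := IsE2.of_isExtraspecial hP
  have hn1 : 1 ≤ n := by
    obtain ⟨n', hn'1, hn'⟩ := card_extraspecial (p := 2) hP
    have : 2 ^ (2 * n + 1) = 2 ^ (2 * n' + 1) := by rw [← hn, ← hn']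
    have := Nat.pow_right_injective (le_refl 2) this
    omega
  -- orders of subgroups are powers of two
  have hpow : ∀ A : Subgroup P, ∃ k : ℕ, Nat.card A = 2 ^ k := by
    intro A
    have hd : Nat.card A ∣ 2 ^ (2 * n + 1) := by rw [← hn]; exact Subgroup.card_subgroup_dvd_card A
    obtain ⟨k, -, hk⟩ := (Nat.dvd_prime_pow Nat.prime_two).mp hd
    exact ⟨k, hk⟩
  -- the general upper bound
  have hupper : ∀ A : Subgroup P, IsEA2 A → ∀ k : ℕ, Nat.card A = 2 ^ k → k ≤ n + 1 := by
    intro A hA k hk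
    have h1 := (IsE2.rank_upper _ P z h rfl A hA).1
    rw [hk, hn] at h1
    have h2 : 2 ^ (2 * k) ≤ 2 ^ (2 * n + 2) := by
      calc 2 ^ (2 * k) = (2 ^ k) ^ 2 := by rw [← pow_mul, mul_comm]
        _ ≤ 2 * 2 ^ (2 * n + 1) := h1
        _ = 2 ^ (2 * n + 2) := by ring
    have := (Nat.pow_le_pow_iff_right (le_refl 2)).mp h2
    omega
  obtain ⟨A, hA, hcase⟩ := IsE2.rank_lower _ P z h rfl
  obtain ⟨k, hk⟩ := hpow A
  rcases hcase with ⟨c1, c2⟩ | ⟨c1, c2⟩
  · -- plus type
    right
    have hkn : k = n + 1 := by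
      rw [hk, hn] at c1
      have : 2 ^ (2 * k) = 2 ^ (2 * n + 2) := by
        calc 2 ^ (2 * k) = (2 ^ k) ^ 2 := by rw [← pow_mul, mul_comm]
          _ = 2 * 2 ^ (2 * n + 1) := c1
          _ = 2 ^ (2 * n + 2) := by ring
      have := Nat.pow_right_injective (le_refl 2) this
      omega
    subst hkn
    refine ⟨?_, ?_, ?_⟩
    · intro A₀ hc₀ h2₀
      obtain ⟨k₀, hk₀⟩ := hpow A₀
      have := hupper A₀ (isEA2_of_prank A₀ hc₀ h2₀) k₀ hk₀
      rw [hk₀]
      exact Nat.pow_le_pow_right (by norm_num) this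
    · intro hr
      have := hr A hA.isMulCommutative hA.pow_two
      rw [hk] at this
      have := (Nat.pow_le_pow_iff_right (le_refl 2)).mp this
      omega
    · rw [c2, hn, hk]
  · -- minus type
    left
    have hkn : k = n := by
      rw [hk, hn] at c1
      have : 2 ^ (2 * k + 1) = 2 ^ (2 * n + 1) := by
        calc 2 ^ (2 * k + 1) = 2 * (2 ^ k) ^ 2 := by rw [← pow_mul]; ring
          _ = 2 ^ (2 * n + 1) := c1
      have := Nat.pow_right_injective (le_refl 2) this
      omega
    subst hkn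
    have hcount : 2 * sqCount P + 2 ^ (k + 1) = 2 ^ (2 * k + 1) := by
      rw [← hn, ← c2, hk]; ring
    refine ⟨?_, ?_, hcount⟩
    · intro A₀ hc₀ h2₀
      obtain ⟨k₀, hk₀⟩ := hpow A₀
      have hA₀ := isEA2_of_prank A₀ hc₀ h2₀
      have hle := hupper A₀ hA₀ k₀ hk₀
      rw [hk₀]
      apply Nat.pow_le_pow_right (by norm_num)
      by_contra hlt
      have hk₀' : k₀ = k + 1 := by omega
      subst hk₀'
      have h2 := (IsE2.rank_upper _ P z h rfl A₀ hA₀).2
      rw [hk₀, hn] at h2
      have h3 := h2 (by rw [← pow_mul]; ring)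
      have hpos : 0 < 2 ^ (k + 1) := by positivity
      omega
    · intro hr
      have := hr A hA.isMulCommutative hA.pow_two
      rw [hk] at this
      have := (Nat.pow_le_pow_iff_right (le_refl 2)).mp this
      omega

end Cfsg.Agent.Lib.Helper29
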