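import Mathlib
import Cfsg.Agent.Lib.Helper29.Extraspecial
import Cfsg.Agent.Lib.Helper2.PGroup
import Cfsg.Agent.Lib.Helper47.Frattini

set_option autoImplicit false

/-!
Elementwise tools for groups with small commutators: power formulas with local commutation
hypotheses, cyclic `p`-group bookkeeping, an abstract duality lemma, and a criterion for
extraspecial groups.
-/

namespace Cfsg.Agent.Lib.Helper29

open scoped commutatorElement

section elem

variable {G : Type*} [Group G]

theorem cm_eq_comm (a b : G) : cm a b = ⁅a, b⁆ := (commutatorElement_def a b).symm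

theorem cm_pow_left' (q x : G) (h : q * cm q x = cm q x * q) (n : ℕ) :
    cm (q ^ n) x = (cm q x) ^ n := by
  rw [cm_eq_comm, cm_eq_comm]
  refine Cfsg.Agent.Lib.Helper2.commutator_pow_left q x ?_ n
  rw [← cm_eq_comm]
  exact h.symm

theorem cm_pow_right' (q x : G) (h : x * cm q x = cm q x * x) (n : ℕ) :
    cm q (x ^ n) = (cm q x) ^ n := by
  rw [cm_eq_comm, cm_eq_comm]
  refine Cfsg.Agent.Lib.Helper2.commutator_pow_right q x ?_ n
  rw [← cm_eq_comm]
  exact h.symm

/-- `[q q', x] = [q', x] [q, x]` when `[q', x]` commutes with `q` -/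
theorem cm_mul_left'' (q q' x : G) (h : q * cm q' x = cm q' x * q) :
    cm (q * q') x = cm q' x * cm q x := by
  have h1 : cm (q * q') x = q * cm q' x * q⁻¹ * cm q x := by
    simp only [cm]; group
  rw [h1, h]; group

/-- conjugation in terms of the commutator -/
theorem conj_eq_cm_mul (g e : G) : g * e * g⁻¹ = cm g e * e := by
  simp only [cm]; group

theorem pow_mul_eq_cm (x y : G) (hy : y * cm y x = cm y x * y) (n : ℕ) :
    y ^ n * x = (cm y x) ^ n * x * y ^ n := by
  rw [← cm_pow_left' y x hy n]
  simp only [cm]; group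

/-- the class-two power formula with local commutation hypotheses -/
theorem mul_pow_cm (x y : G) (hx : x * cm y x = cm y x * x) (hy : y * cm y x = cm y x * y)
    (n : ℕ) : (x * y) ^ n = x ^ n * y ^ n * (cm y x) ^ (n.choose 2) := by
  induction n with
  | zero => simp
  | succ n ih =>
    have hxk : ∀ k : ℕ, x * (cm y x) ^ k = (cm y x) ^ k * x := fun k =>
      (Commute.pow_right (show Commute x (cm y x) from hx) k)
    have hyk : ∀ k m : ℕ, y ^ m * (cm y x) ^ k = (cm y x) ^ k * y ^ m := fun k m =>
      (Commute.pow_pow (show Commute y (cm y x) from hy) m k)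
    have h1 : Nat.choose (n + 1) 2 = Nat.choose n 2 + n := by
      rw [Nat.choose_succ_succ' n 1, Nat.choose_one_right, add_comm]
    rw [h1]
    calc (x * y) ^ (n + 1) = x ^ n * y ^ n * cm y x ^ n.choose 2 * (x * y) := by
          rw [pow_succ, ih]
      _ = x ^ n * (y ^ n * (cm y x ^ n.choose 2 * x)) * y := by group
      _ = x ^ n * (y ^ n * (x * cm y x ^ n.choose 2)) * y := by rw [hxk (n.choose 2)]
      _ = x ^ n * (y ^ n * x) * cm y x ^ n.choose 2 * y := by group
      _ = x ^ n * (cm y x ^ n * x * y ^ n) * cm y x ^ n.choose 2 * y := by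
          rw [pow_mul_eq_cm x y hy n]
      _ = x ^ n * (cm y x ^ n * x) * (y ^ n * cm y x ^ n.choose 2) * y := by group
      _ = x ^ n * (x * cm y x ^ n) * (cm y x ^ n.choose 2 * y ^ n) * y := by
          rw [hxk n, hyk (n.choose 2) n]
      _ = x ^ (n + 1) * ((cm y x ^ n * cm y x ^ n.choose 2) * y ^ (n + 1)) := by
          rw [pow_succ, pow_succ]; group
      _ = x ^ (n + 1) * (y ^ (n + 1) * (cm y x ^ n * cm y x ^ n.choose 2)) := by
          rw [← pow_add, hyk _ (n + 1)]
      _ = x ^ (n + 1) * y ^ (n + 1) * cm y x ^ (n.choose 2 + n) := by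
          rw [← pow_add, Nat.add_comm n (n.choose 2), mul_assoc]

/-- in a group all of whose squares are central... the commutator as a product of squares -/
theorem cm_eq_sq_mul (a b : G) (ha : ∀ g : G, g * (a * a)⁻¹ = (a * a)⁻¹ * g) :
    cm a b = (a * b) * (a * b) * (a * a)⁻¹ * (b * b)⁻¹ := by
  have h := ha b⁻¹
  calc cm a b = a * b * a * (b * (b⁻¹ * (a * a)⁻¹)) * b⁻¹ := by simp only [cm]; group
    _ = a * b * a * (b * ((a * a)⁻¹ * b⁻¹)) * b⁻¹ := by rw [h]
    _ = (a * b) * (a * b) * (a * a)⁻¹ * (b * b)⁻¹ := by group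

end elem

section numeric

theorem prime_dvd_choose_pow_two {p : ℕ} (hp : p.Prime) (n : ℕ) (hn : 2 ≤ n) :
    p ∣ (p ^ n).choose 2 := by
  by_contra h
  have h2 : 2 * (p ^ n).choose 2 = p ^ n * (p ^ n - 1) := by
    rw [Nat.choose_two_right]
    exact Nat.two_mul_div_two_of_even (Nat.even_mul_pred_self _)
  have h3 : p ^ 2 ∣ 2 * (p ^ n).choose 2 := by
    rw [h2]
    exact Dvd.dvd.mul_right (pow_dvd_pow p hn) _
  have hcop : Nat.Coprime (p ^ 2) ((p ^ n).choose 2) :=
    Nat.Coprime.pow_left 2 ((Nat.Prime.coprime_iff_not_dvd hp).2 h)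
  have h4 : p ^ 2 ∣ 2 := hcop.dvd_of_dvd_mul_right h3
  have h5 := Nat.le_of_dvd (by norm_num) h4
  have h6 : 2 ≤ p := hp.two_le
  nlinarith

theorem prime_dvd_choose_two_of_odd {p : ℕ} (hp : p.Prime) (hp2 : p ≠ 2) : p ∣ p.choose 2 := by
  have h2 : 2 < p := lt_of_le_of_ne hp.two_le (Ne.symm hp2)
  exact hp.dvd_choose_self (by norm_num) h2

end numeric

section cyclic

variable {G : Type*} [Group G]

/-- in the cyclic group generated by `c` of order `p ^ n`, the solutions of `u ^ (p ^ i) = 1`
lie in the subgroup generated by `c ^ (p ^ (n - i))` -/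
theorem mem_zpowers_pow_of_pow_eq_one {c u : G} {p n i : ℕ} (hp : p.Prime)
    (hc : orderOf c = p ^ n) (hi : i ≤ n) (hu : u ∈ Subgroup.zpowers c)
    (h : u ^ (p ^ i) = 1) : u ∈ Subgroup.zpowers (c ^ (p ^ (n - i))) := by
  have hfin : IsOfFinOrder c := by
    rw [← orderOf_pos_iff, hc]; exact pow_pos hp.pos n
  obtain ⟨k, rfl⟩ := hfin.mem_powers_iff_mem_zpowers.2 hu
  rw [← pow_mul] at h
  have h1 : p ^ n ∣ k * p ^ i := by
    rw [← hc]; exact orderOf_dvd_of_pow_eq_one h
  have h2 : p ^ (n - i) * p ^ i ∣ k * p ^ i := by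
    rw [← pow_add, Nat.sub_add_cancel hi]; exact h1
  have h3 : p ^ (n - i) ∣ k := Nat.dvd_of_mul_dvd_mul_right (pow_pos hp.pos i) h2
  obtain ⟨m, rfl⟩ := h3
  show c ^ (p ^ (n - i) * m) ∈ Subgroup.zpowers (c ^ p ^ (n - i))
  rw [pow_mul]
  exact Subgroup.npow_mem_zpowers _ m

/-- every element of the cyclic group generated by `c` of order `p ^ n` is killed by `p ^ n` -/
theorem pow_eq_one_of_mem_zpowers {c u : G} {m : ℕ} (hc : c ^ m = 1)
    (hu : u ∈ Subgroup.zpowers c) : u ^ m = 1 := by
  obtain ⟨k, rfl⟩ := Subgroup.mem_zpowers_iff.1 hu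
  rw [← zpow_natCast, ← zpow_mul, mul_comm, zpow_mul, zpow_natCast, hc, one_zpow]

/-- a nontrivial element of a cyclic group of prime order generates it -/
theorem zpowers_eq_of_mem_of_ne_one {z w : G} {p : ℕ} (hp : p.Prime) (hz : orderOf z = p)
    (hw : w ∈ Subgroup.zpowers z) (hw1 : w ≠ 1) : Subgroup.zpowers w = Subgroup.zpowers z := by
  have hzp : z ^ p = 1 := by rw [← hz]; exact pow_orderOf_eq_one z
  have hwp : w ^ p = 1 := pow_eq_one_of_mem_zpowers hzp hw
  have h1 : orderOf w ∣ p := orderOf_dvd_of_pow_eq_one hwp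
  have h2 : orderOf w = p := by
    rcases (Nat.dvd_prime hp).1 h1 with h | h
    · exact absurd (orderOf_eq_one_iff.1 h) hw1
    · exact h
  have : Finite (Subgroup.zpowers z) := by
    apply Nat.finite_of_card_ne_zero
    rw [Nat.card_zpowers, hz]; exact hp.ne_zero
  apply Subgroup.eq_of_le_of_card_ge
  · rw [Subgroup.zpowers_le]; exact hw
  · rw [Nat.card_zpowers, Nat.card_zpowers, hz, h2]

/-- membership in `zpowers` of a subgroup element, seen in the ambient group -/
theorem coe_mem_zpowers_iff {S : Subgroup G} (z x : S) :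
    x ∈ Subgroup.zpowers z ↔ (x : G) ∈ Subgroup.zpowers (z : G) := by
  constructor
  · rintro ⟨k, rfl⟩
    exact ⟨k, by simp⟩
  · rintro ⟨k, hk⟩
    refine ⟨k, ?_⟩
    apply Subtype.ext
    simpa using hk

/-- a cyclic group contains no subgroup of order `p ^ 2` and exponent `p` -/
theorem not_isCyclic_of_le {T W : Subgroup G} {p : ℕ} (hp : p.Prime) (hWT : W ≤ T)
    (hW : Nat.card W = p ^ 2) (hexp : ∀ w ∈ W, w ^ p = 1) : ¬ IsCyclic T := by
  intro hT
  have : IsCyclic W := isCyclic_of_injective (Subgroup.inclusion hWT)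
    (Subgroup.inclusion_injective hWT)
  have h1 : Monoid.exponent W = Nat.card W := IsCyclic.exponent_eq_card
  have h2 : Monoid.exponent W ∣ p := by
    apply Monoid.exponent_dvd_of_forall_pow_eq_one
    intro w
    apply Subtype.ext
    simpa using hexp w w.2
  rw [h1, hW] at h2
  have h3 := Nat.le_of_dvd hp.pos h2
  have h4 : 2 ≤ p := hp.two_le
  nlinarith

end cyclic

section duality

variable {P A : Type*} [Group P] [Finite P] [Group A] {p : ℕ} [hp : Fact p.Prime]

/-- **Abstract duality**: a bimultiplicative pairing `β` into a group of prime order whose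
kernels are the centralizers represents every homomorphism that kills the centre. -/
theorem duality_abstract (hA : Nat.card A = p) (β : P → P → A)
    (hβl : ∀ x y q, β (x * y) q = β x q * β y q)
    (hβr : ∀ x q q', β x (q * q') = β x q * β x q')
    (hβ1 : ∀ x q, β x q = 1 ↔ q * x = x * q)
    (lam : P →* A) (hlam : ∀ q ∈ Subgroup.center P, lam q = 1) :
    ∃ x : P, ∀ q, lam q = β x q := by
  classical
  obtain ⟨j, hj⟩ := exists_injective_hom_complex (p := p) A hA
  -- the characters `q ↦ j (β x q)`
  let χ : P → (P →* ℂˣ) := fun x =>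
    { toFun := fun q => j (β x q)
      map_one' := by
        have : β x 1 = 1 := (hβ1 x 1).2 (by simp)
        rw [this, map_one]
      map_mul' := fun q q' => by rw [hβr, map_mul] }
  have hχ : ∀ x q, χ x q = j (β x q) := fun x q => rfl
  have hχ1 : ∀ x q, χ x q = 1 ↔ q * x = x * q := by
    intro x q
    rw [hχ, ← hβ1]
    constructor
    · intro h; apply hj; rw [h, map_one]
    · intro h; rw [h, map_one]
  -- commutators are central
  have hcen : ∀ a b : P, cm a b ∈ Subgroup.center P := by
    intro a b
    rw [Subgroup.mem_center_iff]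
    intro g
    have h1 : χ g (cm a b) = 1 := by
      simp only [cm, map_mul, map_inv]
      rw [mul_comm (χ g a) (χ g b)]
      simp
    exact ((hχ1 g (cm a b)).1 h1).symm
  let instQ : CommGroup (P ⧸ Subgroup.center P) :=
    { (inferInstance : Group (P ⧸ Subgroup.center P)) with
      mul_comm := by
        intro a b
        induction a using QuotientGroup.induction_on with
        | H a =>
          induction b using QuotientGroup.induction_on with
          | H b =>
            rw [← QuotientGroup.mk_mul, ← QuotientGroup.mk_mul, QuotientGroup.eq]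
            have : (a * b)⁻¹ * (b * a) = cm b⁻¹ a⁻¹ := by simp only [cm]; group
            rw [this]
            exact hcen _ _ }
  -- the lifted characters on the quotient
  have hker : ∀ x : P, Subgroup.center P ≤ (χ x).ker := by
    intro x q hq
    rw [MonoidHom.mem_ker, hχ1]
    exact (Subgroup.mem_center_iff.1 hq x).symm
  let Ψ : P →* ((P ⧸ Subgroup.center P) →* ℂˣ) :=
    { toFun := fun x => QuotientGroup.lift (Subgroup.center P) (χ x) (hker x)
      map_one' := by
        apply MonoidHom.ext
        intro q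
        induction q using QuotientGroup.induction_on with
        | H q =>
          have : χ 1 q = 1 := (hχ1 1 q).2 (by simp)
          simpa using this
      map_mul' := fun x y => by
        apply MonoidHom.ext
        intro q
        induction q using QuotientGroup.induction_on with
        | H q =>
          simp only [QuotientGroup.lift_mk, MonoidHom.mul_apply]
          rw [hχ, hχ, hχ, hβl, map_mul] }
  have hΨ : ∀ x q, Ψ x (QuotientGroup.mk q) = χ x q := fun x q => rfl
  have hΨker : Ψ.ker = Subgroup.center P := by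
    ext x
    rw [MonoidHom.mem_ker, Subgroup.mem_center_iff]
    constructor
    · intro h g
      have h1 : Ψ x (QuotientGroup.mk g) = 1 := by rw [h]; rfl
      rw [hΨ] at h1
      exact ((hχ1 x g).1 h1)
    · intro h
      apply MonoidHom.ext
      intro q
      induction q using QuotientGroup.induction_on with
      | H q =>
        rw [hΨ, (hχ1 x q).2 (h q)]; rfl
  have hcard1 : Nat.card ((P ⧸ Subgroup.center P) →* ℂˣ) = Nat.card (P ⧸ Subgroup.center P) :=
    CommGroup.card_monoidHom_of_hasEnoughRootsOfUnity (P ⧸ Subgroup.center P) ℂ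
  have hcard2 : Nat.card Ψ.range = (Subgroup.center P).index := by
    have := Subgroup.index_ker Ψ
    rw [hΨker] at this
    exact this.symm
  have hrange : Ψ.range = ⊤ := by
    rw [← Subgroup.card_eq_iff_eq_top, hcard2, hcard1]; rfl
  -- the character induced by `lam`
  have hlamker : Subgroup.center P ≤ (j.comp lam).ker := by
    intro q hq
    rw [MonoidHom.mem_ker, MonoidHom.comp_apply, hlam q hq, map_one]
  obtain ⟨x, hx⟩ : QuotientGroup.lift (Subgroup.center P) (j.comp lam) hlamker ∈ Ψ.range := by
    rw [hrange]; exact Subgroup.mem_top _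
  refine ⟨x, fun q => ?_⟩
  have h1 : Ψ x (QuotientGroup.mk q) = j (lam q) := by rw [hx]; rfl
  rw [hΨ, hχ] at h1
  exact (hj h1).symm

end duality

section criterion

variable {P : Type*} [Group P] [Finite P] {p : ℕ} [hp : Fact p.Prime]

/-- a criterion for a finite `p`-group to be extraspecial -/
theorem isExtraspecial_of_elem (hP : IsPGroup p P) (z : P) (hz : orderOf z = p)
    (hzc : ∀ g : P, z * g = g * z)
    (hcomm : ∀ a b : P, cm a b ∈ Subgroup.zpowers z)
    (hpow : ∀ a : P, a ^ p ∈ Subgroup.zpowers z)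
    (hcen : ∀ x : P, (∀ g, x * g = g * x) → x ∈ Subgroup.zpowers z)
    (hna : ∃ a b : P, a * b ≠ b * a) : Cfsg.IsExtraspecial p P := by
  have hcenter : Subgroup.center P = Subgroup.zpowers z := by
    apply le_antisymm
    · intro x hx
      exact hcen x (fun g => (Subgroup.mem_center_iff.1 hx g).symm)
    · rw [Subgroup.zpowers_le, Subgroup.mem_center_iff]
      intro g; exact (hzc g).symm
  have hle : commutator P ≤ Subgroup.zpowers z := by
    rw [commutator_def, Subgroup.commutator_le]
    intro a _ b _
    rw [← cm_eq_comm]; exact hcomm a b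
  have hcommeq : commutator P = Subgroup.zpowers z := by
    apply le_antisymm hle
    obtain ⟨a, b, hab⟩ := hna
    have h1 : cm a b ≠ 1 := fun h => hab ((cm_eq_one_iff a b).1 h)
    have h2 := zpowers_eq_of_mem_of_ne_one hp.1 hz (hcomm a b) h1
    rw [← h2, Subgroup.zpowers_le]
    exact cm_mem_commutator a b
  refine ⟨⟨hP, ?_, ?_⟩, ?_⟩
  · rw [hcenter]
    apply le_antisymm
    · apply Cfsg.Agent.Lib.Helper47.frattini_le_of_elementary_abelian_quotient p
      · intro a b
        rw [← cm_eq_comm]; exact hcomm a b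
      · exact hpow
    · rw [← hcommeq]
      exact Cfsg.Agent.Lib.Helper2.commutator_le_frattini hP
  · rw [hcenter, hcommeq]
  · rw [hcenter, Nat.card_zpowers, hz]

end criterion

end Cfsg.Agent.Lib.Helper29
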