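import Mathlib
import Cfsg.Agent.Lib.Helper53.UniqInv
import Cfsg.Agent.Lib.Helper29.SympTools
import Cfsg.Agent.Lib.Helper29.PGroupNormal
import Cfsg.Agent.Lib.Helper29.ExtraTwoRank
import Cfsg.Agent.Lib.Helper31.CritSub

/-!
# Finite 2-groups without noncyclic abelian subgroups of order 8 (part A)

`NoAb8 P`: every abelian subgroup of order `8` of `P` is cyclic.  Basic consequences for
abelian groups, groups of exponent `4`, and the centralizer of a normal subgroup of order `4`.
-/

set_option autoImplicit false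

namespace Cfsg.Agent.Lib.Helper29.SmallTwo

variable {P : Type*} [Group P]

/-- every abelian subgroup of order `8` is cyclic -/
def NoAb8 (P : Type*) [Group P] : Prop :=
  ∀ A : Subgroup P, IsMulCommutative A → Nat.card A = 8 → IsCyclic A

theorem NoAb8.sub (h : NoAb8 P) (M : Subgroup P) : NoAb8 M := by
  intro A hA hc
  let e := A.equivMapOfInjective M.subtype M.subtype_injective
  have h1 : IsMulCommutative (A.map M.subtype) := by
    refine ⟨⟨fun a b => ?_⟩⟩
    have h2 := hA.is_comm.comm (e.symm a) (e.symm b)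
    have h3 := congrArg e h2
    simpa using h3
  have h2 : Nat.card (A.map M.subtype) = 8 := by
    rw [← hc]; exact (Nat.card_congr e.toEquiv).symm
  have := h _ h1 h2
  exact isCyclic_of_surjective e.symm e.symm.surjective

theorem NoAb8.of_equiv {Q : Type*} [Group Q] (h : NoAb8 P) (e : Q ≃* P) : NoAb8 Q := by
  intro A hA hc
  let e' := A.equivMapOfInjective e.toMonoidHom e.injective
  have h1 : IsMulCommutative (A.map e.toMonoidHom) := by
    refine ⟨⟨fun a b => ?_⟩⟩
    have h2 := hA.is_comm.comm (e'.symm a) (e'.symm b)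
    have h3 := congrArg e' h2
    rw [map_mul, map_mul, MulEquiv.apply_symm_apply, MulEquiv.apply_symm_apply] at h3
    exact h3
  have h2 : Nat.card (A.map e.toMonoidHom) = 8 := by
    rw [← hc]; exact (Nat.card_congr e'.toEquiv).symm
  have := h _ h1 h2
  exact isCyclic_of_surjective e'.symm e'.symm.surjective

theorem card_mul_relIndex [Finite P] {H K : Subgroup P} (h : H ≤ K) :
    Nat.card H * H.relIndex K = Nat.card K := by
  have h1 := Subgroup.relIndex_mul_index h
  have h2 := Subgroup.card_mul_index H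
  have h3 := Subgroup.card_mul_index K
  have hK : K.index ≠ 0 := Subgroup.index_ne_zero_of_finite
  have : Nat.card H * H.relIndex K * K.index = Nat.card K * K.index := by
    rw [mul_assoc, h1, h2, h3]
  exact Nat.eq_of_mul_eq_mul_right (Nat.pos_of_ne_zero hK) this

/-- a cyclic group of exponent dividing `4` has order at most `4` -/
theorem card_le_four_of_cyclic [Finite P] (hcyc : IsCyclic P) (h4 : ∀ x : P, x ^ 4 = 1) :
    Nat.card P ≤ 4 := by
  obtain ⟨g, hg⟩ := hcyc.exists_generator
  have : Nat.card P = orderOf g := (orderOf_eq_card_of_forall_mem_zpowers hg).symm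
  rw [this]; exact orderOf_le_of_pow_eq_one (by norm_num) (h4 g)

/-- a commutative `2`-group without noncyclic abelian subgroups of order `8` is cyclic or of
order at most `4` -/
theorem cyclic_or_card_le [Finite P] (hP : IsPGroup 2 P) (hs : NoAb8 P)
    (hc : ∀ x y : P, x * y = y * x) : IsCyclic P ∨ Nat.card P ≤ 4 := by
  by_contra hcon
  push Not at hcon
  obtain ⟨hnc, hcard⟩ := hcon
  haveI : Fact (Nat.Prime 2) := ⟨Nat.prime_two⟩
  obtain ⟨n, hn⟩ := hP.exists_card_eq
  have hn3 : 3 ≤ n := by
    by_contra h; push Not at h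
    have : 2 ^ n ≤ 2 ^ 2 := Nat.pow_le_pow_right (by norm_num) (by omega)
    omega
  have h2 : 2 ∣ Nat.card P := by rw [hn]; exact dvd_pow_self 2 (by omega)
  obtain ⟨z, hz⟩ := exists_prime_orderOf_dvd_card' 2 h2
  have hex : ∃ t : P, orderOf t = 2 ∧ t ≠ z := by
    by_contra h; push Not at h
    exact hnc (Cfsg.Agent.Lib.Helper53.ui_isCyclic_of_comm hP (z := z) h hc)
  obtain ⟨t, ht, htz⟩ := hex
  let Ω : Subgroup P :=
    { carrier := {x | x ^ 2 = 1}
      one_mem' := by simp
      mul_mem' := by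
        intro a b ha hb
        simp only [Set.mem_ofPred_eq] at ha hb ⊢
        rw [(show Commute a b from hc a b).mul_pow, ha, hb, one_mul]
      inv_mem' := by
        intro a ha
        simp only [Set.mem_ofPred_eq] at ha ⊢
        rw [inv_pow, ha, inv_one] }
  have hzΩ : z ∈ Ω := by
    show z ^ 2 = 1
    rw [← hz]; exact pow_orderOf_eq_one z
  have htΩ : t ∈ Ω := by
    show t ^ 2 = 1
    rw [← ht]; exact pow_orderOf_eq_one t
  obtain ⟨j, hj⟩ := (hP.to_subgroup Ω).exists_card_eq
  have hj2 : 2 ≤ j := by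
    by_contra h; push Not at h
    have hle : Subgroup.zpowers z ≤ Ω := by rw [Subgroup.zpowers_le]; exact hzΩ
    have hcz : Nat.card (Subgroup.zpowers z) = 2 := by rw [Nat.card_zpowers, hz]
    have hΩ2 : Nat.card Ω ≤ 2 := by
      rw [hj]
      calc 2 ^ j ≤ 2 ^ 1 := Nat.pow_le_pow_right (by norm_num) (by omega)
        _ = 2 := by norm_num
    have heq : Subgroup.zpowers z = Ω := by
      apply Subgroup.eq_of_le_of_card_ge hle
      rw [hcz]; exact hΩ2
    have htz' : t ∈ Subgroup.zpowers z := by rw [heq]; exact htΩ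
    have hz2 : z * z = 1 := by
      have := pow_orderOf_eq_one z
      rw [hz, pow_two] at this; exact this
    rcases Cfsg.Agent.Lib.Helper29.mem_zpowers_of_sq hz2 t htz' with h1 | h1
    · rw [h1, orderOf_one] at ht; omega
    · exact htz h1
  have hdvd : 2 ^ 2 ∣ Nat.card Ω := by rw [hj]; exact pow_dvd_pow 2 hj2
  obtain ⟨K, hK⟩ := Sylow.exists_subgroup_card_pow_prime 2 hdvd
  have hV : Nat.card (K.map Ω.subtype) = 2 ^ 2 := by
    rw [← hK]
    exact (Nat.card_congr (K.equivMapOfInjective Ω.subtype Ω.subtype_injective).toEquiv).symm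
  have hVexp : ∀ w ∈ K.map Ω.subtype, w ^ 2 = 1 := by
    rintro w ⟨k, _, rfl⟩
    exact k.2
  have hdvd8 : 2 ^ (2 + 1) ∣ Nat.card P := by rw [hn]; exact pow_dvd_pow 2 hn3
  obtain ⟨A, hA, hVA⟩ := Sylow.exists_subgroup_card_pow_succ hdvd8 hV
  have hAc : IsMulCommutative A := ⟨⟨fun a b => Subtype.ext (hc a b)⟩⟩
  have hAcyc := hs A hAc (by rw [hA]; norm_num)
  exact Cfsg.Agent.Lib.Helper29.not_isCyclic_of_le Nat.prime_two hVA hV hVexp hAcyc

/-- abelian subgroups of a `2`-group without noncyclic abelian subgroups of order `8` -/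
theorem NoAb8.abelian_sub [Finite P] (hP : IsPGroup 2 P) (h : NoAb8 P) (B : Subgroup P)
    (hB : ∀ a ∈ B, ∀ b ∈ B, a * b = b * a) : IsCyclic B ∨ Nat.card B ≤ 4 :=
  cyclic_or_card_le (hP.to_subgroup B) (h.sub B) (fun x y => Subtype.ext (hB x x.2 y y.2))

end Cfsg.Agent.Lib.Helper29.SmallTwo
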