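import Cfsg.Agent.Lib.Helper12.D3Defs
import Cfsg.Agent.Lib.Helper65.D4gCOMM

/-! # D3-INV (helper29, leaf of helper12's D3 hive for S2183)

`V(t,S,c,d,e)⁻¹ = V(t,S,c,d,e')`, `x_a(s)² = 1`, `T(c,d,e)² = 1` in characteristic 2. -/

set_option autoImplicit false

namespace Cfsg.Agent.Lib.Helper12.D3

open Cfsg Cfsg.Lie Cfsg.Agent.Lib.Helper36 Cfsg.Agent.Lib.Helper75.D4g

variable (K : Type*) [Field K] (φ : K →+* K)

/-! ## abstract group computations -/

theorem d3inv_abs3 {G : Type*} [Group G] {x y z : G} (hxy : Commute x y) (hxz : Commute x z)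
    (hyz : Commute y z) (hx : x * x = 1) (hy : y * y = 1) (hz : z * z = 1) :
    (x * y * z) * (x * y * z) = 1 := by
  have h1 : Commute z (x * y) := (hxz.mul_left hyz).symm
  rw [h1.mul_mul_mul_comm, hxy.symm.mul_mul_mul_comm, hx, hy, hz, one_mul, one_mul]

theorem d3inv_comm3 {G : Type*} [Group G] {w x y z : G} (hx : Commute w x) (hy : Commute w y)
    (hz : Commute w z) : Commute w (x * y * z) := (hx.mul_right hy).mul_right hz

theorem d3inv_absM {G : Type*} [Group G] {a B C d zd z : G}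
    (haa : a * a = 1) (hBB : B * B = 1) (hCC : C * C = 1) (hdd : d * d = 1)
    (caB : B * a = a * B) (caC : C * a = a * C) (cdB : d * B = B * d) (cdC : d * C = C * d)
    (hda : d * a = a * d * zd) (hCB : C * B = B * C * z)
    (zdB : zd * B = B * zd) (zdC : zd * C = C * zd) (zdd : zd * d = d * zd)
    (zC : z * C = C * z) :
    (a * B * (C * d)) * (a * B * (C * d)) = z * zd := by
  have t1 : ∀ w, B * (a * w) = a * (B * w) := fun w => by rw [← mul_assoc, caB, mul_assoc]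
  have t2 : ∀ w, C * (a * w) = a * (C * w) := fun w => by rw [← mul_assoc, caC, mul_assoc]
  have t3 : ∀ w, d * (B * w) = B * (d * w) := fun w => by rw [← mul_assoc, cdB, mul_assoc]
  have t4 : ∀ w, d * (C * w) = C * (d * w) := fun w => by rw [← mul_assoc, cdC, mul_assoc]
  have t5 : ∀ w, d * (a * w) = a * (d * (zd * w)) := fun w => by
    rw [← mul_assoc, hda, mul_assoc, mul_assoc]
  have t6 : ∀ w, C * (B * w) = B * (C * (z * w)) := fun w => by
    rw [← mul_assoc, hCB, mul_assoc, mul_assoc]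
  have t7 : ∀ w, zd * (B * w) = B * (zd * w) := fun w => by rw [← mul_assoc, zdB, mul_assoc]
  have t8 : ∀ w, zd * (C * w) = C * (zd * w) := fun w => by rw [← mul_assoc, zdC, mul_assoc]
  have t10 : ∀ w, z * (C * w) = C * (z * w) := fun w => by rw [← mul_assoc, zC, mul_assoc]
  have s1 : ∀ w, a * (a * w) = w := fun w => by rw [← mul_assoc, haa, one_mul]
  have s2 : ∀ w, B * (B * w) = w := fun w => by rw [← mul_assoc, hBB, one_mul]
  have s3 : ∀ w, C * (C * w) = w := fun w => by rw [← mul_assoc, hCC, one_mul]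
  have s4 : ∀ w, d * (d * w) = w := fun w => by rw [← mul_assoc, hdd, one_mul]
  simp only [mul_assoc, t1, t2, t3, t4, t5, t6, t7, t8, t10, s1, s2, s3, s4, zdd]

/-! ## root-level facts -/

theorem d3inv_comm (r s : ℕ) (hr : r < chevD4.nroots) (hs : s < chevD4.nroots) (hne1 : s ≠ r)
    (hne2 : s ≠ chevD4.neg r) (hterms : chevD4.commTerms r s = []) (t u : K) :
    Commute (xg K r t) (xg K s u) :=
  d4gcomm_nil r s hr hs hne1 hne2 hterms t u

theorem d3inv_sq [CharP K 2] (r : ℕ) (t : K) : xg K r t * xg K r t = 1 := by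
  show xGL chevD4 hD4 K r t * xGL chevD4 hD4 K r t = 1
  rw [← xGL_add, CharTwo.add_self_eq_zero, xGL_zero]

theorem d3inv_same (r : ℕ) (t u : K) : Commute (xg K r t) (xg K r u) := by
  show xGL chevD4 hD4 K r t * xGL chevD4 hD4 K r u = xGL chevD4 hD4 K r u * xGL chevD4 hD4 K r t
  rw [← xGL_add, ← xGL_add, add_comm]

theorem d3inv_single [CharP K 2] (r s c : ℕ) (e : ℤ) (he : e = 1 ∨ e = -1)
    (hr : r < chevD4.nroots) (hs : s < chevD4.nroots) (hne1 : s ≠ r)
    (hne2 : s ≠ chevD4.neg r) (hterms : chevD4.commTerms r s = [(c, e, 1, 1)]) (t u : K) :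
    xg K s u * xg K r t = xg K r t * xg K s u * xg K c (t * u) := by
  rw [d4gcomm_single r s c e hr hs hne1 hne2 hterms t u]
  congr 2
  rcases he with rfl | rfl
  · simp [CharTwo.neg_eq]
  · simp

/-- the commuting pairs of positive roots used below -/
def d3invNil : List (ℕ × ℕ) :=
  [(18, 13), (18, 12), (13, 12), (19, 16), (19, 15), (16, 15), (21, 17), (21, 20), (17, 20),
   (14, 19), (14, 16), (14, 15), (14, 21), (14, 17), (14, 20),
   (22, 19), (22, 16), (22, 15), (22, 21), (22, 17), (22, 20),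
   (17, 16), (17, 15), (20, 19), (20, 15), (21, 19), (21, 16),
   (23, 14), (23, 19), (23, 16), (23, 15), (23, 21), (23, 17), (23, 20), (23, 22)]

theorem d3inv_nil_tab : ∀ p ∈ d3invNil, p.1 < chevD4.nroots ∧ p.2 < chevD4.nroots ∧ p.2 ≠ p.1 ∧
    p.2 ≠ chevD4.neg p.1 ∧ chevD4.commTerms p.1 p.2 = [] := by decide +kernel

theorem d3inv_c (r s : ℕ) (h : (r, s) ∈ d3invNil) (t u : K) : Commute (xg K r t) (xg K s u) := by
  obtain ⟨h1, h2, h3, h4, h5⟩ := d3inv_nil_tab (r, s) h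
  exact d3inv_comm K r s h1 h2 h3 h4 h5 t u

/-- the four pairs with sum `23` -/
def d3invOne : List (ℕ × ℕ) := [(14, 22), (19, 17), (16, 20), (15, 21)]

theorem d3inv_one_tab : ∀ p ∈ d3invOne, p.1 < chevD4.nroots ∧ p.2 < chevD4.nroots ∧ p.2 ≠ p.1 ∧
    p.2 ≠ chevD4.neg p.1 ∧ (chevD4.commTerms p.1 p.2 = [(23, 1, 1, 1)] ∨
      chevD4.commTerms p.1 p.2 = [(23, -1, 1, 1)]) := by decide +kernel

theorem d3inv_s [CharP K 2] (r s : ℕ) (h : (r, s) ∈ d3invOne) (t u : K) :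
    xg K s u * xg K r t = xg K r t * xg K s u * xg K 23 (t * u) := by
  obtain ⟨h1, h2, h3, h4, h5⟩ := d3inv_one_tab (r, s) h
  rcases h5 with h5 | h5
  · exact d3inv_single K r s 23 1 (Or.inl rfl) h1 h2 h3 h4 h5 t u
  · exact d3inv_single K r s 23 (-1) (Or.inr rfl) h1 h2 h3 h4 h5 t u

/-! ## the leaves -/

/-- D3-INV -/
theorem xa_mul_self [CharP K 2] (s : K) : xa K φ s * xa K φ s = 1 := by
  unfold xa
  exact d3inv_abs3 (d3inv_c K 18 13 (by decide) _ _) (d3inv_c K 18 12 (by decide) _ _)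
    (d3inv_c K 13 12 (by decide) _ _) (d3inv_sq K _ _) (d3inv_sq K _ _) (d3inv_sq K _ _)

theorem d3inv_xab_sq [CharP K 2] (s : K) : xab K φ s * xab K φ s = 1 := by
  unfold xab
  exact d3inv_abs3 (d3inv_c K 19 16 (by decide) _ _) (d3inv_c K 19 15 (by decide) _ _)
    (d3inv_c K 16 15 (by decide) _ _) (d3inv_sq K _ _) (d3inv_sq K _ _) (d3inv_sq K _ _)

theorem d3inv_x2ab_sq [CharP K 2] (s : K) : x2ab K φ s * x2ab K φ s = 1 := by
  unfold x2ab
  exact d3inv_abs3 (d3inv_c K 21 17 (by decide) _ _) (d3inv_c K 21 20 (by decide) _ _)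
    (d3inv_c K 17 20 (by decide) _ _) (d3inv_sq K _ _) (d3inv_sq K _ _) (d3inv_sq K _ _)

theorem d3inv_14_xab (t S : K) : Commute (xg K 14 t) (xab K φ S) := by
  unfold xab
  exact d3inv_comm3 (d3inv_c K 14 19 (by decide) _ _) (d3inv_c K 14 16 (by decide) _ _)
    (d3inv_c K 14 15 (by decide) _ _)

theorem d3inv_14_x2ab (t c : K) : Commute (xg K 14 t) (x2ab K φ c) := by
  unfold x2ab
  exact d3inv_comm3 (d3inv_c K 14 21 (by decide) _ _) (d3inv_c K 14 17 (by decide) _ _)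
    (d3inv_c K 14 20 (by decide) _ _)

theorem d3inv_22_xab (t S : K) : Commute (xg K 22 t) (xab K φ S) := by
  unfold xab
  exact d3inv_comm3 (d3inv_c K 22 19 (by decide) _ _) (d3inv_c K 22 16 (by decide) _ _)
    (d3inv_c K 22 15 (by decide) _ _)

theorem d3inv_22_x2ab (t c : K) : Commute (xg K 22 t) (x2ab K φ c) := by
  unfold x2ab
  exact d3inv_comm3 (d3inv_c K 22 21 (by decide) _ _) (d3inv_c K 22 17 (by decide) _ _)
    (d3inv_c K 22 20 (by decide) _ _)

theorem d3inv_23_xab (t S : K) : Commute (xg K 23 t) (xab K φ S) := by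
  unfold xab
  exact d3inv_comm3 (d3inv_c K 23 19 (by decide) _ _) (d3inv_c K 23 16 (by decide) _ _)
    (d3inv_c K 23 15 (by decide) _ _)

theorem d3inv_23_x2ab (t c : K) : Commute (xg K 23 t) (x2ab K φ c) := by
  unfold x2ab
  exact d3inv_comm3 (d3inv_c K 23 21 (by decide) _ _) (d3inv_c K 23 17 (by decide) _ _)
    (d3inv_c K 23 20 (by decide) _ _)

/-- D3-INV -/
theorem T_mul_self [CharP K 2] (c d e : K) : T K φ c d e * T K φ c d e = 1 := by
  unfold T
  exact d3inv_abs3 (d3inv_22_x2ab K φ d c).symm (d3inv_23_x2ab K φ e c).symm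
    (d3inv_c K 23 22 (by decide) e d).symm (d3inv_x2ab_sq K φ c) (d3inv_sq K _ _) (d3inv_sq K _ _)

/-- `x_{2a+b}(c) x_{a+b}(S) = x_{a+b}(S) x_{2a+b}(c) x_23(S φc) x_23(φS φ²c) x_23(φ²S c)` -/
theorem d3inv_x2ab_xab [CharP K 2] (c S : K) :
    x2ab K φ c * xab K φ S = xab K φ S * x2ab K φ c *
      (xg K 23 (S * φ c) * xg K 23 (φ S * φ (φ c)) * xg K 23 (φ (φ S) * c)) := by
  have hre : x2ab K φ c = xg K 17 (φ c) * xg K 20 (φ (φ c)) * xg K 21 c := by
    unfold x2ab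
    have h1 : Commute (xg K 21 c) (xg K 17 (φ c) * xg K 20 (φ (φ c))) :=
      (d3inv_c K 21 17 (by decide) _ _).mul_right (d3inv_c K 21 20 (by decide) _ _)
    rw [mul_assoc, h1.eq]
  rw [hre]
  unfold xab
  exact d4gcomm_abs (xg K 17 (φ c)) (xg K 20 (φ (φ c))) (xg K 21 c) (xg K 19 S) (xg K 16 (φ S))
    (xg K 15 (φ (φ S))) (xg K 23 (S * φ c)) (xg K 23 (φ S * φ (φ c))) (xg K 23 (φ (φ S) * c))
    (d3inv_s K 19 17 (by decide) _ _) (d3inv_s K 16 20 (by decide) _ _)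
    (d3inv_s K 15 21 (by decide) _ _)
    (d3inv_c K 17 16 (by decide) _ _).eq (d3inv_c K 17 15 (by decide) _ _).eq
    (d3inv_c K 20 19 (by decide) _ _).eq (d3inv_c K 20 15 (by decide) _ _).eq
    (d3inv_c K 21 19 (by decide) _ _).eq (d3inv_c K 21 16 (by decide) _ _).eq
    (d3inv_c K 23 20 (by decide) _ _).eq (d3inv_c K 23 21 (by decide) _ _).eq
    (d3inv_c K 23 16 (by decide) _ _).eq (d3inv_c K 23 15 (by decide) _ _).eq
    (d3inv_c K 23 21 (by decide) _ _).eq (d3inv_c K 23 15 (by decide) _ _).eq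

/-- D3-INV -/
theorem V_inv [CharP K 2] (h3 : ∀ x : K, φ (φ (φ x)) = x) (t S c d e : K) :
    ∃ e' : K, (V K φ t S c d e)⁻¹ = V K φ t S c d e' := by
  have hsplit : ∀ e₁ : K, V K φ t S c d e₁ =
      (xg K 14 t * xab K φ S * (x2ab K φ c * xg K 22 d)) * xg K 23 e₁ := by
    intro e₁
    unfold V T
    simp only [mul_assoc]
  set M := xg K 14 t * xab K φ S * (x2ab K φ c * xg K 22 d) with hM
  set z := xg K 23 (S * φ c) * xg K 23 (φ S * φ (φ c)) * xg K 23 (φ (φ S) * c) with hz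
  have hzC : Commute z (x2ab K φ c) :=
    ((d3inv_23_x2ab K φ _ c).mul_left (d3inv_23_x2ab K φ _ c)).mul_left (d3inv_23_x2ab K φ _ c)
  have hMM : M * M = z * xg K 23 (t * d) :=
    d3inv_absM (d3inv_sq K 14 t) (d3inv_xab_sq K φ S) (d3inv_x2ab_sq K φ c) (d3inv_sq K 22 d)
      (d3inv_14_xab K φ t S).eq.symm (d3inv_14_x2ab K φ t c).eq.symm
      (d3inv_22_xab K φ d S).eq (d3inv_22_x2ab K φ d c).eq
      (d3inv_s K 14 22 (by decide) t d) (d3inv_x2ab_xab K φ c S)
      (d3inv_23_xab K φ _ S).eq (d3inv_23_x2ab K φ _ c).eq (d3inv_c K 23 22 (by decide) _ d).eq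
      hzC.eq
  have hcM : ∀ u : K, Commute (xg K 23 u) M := by
    intro u
    rw [hM]
    exact ((d3inv_c K 23 14 (by decide) u t).mul_right (d3inv_23_xab K φ u S)).mul_right
      ((d3inv_23_x2ab K φ u c).mul_right (d3inv_c K 23 22 (by decide) u d))
  refine ⟨S * φ c + φ S * φ (φ c) + φ (φ S) * c + t * d + e, ?_⟩
  rw [hsplit, hsplit]
  apply inv_eq_of_mul_eq_one_right
  rw [(hcM e).mul_mul_mul_comm, hMM, hz]
  show xGL chevD4 hD4 K 23 (S * φ c) * xGL chevD4 hD4 K 23 (φ S * φ (φ c)) *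
      xGL chevD4 hD4 K 23 (φ (φ S) * c) * xGL chevD4 hD4 K 23 (t * d) *
      (xGL chevD4 hD4 K 23 e * xGL chevD4 hD4 K 23
        (S * φ c + φ S * φ (φ c) + φ (φ S) * c + t * d + e)) = 1
  simp only [← xGL_add]
  have h0 : S * φ c + φ S * φ (φ c) + φ (φ S) * c + t * d +
      (e + (S * φ c + φ S * φ (φ c) + φ (φ S) * c + t * d + e)) = 0 := by
    have : S * φ c + φ S * φ (φ c) + φ (φ S) * c + t * d +
        (e + (S * φ c + φ S * φ (φ c) + φ (φ S) * c + t * d + e)) =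
        (S * φ c + φ S * φ (φ c) + φ (φ S) * c + t * d + e) +
        (S * φ c + φ S * φ (φ c) + φ (φ S) * c + t * d + e) := by ring
    rw [this, CharTwo.add_self_eq_zero]
  rw [h0, xGL_zero]

end Cfsg.Agent.Lib.Helper12.D3
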