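import Mathlib
import Cfsg.Agent.Lib.Helper29.SympTools
import Cfsg.Agent.S0093

set_option autoImplicit false

/-!
P. Hall's theorem on `p`-groups of symplectic type, part A: the critical subgroup context,
the exponent lemma and the construction of the extraspecial factor.
-/

namespace Cfsg.Agent.Lib.Helper29

open scoped commutatorElement

/-- the context given by a critical subgroup `H` with cyclic centre `Z = C_G(H) = ⟨c⟩` of order
`p ^ n` and `z` the central element of order `p` in `Z` -/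
structure SCtx (p : ℕ) (G : Type*) [Group G] (H Z : Subgroup G) (c z : G) (n : ℕ) : Prop where
  hZH : Z ≤ H
  hcen : ∀ u ∈ Z, ∀ h ∈ H, u * h = h * u
  hself : ∀ g : G, (∀ h ∈ H, g * h = h * g) → g ∈ Z
  hpow : ∀ x ∈ H, x ^ p ∈ Z
  hcm : ∀ x ∈ H, ∀ g : G, cm x g ∈ Z
  hZc : Z = Subgroup.zpowers c
  hc : orderOf c = p ^ n
  hn : 1 ≤ n
  hz : z = c ^ (p ^ (n - 1))
  hzord : orderOf z = p
  hzcen : ∀ g : G, z * g = g * z

namespace SCtx

variable {p : ℕ} [hp : Fact p.Prime] {G : Type*} [Group G] {H Z : Subgroup G} {c z : G} {n : ℕ}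
  (S : SCtx p G H Z c z n)
include S

omit hp in
theorem c_pow : c ^ (p ^ n) = 1 := by rw [← S.hc]; exact pow_orderOf_eq_one c

omit hp in
theorem c_mem : c ∈ Z := by rw [S.hZc]; exact Subgroup.mem_zpowers c

omit hp in
theorem c_mem_H : c ∈ H := S.hZH S.c_mem

omit hp in
theorem z_mem : z ∈ Z := by rw [S.hz]; exact Z.pow_mem S.c_mem _

omit hp in
theorem Z0_le : Subgroup.zpowers z ≤ Z := by rw [Subgroup.zpowers_le]; exact S.z_mem

omit hp in
theorem z_pow : z ^ p = 1 := by rw [← S.hzord]; exact pow_orderOf_eq_one z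

omit hp in
theorem pow_card_Z {u : G} (hu : u ∈ Z) : u ^ (p ^ n) = 1 :=
  pow_eq_one_of_mem_zpowers S.c_pow (by rw [← S.hZc]; exact hu)

theorem mem_Z0_of_pow {u : G} (hu : u ∈ Z) (h : u ^ p = 1) : u ∈ Subgroup.zpowers z := by
  have := mem_zpowers_pow_of_pow_eq_one (i := 1) hp.1 S.hc S.hn (by rw [← S.hZc]; exact hu)
    (by rwa [pow_one])
  rw [S.hz]; exact this

omit hp in
theorem pow_eq_one_of_mem_Z0 {w : G} (hw : w ∈ Subgroup.zpowers z) : w ^ p = 1 :=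
  pow_eq_one_of_mem_zpowers S.z_pow hw

omit hp in
theorem Z0_central {w : G} (hw : w ∈ Subgroup.zpowers z) (g : G) : w * g = g * w := by
  obtain ⟨k, rfl⟩ := Subgroup.mem_zpowers_iff.1 hw
  exact Commute.zpow_left (S.hzcen g) k

omit hp in
theorem Z_comm {u v : G} (hu : u ∈ Z) (hv : v ∈ Z) : u * v = v * u := S.hcen u hu v (S.hZH hv)

omit hp in
theorem cm_mem_Z' {x : G} (hx : x ∈ H) (g : G) : cm g x ∈ Z := by
  rw [← cm_inv_swap]; exact Z.inv_mem (S.hcm x hx g)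

omit hp in
theorem pow_pred_mem_Z0 {u : G} (hu : u ∈ Z) : u ^ (p ^ (n - 1)) ∈ Subgroup.zpowers z := by
  rw [S.hZc] at hu
  obtain ⟨k, rfl⟩ := Subgroup.mem_zpowers_iff.1 hu
  rw [S.hz]
  have : (c ^ k) ^ (p ^ (n - 1)) = (c ^ (p ^ (n - 1))) ^ k := by
    rw [← zpow_natCast (c ^ k), ← zpow_mul, mul_comm, zpow_mul, zpow_natCast]
  rw [this]
  exact Subgroup.zpow_mem_zpowers _ k

/-- commutators `[x, g]` with `x ∈ H` and `x ^ p` commuting with `g` lie in `⟨z⟩` -/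
theorem cm_mem_Z0 {x : G} (hx : x ∈ H) (g : G) (h : x ^ p * g = g * x ^ p) :
    cm x g ∈ Subgroup.zpowers z := by
  apply S.mem_Z0_of_pow (S.hcm x hx g)
  rw [← cm_pow_left' x g (S.hcen _ (S.hcm x hx g) x hx).symm p]
  exact (cm_eq_one_iff _ _).2 h

theorem cm_mem_Z0_H {x y : G} (hx : x ∈ H) (hy : y ∈ H) : cm x y ∈ Subgroup.zpowers z :=
  S.cm_mem_Z0 hx y (S.hcen _ (S.hpow x hx) y hy)

omit hp in
theorem mul_pow_H {x y : G} (hx : x ∈ H) (hy : y ∈ H) (m : ℕ) :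
    (x * y) ^ m = x ^ m * y ^ m * (cm y x) ^ (m.choose 2) :=
  mul_pow_cm x y (S.hcen _ (S.hcm y hy x) x hx).symm (S.hcen _ (S.hcm y hy x) y hy).symm m

theorem mul_pow_H_of_dvd {x y : G} (hx : x ∈ H) (hy : y ∈ H) (m : ℕ) (hm : p ∣ m.choose 2) :
    (x * y) ^ m = x ^ m * y ^ m := by
  rw [S.mul_pow_H hx hy m]
  obtain ⟨k, hk⟩ := hm
  rw [hk, pow_mul, S.pow_eq_one_of_mem_Z0 (S.cm_mem_Z0_H hy hx), one_pow, mul_one]

/-- `H` normalizes every subgroup between `⟨z⟩` and `H` -/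
theorem H_le_normalizer {E : Subgroup G} (h1 : Subgroup.zpowers z ≤ E) (h2 : E ≤ H) :
    H ≤ Subgroup.normalizer (E : Set G) := by
  have key : ∀ g ∈ H, ∀ e ∈ E, g * e * g⁻¹ ∈ E := by
    intro g hg e he
    rw [conj_eq_cm_mul]
    exact E.mul_mem (h1 (S.cm_mem_Z0_H hg (h2 he))) he
  intro g hg
  rw [Subgroup.mem_normalizer_iff]
  intro e
  constructor
  · exact key g hg e
  · intro h
    have := key g⁻¹ (H.inv_mem hg) _ h
    have h3 : g⁻¹ * (g * e * g⁻¹) * g⁻¹⁻¹ = e := by group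
    rw [h3] at this
    exact this

theorem mem_sup_iff {E : Subgroup G} (h1 : Subgroup.zpowers z ≤ E) (h2 : E ≤ H) {K : Subgroup G}
    (hK : K ≤ H) (x : G) : x ∈ E ⊔ K ↔ ∃ e ∈ E, ∃ u ∈ K, x = e * u := by
  have h := Subgroup.coe_mul_of_right_le_normalizer_left E K (hK.trans (S.H_le_normalizer h1 h2))
  rw [← SetLike.mem_coe, h, Set.mem_mul]
  constructor
  · rintro ⟨e, he, u, hu, rfl⟩; exact ⟨e, he, u, hu, rfl⟩
  · rintro ⟨e, he, u, hu, rfl⟩; exact ⟨e, he, u, hu, rfl⟩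

/-- the exponent lemma: if `n ≥ 2` every element of `H` is killed by `p ^ n` -/
theorem star [Finite G] (hH : H.Characteristic)
    (hsymp : ∀ A : Subgroup G, A.Characteristic → IsMulCommutative A → IsCyclic A)
    (hn2 : 2 ≤ n) : ∀ x ∈ H, x ^ (p ^ n) = 1 := by
  classical
  have hdvd : p ∣ (p ^ n).choose 2 := prime_dvd_choose_pow_two hp.1 n hn2
  let K : Subgroup G :=
    { carrier := {x | x ∈ H ∧ x ^ (p ^ n) = 1}
      one_mem' := ⟨H.one_mem, one_pow _⟩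
      mul_mem' := by
        rintro x y ⟨hx, hx1⟩ ⟨hy, hy1⟩
        exact ⟨H.mul_mem hx hy, by rw [S.mul_pow_H_of_dvd hx hy _ hdvd, hx1, hy1, one_mul]⟩
      inv_mem' := by
        rintro x ⟨hx, hx1⟩
        exact ⟨H.inv_mem hx, by rw [inv_pow, hx1, inv_one]⟩ }
  have hKmem : ∀ x, x ∈ K ↔ x ∈ H ∧ x ^ (p ^ n) = 1 := fun x => Iff.rfl
  have hKchar : K.Characteristic := by
    rw [Subgroup.characteristic_iff_map_le]
    intro φ y hy
    obtain ⟨x, hx, rfl⟩ := Subgroup.mem_map.1 hy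
    have hx' := (hKmem x).1 hx
    rw [hKmem]
    refine ⟨?_, ?_⟩
    · exact (Subgroup.characteristic_iff_map_le.1 hH φ) (Subgroup.mem_map_of_mem _ hx'.1)
    · rw [← map_pow, hx'.2, map_one]
  let A : Subgroup G := K ⊓ Subgroup.centralizer (K : Set G)
  have hAchar : A.Characteristic := inferInstance
  have hAcomm : IsMulCommutative A :=
    ⟨⟨fun a b => Subtype.ext ((Subgroup.mem_centralizer_iff.1 b.2.2) a a.2.1)⟩⟩
  have hAcyc : IsCyclic A := hsymp A hAchar hAcomm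
  have hZA : Z ≤ A := by
    intro u hu
    refine Subgroup.mem_inf.2 ⟨⟨S.hZH hu, S.pow_card_Z hu⟩, ?_⟩
    rw [Subgroup.mem_centralizer_iff]
    intro k hk
    exact (S.hcen u hu k hk.1).symm
  obtain ⟨a, ha⟩ := hAcyc.exists_generator
  have hcardA : Nat.card A = orderOf a := (orderOf_eq_card_of_forall_mem_zpowers ha).symm
  have ha1 : (a : G) ^ (p ^ n) = 1 := a.2.1.2
  have hordle : orderOf a ∣ p ^ n :=
    orderOf_dvd_of_pow_eq_one (Subtype.ext (by simpa using ha1))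
  have hcardZ : Nat.card Z = p ^ n := by rw [S.hZc, Nat.card_zpowers, S.hc]
  have hAZ : Z = A := Subgroup.eq_of_le_of_card_ge hZA (by
    rw [hcardZ, hcardA]; exact Nat.le_of_dvd (pow_pos hp.1.pos n) hordle)
  -- the duality
  have hcardZ0 : Nat.card (Subgroup.zpowers z) = p := by rw [Nat.card_zpowers, S.hzord]
  let β : H → H → Subgroup.zpowers z := fun x q => ⟨cm (q : G) (x : G), S.cm_mem_Z0_H q.2 x.2⟩
  have hβl : ∀ x y q, β (x * y) q = β x q * β y q := by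
    intro x y q
    apply Subtype.ext
    show cm (q : G) ((x : G) * (y : G)) = cm (q : G) x * cm (q : G) y
    exact cm_mul_right' _ _ _ (S.hcen _ (S.hcm q q.2 y) x x.2).symm
  have hβr : ∀ x q q', β x (q * q') = β x q * β x q' := by
    intro x q q'
    apply Subtype.ext
    show cm ((q : G) * (q' : G)) x = cm (q : G) x * cm (q' : G) x
    rw [cm_mul_left'' _ _ _ (S.hcen _ (S.hcm q' q'.2 x) q q.2).symm]
    exact S.Z_comm (S.hcm q' q'.2 x) (S.hcm q q.2 x)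
  have hβ1 : ∀ x q, β x q = 1 ↔ q * x = x * q := by
    intro x q
    rw [Subtype.ext_iff]
    show cm (q : G) (x : G) = 1 ↔ _
    rw [cm_eq_one_iff]
    constructor
    · intro h; exact Subtype.ext h
    · intro h; exact congrArg Subtype.val h
  have hpowmem : ∀ q : H, (q : G) ^ (p ^ n) ∈ Subgroup.zpowers z := by
    intro q
    have h2 : (q : G) ^ (p ^ n) = ((q : G) ^ p) ^ (p ^ (n - 1)) := by
      rw [← pow_mul, ← pow_succ', Nat.sub_add_cancel S.hn]
    rw [h2]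
    exact S.pow_pred_mem_Z0 (S.hpow q q.2)
  let lam : H →* Subgroup.zpowers z :=
    { toFun := fun q => ⟨(q : G) ^ (p ^ n), hpowmem q⟩
      map_one' := by apply Subtype.ext; simp
      map_mul' := fun q q' => by
        apply Subtype.ext
        show ((q : G) * (q' : G)) ^ (p ^ n) = (q : G) ^ (p ^ n) * (q' : G) ^ (p ^ n)
        exact S.mul_pow_H_of_dvd q.2 q'.2 _ hdvd }
  have hlam : ∀ q ∈ Subgroup.center H, lam q = 1 := by
    intro q hq
    apply Subtype.ext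
    show (q : G) ^ (p ^ n) = 1
    apply S.pow_card_Z
    apply S.hself
    intro h hh
    have := Subgroup.mem_center_iff.1 hq ⟨h, hh⟩
    exact (congrArg Subtype.val this).symm
  obtain ⟨v, hv⟩ := duality_abstract hcardZ0 β hβl hβr hβ1 lam hlam
  have hv' : ∀ q : H, (q : G) ^ (p ^ n) = cm (q : G) (v : G) :=
    fun q => congrArg Subtype.val (hv q)
  have hvK : (v : G) ∈ K := ⟨v.2, by rw [hv' v, cm_self]⟩
  have hvA : (v : G) ∈ A := by
    refine Subgroup.mem_inf.2 ⟨hvK, ?_⟩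
    rw [Subgroup.mem_centralizer_iff]
    intro k hk
    have hk' := (hKmem k).1 hk
    have h5 : k ^ (p ^ n) = cm k (v : G) := hv' ⟨k, hk'.1⟩
    rw [hk'.2] at h5
    exact (cm_eq_one_iff _ _).1 h5.symm
  rw [← hAZ] at hvA
  intro x hx
  rw [hv' ⟨x, hx⟩]
  exact (cm_eq_one_iff _ _).2 (S.hcen _ hvA x hx).symm

/-- consequence of the exponent lemma: elements of `H` can be corrected by `Z` to order `p` -/
theorem star' (hstar : ∀ x ∈ H, x ^ (p ^ n) = 1) : ∀ x ∈ H, ∃ u ∈ Z, (x * u) ^ p = 1 := by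
  intro x hx
  have h1 : x ^ p ∈ Subgroup.zpowers c := by rw [← S.hZc]; exact S.hpow x hx
  have h2 : (x ^ p) ^ (p ^ (n - 1)) = 1 := by
    rw [← pow_mul, ← pow_succ', Nat.sub_add_cancel S.hn]; exact hstar x hx
  have h3 := mem_zpowers_pow_of_pow_eq_one (i := n - 1) hp.1 S.hc (Nat.sub_le n 1) h1 h2
  have h4 : n - (n - 1) = 1 := by have := S.hn; omega
  rw [h4, pow_one] at h3
  obtain ⟨k, hk⟩ := Subgroup.mem_zpowers_iff.1 h3
  have hck : c ^ k ∈ Z := Z.zpow_mem S.c_mem k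
  refine ⟨(c ^ k)⁻¹, Z.inv_mem hck, ?_⟩
  have hcomm : Commute x (c ^ k)⁻¹ := (S.hcen _ (Z.inv_mem hck) x hx).symm
  rw [hcomm.mul_pow, ← hk, inv_pow]
  have : (c ^ p) ^ k = (c ^ k) ^ p := by
    rw [← zpow_natCast, ← zpow_mul, mul_comm, zpow_mul, zpow_natCast]
  rw [this, mul_inv_cancel]

/-- the maximal subgroup `E` of `H` meeting `Z` in `⟨z⟩` supplements `Z` in `H` -/
theorem exists_E [Finite G] (hstar : ∀ x ∈ H, ∃ u ∈ Z, (x * u) ^ p = 1) :
    ∃ E : Subgroup G, Subgroup.zpowers z ≤ E ∧ E ≤ H ∧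
      (∀ x ∈ E, x ∈ Z → x ∈ Subgroup.zpowers z) ∧
      (p ≠ 2 → ∀ e ∈ E, e ^ p = 1) ∧ ∀ h ∈ H, ∃ e ∈ E, ∃ u ∈ Z, h = e * u := by
  classical
  let Good : Subgroup G → Prop := fun E => Subgroup.zpowers z ≤ E ∧ E ≤ H ∧
    (∀ x ∈ E, x ∈ Z → x ∈ Subgroup.zpowers z) ∧ (p ≠ 2 → ∀ e ∈ E, e ^ p = 1)
  have hZ0good : Good (Subgroup.zpowers z) :=
    ⟨le_rfl, S.Z0_le.trans S.hZH, fun x hx _ => hx, fun _ e he => S.pow_eq_one_of_mem_Z0 he⟩
  haveI : Nonempty {E : Subgroup G // Good E} := ⟨⟨_, hZ0good⟩⟩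
  obtain ⟨⟨E, hE⟩, hmax⟩ :=
    Finite.exists_max (fun E : {E : Subgroup G // Good E} => Nat.card E.1)
  obtain ⟨h1, h2, h3, h4⟩ := hE
  refine ⟨E, h1, h2, h3, h4, ?_⟩
  have hsupmem := S.mem_sup_iff h1 h2 S.hZH
  by_contra hcon
  push Not at hcon
  obtain ⟨h, hh, hnot⟩ := hcon
  have hhM : h ∉ E ⊔ Z := fun hm => by
    obtain ⟨e, he, u, hu, rfl⟩ := (hsupmem h).1 hm
    exact hnot e he u hu rfl
  obtain ⟨u0, hu0, hpow⟩ := hstar h hh
  have hh'H : h * u0 ∈ H := H.mul_mem hh (S.hZH hu0)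
  have hh'M : h * u0 ∉ E ⊔ Z := fun hm => hhM (by
    have := (E ⊔ Z).mul_mem hm ((le_sup_right : Z ≤ E ⊔ Z) (Z.inv_mem hu0))
    rwa [mul_inv_cancel_right] at this)
  have hzH : Subgroup.zpowers (h * u0) ≤ H := Subgroup.zpowers_le.2 hh'H
  have hE1mem := S.mem_sup_iff h1 h2 hzH
  have hypow : ∀ y ∈ Subgroup.zpowers (h * u0), y ^ p = 1 :=
    fun y hy => pow_eq_one_of_mem_zpowers hpow hy
  have hyM : ∀ y ∈ Subgroup.zpowers (h * u0), y ∈ E ⊔ Z → y = 1 := by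
    intro y hy hyM
    have hfin : IsOfFinOrder (h * u0) := isOfFinOrder_iff_pow_eq_one.2 ⟨p, hp.1.pos, hpow⟩
    obtain ⟨k, rfl⟩ := hfin.mem_powers_iff_mem_zpowers.2 hy
    show (h * u0) ^ k = 1
    have hyM' : (h * u0) ^ k ∈ E ⊔ Z := hyM
    by_cases hk : p ∣ k
    · obtain ⟨m, rfl⟩ := hk
      rw [pow_mul, hpow, one_pow]
    · exfalso
      have hcop : Nat.Coprime k p := ((Nat.Prime.coprime_iff_not_dvd hp.1).2 hk).symm
      obtain ⟨m, -, hm⟩ := Nat.exists_mul_mod_eq_one_of_coprime hcop hp.1.one_lt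
      have : h * u0 = ((h * u0) ^ k) ^ m := by
        rw [← pow_mul, pow_eq_pow_mod (k * m) hpow, hm, pow_one]
      apply hh'M
      rw [this]
      exact (E ⊔ Z).pow_mem hyM' m
  have hgood1 : Good (E ⊔ Subgroup.zpowers (h * u0)) := by
    refine ⟨h1.trans le_sup_left, sup_le h2 hzH, ?_, ?_⟩
    · intro x hx hxZ
      obtain ⟨e, he, y, hy, rfl⟩ := (hE1mem x).1 hx
      have hy1 : y = 1 := hyM y hy (by
        have : y = e⁻¹ * (e * y) := by group
        rw [this]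
        exact (E ⊔ Z).mul_mem (le_sup_left (a := E) (E.inv_mem he)) (le_sup_right (a := E) hxZ))
      subst hy1
      rw [mul_one] at hxZ ⊢
      exact h3 e he hxZ
    · intro hp2 x hx
      obtain ⟨e, he, y, hy, rfl⟩ := (hE1mem x).1 hx
      have hyH : y ∈ H := hzH hy
      rw [S.mul_pow_H_of_dvd (h2 he) hyH p (prime_dvd_choose_two_of_odd hp.1 hp2), h4 hp2 e he,
        hypow y hy, one_mul]
  have hle := hmax ⟨_, hgood1⟩
  have heq : E = E ⊔ Subgroup.zpowers (h * u0) := Subgroup.eq_of_le_of_card_ge le_sup_left hle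
  apply hh'M
  have : h * u0 ∈ E ⊔ Subgroup.zpowers (h * u0) :=
    (le_sup_right : Subgroup.zpowers (h * u0) ≤ _) (Subgroup.mem_zpowers _)
  rw [← heq] at this
  exact (le_sup_left : E ≤ E ⊔ Z) this

end SCtx

end Cfsg.Agent.Lib.Helper29
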