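import Mathlib
import Cfsg.Agent.Lib.Helper29.SympHallA

set_option autoImplicit false

/-!
P. Hall's theorem on `p`-groups of symplectic type, part B: existence of the context, and the
central decomposition `G = E * C_G(E)`.
-/

namespace Cfsg.Agent.Lib.Helper29

open scoped commutatorElement

section generic

variable {G : Type*} [Group G]

/-- an element commuting with a generating set commutes with the closure -/
theorem commute_closure {S : Set G} {g : G} (h : ∀ s ∈ S, s * g = g * s) :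
    ∀ y ∈ Subgroup.closure S, y * g = g * y := by
  intro y hy
  induction hy using Subgroup.closure_induction with
  | mem x hx => exact h x hx
  | one => simp
  | mul x y _ _ hx hy => rw [mul_assoc, hy, ← mul_assoc, hx, mul_assoc]
  | inv x _ hx =>
    calc x⁻¹ * g = x⁻¹ * (g * x) * x⁻¹ := by group
      _ = x⁻¹ * (x * g) * x⁻¹ := by rw [hx]
      _ = g * x⁻¹ := by group

/-- the extraspecial criterion for a subgroup, in ambient terms -/
theorem isExtraspecial_subgroup_of_elem [Finite G] {p : ℕ} [hp : Fact p.Prime] (E : Subgroup G)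
    (hE : IsPGroup p E) (z : G) (hzE : z ∈ E) (hz : orderOf z = p)
    (hzc : ∀ g ∈ E, z * g = g * z)
    (hcomm : ∀ a ∈ E, ∀ b ∈ E, cm a b ∈ Subgroup.zpowers z)
    (hpow : ∀ a ∈ E, a ^ p ∈ Subgroup.zpowers z)
    (hcen : ∀ x ∈ E, (∀ g ∈ E, x * g = g * x) → x ∈ Subgroup.zpowers z)
    (hna : ∃ a ∈ E, ∃ b ∈ E, a * b ≠ b * a) : Cfsg.IsExtraspecial p ↥E := by
  refine isExtraspecial_of_elem hE ⟨z, hzE⟩ ?_ ?_ ?_ ?_ ?_ ?_
  · rw [← hz]; exact Subgroup.orderOf_mk z hzE
  · intro g; exact Subtype.ext (hzc g g.2)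
  · intro a b
    rw [coe_mem_zpowers_iff]
    exact hcomm a a.2 b b.2
  · intro a
    rw [coe_mem_zpowers_iff]
    exact hpow a a.2
  · intro x hx
    rw [coe_mem_zpowers_iff]
    exact hcen x x.2 (fun g hg => congrArg Subtype.val (hx ⟨g, hg⟩))
  · obtain ⟨a, ha, b, hb, hab⟩ := hna
    exact ⟨⟨a, ha⟩, ⟨b, hb⟩, fun h => hab (congrArg Subtype.val h)⟩

end generic

/-- existence of the critical-subgroup context in a non-trivial `p`-group of symplectic type -/
theorem exists_sctx {G : Type*} [Group G] [Finite G] {p : ℕ} [hp : Fact p.Prime]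
    (hG : IsPGroup p G)
    (hsymp : ∀ A : Subgroup G, A.Characteristic → IsMulCommutative A → IsCyclic A)
    [Nontrivial G] :
    ∃ (H Z : Subgroup G) (c z : G) (n : ℕ), H.Characteristic ∧ Z.Characteristic ∧
      SCtx p G H Z c z n := by
  obtain ⟨H, hHchar, hfr, hcomm, hcent⟩ := Cfsg.Agent.S0093.result hG
  haveI := hHchar
  have hZchar : (Subgroup.centralizer (H : Set G)).Characteristic := inferInstance
  have hcen : ∀ u ∈ Subgroup.centralizer (H : Set G), ∀ h ∈ H, u * h = h * u :=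
    fun u hu h hh => ((Subgroup.mem_centralizer_iff.1 hu) h hh).symm
  have hZcomm : IsMulCommutative (Subgroup.centralizer (H : Set G)) :=
    ⟨⟨fun a b => Subtype.ext (hcen a a.2 b (hcent b.2))⟩⟩
  have hZcyc : IsCyclic (Subgroup.centralizer (H : Set G)) := hsymp _ hZchar hZcomm
  obtain ⟨c', hc'⟩ := hZcyc.exists_generator
  have hZc : Subgroup.centralizer (H : Set G) = Subgroup.zpowers (c' : G) := by
    ext u
    constructor
    · intro hu
      exact (coe_mem_zpowers_iff c' ⟨u, hu⟩).1 (hc' ⟨u, hu⟩)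
    · intro hu
      exact (Subgroup.zpowers_le.2 c'.2) hu
  obtain ⟨n, hn⟩ := IsPGroup.iff_card.1 (hG.to_subgroup (Subgroup.centralizer (H : Set G)))
  have hcord : orderOf (c' : G) = p ^ n := by
    rw [← Nat.card_zpowers, ← hZc, hn]
  have hcpow : (c' : G) ^ (p ^ n) = 1 := by rw [← hcord]; exact pow_orderOf_eq_one _
  -- a central element of order p
  haveI : Nontrivial (Subgroup.center G) := hG.center_nontrivial
  obtain ⟨k, hk⟩ := IsPGroup.iff_card.1 (hG.to_subgroup (Subgroup.center G))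
  have hk0 : k ≠ 0 := by
    intro h0
    rw [h0, pow_zero] at hk
    have := Finite.one_lt_card (α := Subgroup.center G)
    omega
  have hdvd : p ∣ Nat.card (Subgroup.center G) := by
    rw [hk]; exact dvd_pow_self p hk0
  obtain ⟨w, hw⟩ := exists_prime_orderOf_dvd_card' p hdvd
  have hwG : orderOf (w : G) = p := by rw [Subgroup.orderOf_coe]; exact hw
  have hwcen : ∀ g : G, (w : G) * g = g * w := fun g => (Subgroup.mem_center_iff.1 w.2 g).symm
  have hwZ : (w : G) ∈ Subgroup.centralizer (H : Set G) := by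
    rw [Subgroup.mem_centralizer_iff]
    intro h _
    exact (hwcen h).symm
  have hw1 : (w : G) ≠ 1 := by
    intro h
    rw [h, orderOf_one] at hwG
    exact hp.1.one_lt.ne hwG
  have hwpow : (w : G) ^ p = 1 := by rw [← hwG]; exact pow_orderOf_eq_one _
  have hn1 : 1 ≤ n := by
    by_contra h0
    have h0' : n = 0 := by omega
    have : (w : G) ^ (p ^ n) = 1 := pow_eq_one_of_mem_zpowers hcpow (by rw [← hZc]; exact hwZ)
    rw [h0', pow_zero, pow_one] at this
    exact hw1 this
  have hwz : (w : G) ∈ Subgroup.zpowers ((c' : G) ^ (p ^ (n - 1))) := by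
    have := mem_zpowers_pow_of_pow_eq_one (i := 1) hp.1 hcord hn1
      (by rw [← hZc]; exact hwZ) (by rwa [pow_one])
    exact this
  have hzord : orderOf ((c' : G) ^ (p ^ (n - 1))) = p := by
    rw [orderOf_pow_of_dvd (pow_pos hp.1.pos _).ne' (by rw [hcord]; exact pow_dvd_pow p (Nat.sub_le n 1)),
      hcord, Nat.pow_div (Nat.sub_le n 1) hp.1.pos]
    have : n - (n - 1) = 1 := by omega
    rw [this, pow_one]
  have hzw := zpowers_eq_of_mem_of_ne_one hp.1 hzord hwz hw1
  have hzcen : ∀ g : G, (c' : G) ^ (p ^ (n - 1)) * g = g * (c' : G) ^ (p ^ (n - 1)) := by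
    intro g
    have : (c' : G) ^ (p ^ (n - 1)) ∈ Subgroup.zpowers (w : G) := by
      rw [hzw]; exact Subgroup.mem_zpowers _
    obtain ⟨j, hj⟩ := Subgroup.mem_zpowers_iff.1 this
    rw [← hj]
    exact Commute.zpow_left (hwcen g) j
  refine ⟨H, Subgroup.centralizer (H : Set G), c', (c' : G) ^ (p ^ (n - 1)), n, hHchar, hZchar, ?_⟩
  refine
    { hZH := hcent
      hcen := hcen
      hself := ?_
      hpow := ?_
      hcm := ?_
      hZc := hZc
      hc := hcord
      hn := hn1
      hz := rfl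
      hzord := hzord
      hzcen := hzcen }
  · intro g hg
    rw [Subgroup.mem_centralizer_iff]
    intro h hh
    exact (hg h hh).symm
  · intro x hx
    have h1 := Cfsg.Agent.Lib.Helper2.pow_mem_frattini (hG.to_subgroup H) (⟨x, hx⟩ : H)
    have h2 := hfr (Subgroup.mem_map_of_mem H.subtype h1)
    simpa using h2
  · intro x hx g
    have h1 : ⁅x, g⁆ ∈ ⁅H, (⊤ : Subgroup G)⁆ :=
      Subgroup.commutator_mem_commutator hx (Subgroup.mem_top g)
    rw [cm_eq_comm]
    exact (hcomm h1).2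

/-- the data of the extraspecial factor -/
structure ECtx (p : ℕ) (G : Type*) [Group G] (H Z : Subgroup G) (z : G) (E : Subgroup G) :
    Prop where
  hZ0E : Subgroup.zpowers z ≤ E
  hEH : E ≤ H
  hEZ : ∀ x ∈ E, x ∈ Z → x ∈ Subgroup.zpowers z
  hHEZ : ∀ h ∈ H, ∃ e ∈ E, ∃ u ∈ Z, h = e * u

namespace ECtx

variable {p : ℕ} [hp : Fact p.Prime] {G : Type*} [Group G] {H Z : Subgroup G} {c z : G} {n : ℕ}
  (S : SCtx p G H Z c z n) {E : Subgroup G} (T : ECtx p G H Z z E)
include S T

omit hp in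
theorem pow_mem_Z0 {e : G} (he : e ∈ E) : e ^ p ∈ Subgroup.zpowers z :=
  T.hEZ _ (E.pow_mem he p) (S.hpow e (T.hEH he))

omit hp in
/-- the centre of `E` lies in `⟨z⟩` -/
theorem center_le {x : G} (hx : x ∈ E) (h : ∀ e ∈ E, x * e = e * x) :
    x ∈ Subgroup.zpowers z := by
  apply T.hEZ x hx
  apply S.hself
  intro y hy
  obtain ⟨e, he, u, hu, rfl⟩ := T.hHEZ y hy
  have h1 : x * u = u * x := (S.hcen u hu x (T.hEH hx)).symm
  rw [← mul_assoc, h e he, mul_assoc, h1, mul_assoc]

omit hp in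
theorem Z_le_R : Z ≤ Subgroup.centralizer (E : Set G) := by
  intro u hu
  rw [Subgroup.mem_centralizer_iff]
  intro e he
  exact (S.hcen u hu e (T.hEH he)).symm

omit hp in
/-- an element of `C_G(E)` centralizing `Z` lies in `Z` -/
theorem mem_Z_of_R {r : G} (hr : r ∈ Subgroup.centralizer (E : Set G))
    (h : ∀ u ∈ Z, r * u = u * r) : r ∈ Z := by
  apply S.hself
  intro y hy
  obtain ⟨e, he, u, hu, rfl⟩ := T.hHEZ y hy
  have h1 : e * r = r * e := (Subgroup.mem_centralizer_iff.1 hr) e he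
  rw [← mul_assoc, ← h1, mul_assoc, h u hu, mul_assoc]

omit hp in
/-- an element of `C_G(E)` commuting with the generator `c` lies in `Z` -/
theorem mem_Z_of_R' {r : G} (hr : r ∈ Subgroup.centralizer (E : Set G))
    (h : r * c = c * r) : r ∈ Z := by
  apply T.mem_Z_of_R S hr
  intro u hu
  rw [S.hZc] at hu
  obtain ⟨k, rfl⟩ := Subgroup.mem_zpowers_iff.1 hu
  exact Commute.zpow_right h k

theorem cm_mem_Z0 {e : G} (he : e ∈ E) (g : G) : cm e g ∈ Subgroup.zpowers z :=
  S.cm_mem_Z0 (T.hEH he) g (S.Z0_central (T.pow_mem_Z0 S he) g)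

/-- `G = E * C_G(E)` -/
theorem exists_mul_centralizer [Finite G] (g : G) :
    ∃ e ∈ E, ∃ r ∈ Subgroup.centralizer (E : Set G), g = e * r := by
  classical
  have hcardZ0 : Nat.card (Subgroup.zpowers z) = p := by rw [Nat.card_zpowers, S.hzord]
  have hEmemH : ∀ q : E, (q : G) ∈ H := fun q => T.hEH q.2
  let β : E → E → Subgroup.zpowers z := fun x q => ⟨cm (q : G) (x : G), T.cm_mem_Z0 S q.2 x⟩
  have hβl : ∀ x y q, β (x * y) q = β x q * β y q := by
    intro x y q
    apply Subtype.ext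
    show cm (q : G) ((x : G) * (y : G)) = cm (q : G) x * cm (q : G) y
    exact cm_mul_right' _ _ _ (S.hcen _ (S.hcm q (hEmemH q) y) x (hEmemH x)).symm
  have hβr : ∀ x q q', β x (q * q') = β x q * β x q' := by
    intro x q q'
    apply Subtype.ext
    show cm ((q : G) * (q' : G)) x = cm (q : G) x * cm (q' : G) x
    rw [cm_mul_left'' _ _ _ (S.hcen _ (S.hcm q' (hEmemH q') x) q (hEmemH q)).symm]
    exact S.Z_comm (S.hcm q' (hEmemH q') x) (S.hcm q (hEmemH q) x)
  have hβ1 : ∀ x q, β x q = 1 ↔ q * x = x * q := by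
    intro x q
    rw [Subtype.ext_iff]
    show cm (q : G) (x : G) = 1 ↔ _
    rw [cm_eq_one_iff]
    constructor
    · intro h; exact Subtype.ext h
    · intro h; exact congrArg Subtype.val h
  let lam : E →* Subgroup.zpowers z :=
    { toFun := fun q => ⟨cm (q : G) g, T.cm_mem_Z0 S q.2 g⟩
      map_one' := by apply Subtype.ext; exact cm_one_left g
      map_mul' := fun q q' => by
        apply Subtype.ext
        show cm ((q : G) * (q' : G)) g = cm (q : G) g * cm (q' : G) g
        rw [cm_mul_left'' _ _ _ (S.hcen _ (S.hcm q' (hEmemH q') g) q (hEmemH q)).symm]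
        exact S.Z_comm (S.hcm q' (hEmemH q') g) (S.hcm q (hEmemH q) g) }
  have hlam : ∀ q ∈ Subgroup.center E, lam q = 1 := by
    intro q hq
    apply Subtype.ext
    show cm (q : G) g = 1
    rw [cm_eq_one_iff]
    apply S.Z0_central
    apply T.center_le S q.2
    intro e he
    have := Subgroup.mem_center_iff.1 hq ⟨e, he⟩
    exact (congrArg Subtype.val this).symm
  obtain ⟨e0, he0⟩ := duality_abstract hcardZ0 β hβl hβr hβ1 lam hlam
  have he0' : ∀ q ∈ E, cm q g = cm q (e0 : G) := fun q hq => congrArg Subtype.val (he0 ⟨q, hq⟩)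
  refine ⟨e0, e0.2, (e0 : G)⁻¹ * g, ?_, by group⟩
  rw [Subgroup.mem_centralizer_iff]
  intro q hq
  have h1 := he0' q⁻¹ (E.inv_mem hq)
  simp only [cm, inv_inv] at h1
  -- q⁻¹ g q g⁻¹ = q⁻¹ e0 q e0⁻¹
  have h2 : g * q * g⁻¹ = (e0 : G) * q * (e0 : G)⁻¹ := by
    calc g * q * g⁻¹ = q * (q⁻¹ * g * q * g⁻¹) := by group
      _ = q * (q⁻¹ * (e0 : G) * q * (e0 : G)⁻¹) := by rw [h1]
      _ = (e0 : G) * q * (e0 : G)⁻¹ := by group
  calc q * ((e0 : G)⁻¹ * g) = (e0 : G)⁻¹ * ((e0 : G) * q * (e0 : G)⁻¹) * g := by group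
    _ = (e0 : G)⁻¹ * (g * q * g⁻¹) * g := by rw [h2]
    _ = (e0 : G)⁻¹ * g * q := by group

/-- `E` is central or extraspecial -/
theorem isExtraspecial_or [Finite G] (hG : IsPGroup p G) :
    (∀ e ∈ E, e ∈ Subgroup.zpowers z) ∨ Cfsg.IsExtraspecial p ↥E := by
  by_cases hab : ∀ a ∈ E, ∀ b ∈ E, a * b = b * a
  · left
    intro e he
    exact T.center_le S he (fun e' he' => hab e he e' he')
  · right
    push Not at hab
    refine isExtraspecial_subgroup_of_elem E (hG.to_subgroup E) z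
      (T.hZ0E (Subgroup.mem_zpowers z)) S.hzord (fun g _ => S.hzcen g) ?_ ?_ ?_ hab
    · intro a ha b hb
      exact S.cm_mem_Z0_H (T.hEH ha) (T.hEH hb)
    · intro a ha
      exact T.pow_mem_Z0 S ha
    · intro x hx h
      exact T.center_le S hx h

end ECtx

end Cfsg.Agent.Lib.Helper29
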