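import Mathlib
import Cfsg.Agent.Lib.Helper29.SympHallB
import Cfsg.Agent.S3761

set_option autoImplicit false

/-!
P. Hall's theorem on `p`-groups of symplectic type, part C: analysis of `R = C_G(E)`.
-/

namespace Cfsg.Agent.Lib.Helper29

open scoped commutatorElement

theorem zpow_pow_comm {G : Type*} [Group G] (a : G) (k : ℤ) (m : ℕ) : (a ^ k) ^ m = (a ^ m) ^ k := by
  rw [← zpow_natCast (a ^ k), ← zpow_mul, mul_comm, zpow_mul, zpow_natCast]

namespace ECtx

variable {p : ℕ} [hp : Fact p.Prime] {G : Type*} [Group G] {H Z : Subgroup G} {c z : G} {n : ℕ}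
  (S : SCtx p G H Z c z n) {E : Subgroup G} (T : ECtx p G H Z z E)
include S T

omit hp in
/-- if `C_G(E)` is abelian it is `Z` -/
theorem R_cyclic_of_comm
    (hab : ∀ r ∈ Subgroup.centralizer (E : Set G), ∀ r' ∈ Subgroup.centralizer (E : Set G),
      r * r' = r' * r) : IsCyclic ↥(Subgroup.centralizer (E : Set G)) := by
  have hRZ : Subgroup.centralizer (E : Set G) = Z :=
    le_antisymm (fun r hr => T.mem_Z_of_R S hr (fun u hu => hab r hr u (T.Z_le_R S hu)))
      (T.Z_le_R S)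
  rw [hRZ, S.hZc]
  infer_instance

omit hp in
/-- if `C_G(E)` is not abelian then `n ≥ 2` -/
theorem two_le_of_not_comm
    (hna : ¬ ∀ r ∈ Subgroup.centralizer (E : Set G), ∀ r' ∈ Subgroup.centralizer (E : Set G),
      r * r' = r' * r) : 2 ≤ n := by
  by_contra hn
  have hn1 : n = 1 := by have := S.hn; omega
  have hzc : z = c := by rw [S.hz, hn1]; simp
  apply hna
  intro r hr r' hr'
  have h1 : r ∈ Z := T.mem_Z_of_R' S hr (by rw [← hzc]; exact (S.hzcen r).symm)
  have h2 : r' ∈ Z := T.mem_Z_of_R' S hr' (by rw [← hzc]; exact (S.hzcen r').symm)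
  exact S.Z_comm h1 h2

omit T in
/-- the key divisibility: if `c ^ k` commutes with `g` but `c` does not, then `p ∣ k` -/
theorem dvd_of_commute {g : G} (hg : c ^ p * g = g * c ^ p) (ht : cm c g ≠ 1) {k : ℕ}
    (hk : c ^ k * g = g * c ^ k) : p ∣ k := by
  have ht0 : cm c g ∈ Subgroup.zpowers z := S.cm_mem_Z0 S.c_mem_H g hg
  have h1 : cm (c ^ k) g = (cm c g) ^ k := cm_pow_left' c g (S.Z0_central ht0 c).symm k
  rw [(cm_eq_one_iff _ _).2 hk] at h1
  have h2 : orderOf (cm c g) = p := orderOf_eq_prime (S.pow_eq_one_of_mem_Z0 ht0) ht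
  rw [← h2]
  exact orderOf_dvd_of_pow_eq_one h1.symm

/-- in the case `n = 2` with `C_G(E)` non-abelian, `G` looks extraspecial -/
theorem exceptional_facts [Finite G] (hn2 : n = 2)
    (hna : ¬ ∀ r ∈ Subgroup.centralizer (E : Set G), ∀ r' ∈ Subgroup.centralizer (E : Set G),
      r * r' = r' * r) :
    (∀ a : G, a ^ p ∈ Subgroup.zpowers z) ∧
      (∀ x : G, (∀ g, x * g = g * x) → x ∈ Subgroup.zpowers z) := by
  have hzc : z = c ^ p := by rw [S.hz, hn2]; simp
  have hcp : ∀ g : G, c ^ p * g = g * c ^ p := fun g => by rw [← hzc]; exact S.hzcen g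
  have hfin : IsOfFinOrder c := by
    rw [← orderOf_pos_iff, S.hc]; exact pow_pos hp.1.pos n
  have hmemZ : ∀ u ∈ Z, ∃ k : ℕ, c ^ k = u := by
    intro u hu
    rw [S.hZc] at hu
    exact hfin.mem_powers_iff_mem_zpowers.2 hu
  have hpk : ∀ k : ℕ, p ∣ k → c ^ k ∈ Subgroup.zpowers z := by
    rintro k ⟨m, rfl⟩
    rw [pow_mul, ← hzc]
    exact Subgroup.npow_mem_zpowers z m
  -- a non-central element of R
  obtain ⟨r0, hr0, ht0⟩ : ∃ r0 ∈ Subgroup.centralizer (E : Set G), cm c r0 ≠ 1 := by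
    by_contra hcon
    push Not at hcon
    apply hna
    intro r hr r' hr'
    have h1 : r ∈ Z := T.mem_Z_of_R' S hr ((cm_eq_one_iff _ _).1 (hcon r hr)).symm
    have h2 : r' ∈ Z := T.mem_Z_of_R' S hr' ((cm_eq_one_iff _ _).1 (hcon r' hr')).symm
    exact S.Z_comm h1 h2
  have hRpow : ∀ r ∈ Subgroup.centralizer (E : Set G), r ^ p ∈ Subgroup.zpowers z := by
    intro r hr
    have ht : cm c r ∈ Subgroup.zpowers z := S.cm_mem_Z0 S.c_mem_H r (hcp r)
    have h1 : cm c (r ^ p) = (cm c r) ^ p := cm_pow_right' c r (S.Z0_central ht r).symm p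
    rw [S.pow_eq_one_of_mem_Z0 ht] at h1
    have h2 : r ^ p ∈ Z :=
      T.mem_Z_of_R' S (Subgroup.pow_mem _ hr p) ((cm_eq_one_iff _ _).1 h1).symm
    obtain ⟨k, hk⟩ := hmemZ _ h2
    by_cases ht1 : cm c r = 1
    · have hrZ : r ∈ Z := T.mem_Z_of_R' S hr ((cm_eq_one_iff _ _).1 ht1).symm
      obtain ⟨j, hj⟩ := hmemZ _ hrZ
      rw [← hj, ← pow_mul]
      exact hpk _ (Dvd.intro_left j rfl)
    · rw [← hk]
      apply hpk
      apply dvd_of_commute S (hcp r) ht1
      rw [hk]
      exact ((Commute.refl r).pow_left p).eq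
  refine ⟨?_, ?_⟩
  · intro a
    obtain ⟨e, he, r, hr, rfl⟩ := T.exists_mul_centralizer S a
    have hcomm : Commute e r := (Subgroup.mem_centralizer_iff.1 hr) e he
    rw [hcomm.mul_pow]
    exact Subgroup.mul_mem _ (T.pow_mem_Z0 S he) (hRpow r hr)
  · intro x hx
    have hxZ : x ∈ Z := S.hself x (fun h _ => hx h)
    obtain ⟨k, hk⟩ := hmemZ _ hxZ
    rw [← hk]
    apply hpk
    apply dvd_of_commute S (hcp r0) ht0
    rw [hk]
    exact hx r0

/-- the exceptional case: `p = 2`, `n = 2` and `C_G(E)` non-abelian, where `G` is extraspecial -/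
theorem exceptional [Finite G] (hG : IsPGroup p G) (hp2 : p = 2) (hn2 : n = 2)
    (hna : ¬ ∀ r ∈ Subgroup.centralizer (E : Set G), ∀ r' ∈ Subgroup.centralizer (E : Set G),
      r * r' = r' * r) : Cfsg.IsExtraspecial p ↥(⊤ : Subgroup G) := by
  obtain ⟨hpow, hcen⟩ := T.exceptional_facts S hn2 hna
  have hsq : ∀ a : G, a * a ∈ Subgroup.zpowers z := by
    intro a
    have := hpow a
    rw [hp2, pow_two] at this
    exact this
  refine isExtraspecial_subgroup_of_elem ⊤ (hG.to_subgroup ⊤) z (Subgroup.mem_top z) S.hzord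
    (fun g _ => S.hzcen g) ?_ (fun a _ => hpow a) (fun x _ h => hcen x (fun g => h g (Subgroup.mem_top g))) ?_
  · intro a _ b _
    rw [cm_eq_sq_mul a b (fun g => (S.Z0_central (Subgroup.inv_mem _ (hsq a)) g).symm)]
    exact Subgroup.mul_mem _ (Subgroup.mul_mem _ (hsq (a * b)) (Subgroup.inv_mem _ (hsq a)))
      (Subgroup.inv_mem _ (hsq b))
  · push Not at hna
    obtain ⟨r, _, r', _, h⟩ := hna
    exact ⟨r, Subgroup.mem_top r, r', Subgroup.mem_top r', h⟩

/-- the second branch of the structure theorem for `C_G(E)` is impossible -/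
theorem branch_two [Finite G] (hZchar : Z.Characteristic)
    (hsymp : ∀ A : Subgroup G, A.Characteristic → IsMulCommutative A → IsCyclic A)
    (hcase : 3 ≤ n ∨ ∀ e ∈ E, e ^ p = 1) (W : Subgroup G)
    (hWN : ∀ w ∈ W, ∀ u ∈ Z, w * u ^ p = u ^ p * w)
    (hWR : W ≤ Subgroup.centralizer (E : Set G))
    (hWexp : ∀ w ∈ W, w ^ p = 1) (hWcard : Nat.card W = p ^ 2)
    (hWcomm : ∀ w ∈ W, ∀ w' ∈ W, w * w' = w' * w)
    (hWall : ∀ r ∈ Subgroup.centralizer (E : Set G), (∀ u ∈ Z, r * u ^ p = u ^ p * r) →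
      r ^ p = 1 → r ∈ W) : False := by
  classical
  -- N = C_G(Z^p)
  let Sp : Set G := {y | ∃ u ∈ Z, y = u ^ p}
  have hNmem : ∀ x, x ∈ Subgroup.centralizer Sp ↔ ∀ u ∈ Z, x * u ^ p = u ^ p * x := by
    intro x
    rw [Subgroup.mem_centralizer_iff]
    constructor
    · intro h u hu
      exact (h _ ⟨u, hu, rfl⟩).symm
    · rintro h _ ⟨u, hu, rfl⟩
      exact (h u hu).symm
  have hNchar : (Subgroup.centralizer Sp).Characteristic := by
    rw [Subgroup.characteristic_iff_map_le]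
    intro φ y hy
    obtain ⟨x, hx, rfl⟩ := Subgroup.mem_map.1 hy
    rw [hNmem] at hx ⊢
    intro u hu
    have hu' : φ.symm u ∈ Z := by
      have := (Subgroup.characteristic_iff_map_le.1 hZchar φ.symm) (Subgroup.mem_map_of_mem _ hu)
      exact this
    have h1 := hx _ hu'
    have h2 : φ (x * (φ.symm u) ^ p) = φ ((φ.symm u) ^ p * x) := by rw [h1]
    simpa using h2
  let Ω : Subgroup G := Subgroup.closure {x | x ∈ Subgroup.centralizer Sp ∧ x ^ p = 1}
  have hΩchar : Ω.Characteristic := by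
    rw [Subgroup.characteristic_iff_map_le]
    intro φ
    rw [MonoidHom.map_closure]
    apply Subgroup.closure_mono
    rintro _ ⟨x, ⟨hxN, hxp⟩, rfl⟩
    refine ⟨(Subgroup.characteristic_iff_map_le.1 hNchar φ) (Subgroup.mem_map_of_mem _ hxN), ?_⟩
    rw [← map_pow, hxp, map_one]
  have hTchar : (Ω ⊓ Subgroup.centralizer (Ω : Set G)).Characteristic := inferInstance
  have hTcomm : IsMulCommutative ↥(Ω ⊓ Subgroup.centralizer (Ω : Set G)) :=
    ⟨⟨fun a b => Subtype.ext ((Subgroup.mem_centralizer_iff.1 b.2.2) a a.2.1)⟩⟩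
  have hTcyc := hsymp _ hTchar hTcomm
  -- H ≤ N
  have hHN : ∀ h ∈ H, h ∈ Subgroup.centralizer Sp := by
    intro h hh
    rw [hNmem]
    intro u hu
    exact (S.hcen _ (Z.pow_mem hu p) h hh).symm
  have hWT : W ≤ Ω ⊓ Subgroup.centralizer (Ω : Set G) := by
    intro w hw
    have hwN : w ∈ Subgroup.centralizer Sp := (hNmem w).2 (hWN w hw)
    refine Subgroup.mem_inf.2 ⟨Subgroup.subset_closure ⟨hwN, hWexp w hw⟩, ?_⟩
    rw [Subgroup.mem_centralizer_iff]
    apply commute_closure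
    rintro x ⟨hxN, hxp⟩
    obtain ⟨e, he, r, hr, rfl⟩ := T.exists_mul_centralizer S x
    have heN : e ∈ Subgroup.centralizer Sp := hHN e (T.hEH he)
    have hrN : r ∈ Subgroup.centralizer Sp := by
      have : r = e⁻¹ * (e * r) := by group
      rw [this]
      exact Subgroup.mul_mem _ (Subgroup.inv_mem _ heN) hxN
    have hrN' := (hNmem r).1 hrN
    have hcomm : Commute e r := (Subgroup.mem_centralizer_iff.1 hr) e he
    have hpw : e ^ p * r ^ p = 1 := by rw [← hcomm.mul_pow]; exact hxp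
    -- correction
    obtain ⟨u1, hu1, hu1p⟩ : ∃ u1 ∈ Z, (u1 ^ p) ^ p = r ^ p := by
      rcases hcase with hn3 | hexp
      · have hrp : r ^ p ∈ Subgroup.zpowers z := by
          have : r ^ p = (e ^ p)⁻¹ := eq_inv_of_mul_eq_one_right hpw
          rw [this]
          exact Subgroup.inv_mem _ (T.pow_mem_Z0 S he)
        obtain ⟨k, hk⟩ := Subgroup.mem_zpowers_iff.1 hrp
        refine ⟨(c ^ (p ^ (n - 3))) ^ k, Z.zpow_mem (Z.pow_mem S.c_mem _) k, ?_⟩
        rw [zpow_pow_comm, zpow_pow_comm, ← hk, S.hz, ← pow_mul, ← pow_mul]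
        have : p ^ (n - 1) = p ^ (n - 3) * (p * p) := by
          have h3 : n - 1 = (n - 3) + 1 + 1 := by omega
          rw [h3, pow_succ, pow_succ, mul_assoc]
        rw [this]
      · refine ⟨1, Z.one_mem, ?_⟩
        rw [hexp e he, one_mul] at hpw
        rw [hpw]; simp
    have hfZ : u1 ^ p ∈ Z := Z.pow_mem hu1 p
    have hrf : Commute r (u1 ^ p) := hrN' u1 hu1
    have hr'R : r * (u1 ^ p)⁻¹ ∈ Subgroup.centralizer (E : Set G) :=
      Subgroup.mul_mem _ hr (Subgroup.inv_mem _ (T.Z_le_R S hfZ))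
    have hr'N : r * (u1 ^ p)⁻¹ ∈ Subgroup.centralizer Sp :=
      Subgroup.mul_mem _ hrN (Subgroup.inv_mem _ (hHN _ (S.hZH hfZ)))
    have hr'p : (r * (u1 ^ p)⁻¹) ^ p = 1 := by
      rw [(hrf.inv_right).mul_pow, inv_pow, hu1p, mul_inv_cancel]
    have hr'W : r * (u1 ^ p)⁻¹ ∈ W := hWall _ hr'R ((hNmem _).1 hr'N) hr'p
    have hw1 : e * w = w * e := (Subgroup.mem_centralizer_iff.1 (hWR hw)) e he
    have hw2 : (r * (u1 ^ p)⁻¹) * w = w * (r * (u1 ^ p)⁻¹) := hWcomm _ hr'W w hw
    have hw3 : u1 ^ p * w = w * u1 ^ p := (hWN w hw u1 hu1).symm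
    calc e * r * w = e * ((r * (u1 ^ p)⁻¹) * (u1 ^ p * w)) := by group
      _ = e * ((r * (u1 ^ p)⁻¹) * (w * u1 ^ p)) := by rw [hw3]
      _ = e * (((r * (u1 ^ p)⁻¹) * w) * u1 ^ p) := by group
      _ = e * ((w * (r * (u1 ^ p)⁻¹)) * u1 ^ p) := by rw [hw2]
      _ = (e * w) * r := by group
      _ = (w * e) * r := by rw [hw1]
      _ = w * (e * r) := by group
  exact not_isCyclic_of_le hp.1 hWT hWcard hWexp hTcyc

/-- the structure of `C_G(E)` when it is not abelian (outside the exceptional case) -/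
theorem R_structure [Finite G] (hG : IsPGroup p G) (hZchar : Z.Characteristic)
    (hsymp : ∀ A : Subgroup G, A.Characteristic → IsMulCommutative A → IsCyclic A)
    (hexp : 2 ≤ n → p ≠ 2 → ∀ e ∈ E, e ^ p = 1)
    (hna : ¬ ∀ r ∈ Subgroup.centralizer (E : Set G), ∀ r' ∈ Subgroup.centralizer (E : Set G),
      r * r' = r' * r)
    (hnex : ¬ (p = 2 ∧ n = 2)) :
    p = 2 ∧ 16 ≤ Nat.card ↥(Subgroup.centralizer (E : Set G)) ∧
      ((∃ m : ℕ, Nonempty (↥(Subgroup.centralizer (E : Set G)) ≃* DihedralGroup m)) ∨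
        (∃ m : ℕ, Nonempty (↥(Subgroup.centralizer (E : Set G)) ≃* QuaternionGroup m)) ∨
        Cfsg.IsQuasiDihedral ↥(Subgroup.centralizer (E : Set G))) := by
  classical
  have hn2 : 2 ≤ n := T.two_le_of_not_comm S hna
  have hZR : Z ≤ Subgroup.centralizer (E : Set G) := T.Z_le_R S
  have hRp : IsPGroup p ↥(Subgroup.centralizer (E : Set G)) := hG.to_subgroup _
  have hRna : ¬ IsMulCommutative ↥(Subgroup.centralizer (E : Set G)) := by
    intro h
    apply hna
    intro r hr r' hr'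
    have := h.is_comm.comm ⟨r, hr⟩ ⟨r', hr'⟩
    exact congrArg Subtype.val this
  haveI : Z.Normal := by haveI := hZchar; infer_instance
  haveI hUn : (Z.subgroupOf (Subgroup.centralizer (E : Set G))).Normal := inferInstance
  have hZcyc : IsCyclic ↥Z := by rw [S.hZc]; infer_instance
  have hUcyc : IsCyclic ↥(Z.subgroupOf (Subgroup.centralizer (E : Set G))) :=
    isCyclic_of_surjective (Subgroup.subgroupOfEquivOfLe hZR).symm.toMonoidHom
      (Subgroup.subgroupOfEquivOfLe hZR).symm.surjective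
  have hUcard : Nat.card ↥(Z.subgroupOf (Subgroup.centralizer (E : Set G))) = p ^ n := by
    rw [Nat.card_congr (Subgroup.subgroupOfEquivOfLe hZR).toEquiv, S.hZc, Nat.card_zpowers, S.hc]
  have hUC : Subgroup.centralizer
      ((Z.subgroupOf (Subgroup.centralizer (E : Set G)) : Subgroup _) : Set _) =
      Z.subgroupOf (Subgroup.centralizer (E : Set G)) := by
    ext r
    constructor
    · intro hr
      rw [Subgroup.mem_subgroupOf]
      apply T.mem_Z_of_R S r.2
      intro u hu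
      have := (Subgroup.mem_centralizer_iff.1 hr) ⟨u, hZR hu⟩ (Subgroup.mem_subgroupOf.2 hu)
      exact (congrArg Subtype.val this).symm
    · intro hr
      rw [Subgroup.mem_subgroupOf] at hr
      rw [Subgroup.mem_centralizer_iff]
      intro u hu
      apply Subtype.ext
      exact S.Z_comm (Subgroup.mem_subgroupOf.1 hu) hr
  rcases Cfsg.Agent.S3761.result hRp hRna _ hUcyc n hUcard hUC with ⟨h2, hcard, hiso⟩ | ⟨-, hW1, hW2, -⟩
  · refine ⟨h2, ?_, hiso⟩
    have hn3 : 3 ≤ n := by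
      by_contra h
      exact hnex ⟨h2, by omega⟩
    rw [hcard]
    calc 16 = 2 ^ 4 := by norm_num
      _ ≤ 2 ^ (n + 1) := Nat.pow_le_pow_right (by norm_num) (by omega)
  · exfalso
    have hcase : 3 ≤ n ∨ ∀ e ∈ E, e ^ p = 1 := by
      by_cases hn3 : 3 ≤ n
      · exact Or.inl hn3
      · right
        have hn2' : n = 2 := by omega
        exact hexp hn2 (fun hp2 => hnex ⟨hp2, hn2'⟩)
    set U := Z.subgroupOf (Subgroup.centralizer (E : Set G)) with hU
    set CR := Subgroup.centralizer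
      (Cfsg.powerClosure p 1 U : Set ↥(Subgroup.centralizer (E : Set G))) with hCR
    have hWle : Cfsg.omegaOne p CR ≤ CR := by
      unfold Cfsg.omegaOne
      rw [Subgroup.closure_le]
      intro x hx
      exact hx.1
    -- membership of CR in ambient terms
    have hCRmem : ∀ r : ↥(Subgroup.centralizer (E : Set G)),
        r ∈ CR ↔ ∀ u ∈ Z, (r : G) * u ^ p = u ^ p * r := by
      intro r
      constructor
      · intro hr u hu
        have hy : (⟨u, hZR hu⟩ : ↥(Subgroup.centralizer (E : Set G))) ^ (p ^ 1) ∈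
            Cfsg.powerClosure p 1 U := by
          unfold Cfsg.powerClosure
          exact Subgroup.subset_closure ⟨⟨u, hZR hu⟩, Subgroup.mem_subgroupOf.2 hu, rfl⟩
        have := (Subgroup.mem_centralizer_iff.1 hr) _ hy
        have h2 := congrArg Subtype.val this
        simp only [pow_one] at h2
        exact h2.symm
      · intro hr
        rw [hCR, Subgroup.mem_centralizer_iff]
        unfold Cfsg.powerClosure
        apply commute_closure
        rintro _ ⟨x, hx, rfl⟩
        apply Subtype.ext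
        have := hr (x : G) (Subgroup.mem_subgroupOf.1 hx)
        simp only [pow_one]
        exact this.symm
    refine T.branch_two S hZchar hsymp hcase
      ((Cfsg.omegaOne p CR).map (Subgroup.centralizer (E : Set G)).subtype) ?_ ?_ ?_ ?_ ?_ ?_
    · rintro _ ⟨w, hw, rfl⟩ u hu
      exact (hCRmem w).1 (hWle hw) u hu
    · rintro _ ⟨w, hw, rfl⟩
      exact w.2
    · rintro _ ⟨w, hw, rfl⟩
      have := hW1.2 w hw
      exact congrArg Subtype.val this
    · rw [Subgroup.card_map_of_injective (Subgroup.subtype_injective _)]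
      exact hW2
    · rintro _ ⟨w, hw, rfl⟩ _ ⟨w', hw', rfl⟩
      have := hW1.1.is_comm.comm ⟨w, hw⟩ ⟨w', hw'⟩
      exact congrArg (fun x => ((x : ↥(Subgroup.centralizer (E : Set G))) : G))
        (congrArg Subtype.val this)
    · intro r hr hrN hrp
      have h1 : (⟨r, hr⟩ : ↥(Subgroup.centralizer (E : Set G))) ∈ CR := (hCRmem _).2 hrN
      refine ⟨⟨r, hr⟩, ?_, rfl⟩
      unfold Cfsg.omegaOne
      exact Subgroup.subset_closure ⟨h1, Subtype.ext (by simpa using hrp)⟩

/-- assembling the decomposition from the structure of `C_G(E)` -/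
theorem finish [Finite G] (hG : IsPGroup p G)
    (hR : IsCyclic ↥(Subgroup.centralizer (E : Set G)) ∨
      (p = 2 ∧ 16 ≤ Nat.card ↥(Subgroup.centralizer (E : Set G)) ∧
      ((∃ m : ℕ, Nonempty (↥(Subgroup.centralizer (E : Set G)) ≃* DihedralGroup m)) ∨
        (∃ m : ℕ, Nonempty (↥(Subgroup.centralizer (E : Set G)) ≃* QuaternionGroup m)) ∨
        Cfsg.IsQuasiDihedral ↥(Subgroup.centralizer (E : Set G))))) :
    ∃ E R : Subgroup G, (∀ e ∈ E, ∀ r ∈ R, e * r = r * e) ∧ E ⊔ R = ⊤ ∧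
      (E = ⊥ ∨ Cfsg.IsExtraspecial p ↥E) ∧
      (IsCyclic R ∨ (p = 2 ∧ 16 ≤ Nat.card R ∧ ((∃ m : ℕ, Nonempty (↥R ≃* DihedralGroup m)) ∨
        (∃ m : ℕ, Nonempty (↥R ≃* QuaternionGroup m)) ∨ Cfsg.IsQuasiDihedral ↥R))) := by
  rcases T.isExtraspecial_or S hG with hc | hex
  · refine ⟨⊥, Subgroup.centralizer (E : Set G), ?_, ?_, Or.inl rfl, hR⟩
    · intro e he r _
      rw [Subgroup.mem_bot] at he
      subst he
      simp
    · rw [bot_sup_eq, Subgroup.centralizer_eq_top_iff_subset]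
      intro e he
      rw [SetLike.mem_coe, Subgroup.mem_center_iff]
      intro g
      exact (S.Z0_central (hc e he) g).symm
  · refine ⟨E, Subgroup.centralizer (E : Set G), ?_, ?_, Or.inr hex, hR⟩
    · intro e he r hr
      exact (Subgroup.mem_centralizer_iff.1 hr) e he
    · rw [eq_top_iff]
      intro g _
      obtain ⟨e, he, r, hr, rfl⟩ := T.exists_mul_centralizer S g
      exact Subgroup.mul_mem _ ((le_sup_left : E ≤ E ⊔ Subgroup.centralizer (E : Set G)) he)
        ((le_sup_right : Subgroup.centralizer (E : Set G) ≤ E ⊔ _) hr)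

end ECtx

end Cfsg.Agent.Lib.Helper29
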