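import Mathlib
import Cfsg.Agent.Lib.Helper41.PsDefs
import Cfsg.Agent.Lib.Helper11.CgCG0
import Cfsg.Agent.Lib.Helper27.CgCG7
import Cfsg.Agent.Lib.Helper78.CgCG7b

/-! # PS6 (helper29, leaf of helper41's Ps hive for S4321): reduction of `a` -/

set_option autoImplicit false

namespace Cfsg.Agent.Lib.Helper41.Ps

open Subgroup
open Cfsg.Agent.Lib.Helper22.Cg
open scoped Pointwise

universe u

/-- PS6. reduction of `a`: a conjugate of its `p`-part lies in the given Sylow `P`. -/
theorem ps_red_a {G : Type u} [Group G] [Finite G] (p : ℕ) [Fact p.Prime]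
    (hZ : ¬ p ∣ Nat.card ↥(Subgroup.center G)) (P : Sylow p G) (a : G) (ha : p ∣ orderOf a) :
    ∃ α : G, α ∈ P ∧ α ≠ 1 ∧ cs α ∣ cs a ∧ 1 < cs α := by
  obtain ⟨α0, β, hab, hα0, hβ, ⟨n, hn⟩, hβp⟩ := cg7 p a
  have hα01 : α0 ≠ 1 := by
    rintro rfl
    rw [one_mul] at hab
    subst hab
    exact hβp ha
  -- `α0` lies in a Sylow `p`-subgroup, conjugate to `P`
  have hpg : IsPGroup p (zpowers α0) := by
    apply IsPGroup.of_card (n := n)
    rw [Nat.card_zpowers, hn]
  obtain ⟨Q, hQ⟩ := hpg.exists_le_sylow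
  obtain ⟨k, hk⟩ := MulAction.exists_smul_eq G Q P
  have h1 : α0 ∈ (Q : Subgroup G) := hQ (mem_zpowers α0)
  have hαP : k * α0 * k⁻¹ ∈ P := by
    have h2 : MulAut.conj k • α0 ∈ MulAut.conj k • (Q : Subgroup G) :=
      Subgroup.smul_mem_pointwise_smul _ _ _ h1
    have h3 : ((k • Q : Sylow p G) : Subgroup G) = MulAut.conj k • (Q : Subgroup G) := rfl
    have h4 : k * α0 * k⁻¹ ∈ ((k • Q : Sylow p G) : Subgroup G) := by
      rw [h3]
      simpa [MulAut.smul_def] using h2
    rw [hk] at h4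
    exact h4
  have hα1 : k * α0 * k⁻¹ ≠ 1 := by
    intro h
    apply hα01
    have : α0 = k⁻¹ * (k * α0 * k⁻¹) * k := by group
    rw [this, h]
    group
  have hcs : cs (k * α0 * k⁻¹) = cs α0 := cg0 α0 k
  have hdvd : cs α0 ∣ cs a := by
    have hle : centralizer ({a} : Set G) ≤ centralizer ({α0} : Set G) := by
      rw [cg7b a α0 β hab hα0 hβ]
      exact inf_le_left
    exact Subgroup.index_dvd_of_le hle
  have hnc : 1 < cs α0 := by
    by_contra hle
    have hne : cs α0 ≠ 0 := Subgroup.index_ne_zero_of_finite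
    have h1' : (centralizer ({α0} : Set G)).index = 1 := by
      have : cs α0 = 1 := by omega
      exact this
    rw [Subgroup.index_eq_one] at h1'
    have hcen : α0 ∈ center G := by
      rw [mem_center_iff]
      intro g
      have hg : g ∈ centralizer ({α0} : Set G) := h1' ▸ mem_top g
      rw [mem_centralizer_iff] at hg
      exact (hg α0 rfl).symm
    have hord : orderOf α0 ∣ Nat.card ↥(center G) := Subgroup.orderOf_dvd_natCard _ hcen
    have hn0 : n ≠ 0 := by
      rintro rfl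
      rw [pow_zero, orderOf_eq_one_iff] at hn
      exact hα01 hn
    apply hZ
    rw [hn] at hord
    exact (dvd_pow_self p hn0).trans hord
  exact ⟨k * α0 * k⁻¹, hαP, hα1, hcs ▸ hdvd, hcs ▸ hnc⟩

end Cfsg.Agent.Lib.Helper41.Ps
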