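import Cfsg.Agent.Lib.Helper22.CgDefs

/-! # CG9a (helper29, leaf of helper22's Cg hive for S4257): no class size mixes the two sides -/

set_option autoImplicit false

namespace Cfsg.Agent.Lib.Helper22.Cg

open Subgroup

universe u

/-- a prime divisor of a class size divisible by `p` is in the closed neighbourhood of `p` -/
theorem cg9a_nb {G : Type u} [Group G] (p : ℕ) (hp : p.Prime) (a : G) (hpa : p ∣ cs a) (w : ℕ)
    (hw : w.Prime) (hwa : w ∣ cs a) : Nb G p w := by
  by_cases h : w = p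
  · exact Or.inl h
  · right
    refine ⟨a, ?_⟩
    have hcop : Nat.Coprime p w := (Nat.coprime_primes hp hw).mpr (Ne.symm h)
    exact Nat.Coprime.mul_dvd_of_dvd_of_dvd hcop hpa hwa

/-- CG9a. Fact C: no class size mixes the two sides. -/
theorem cg9a {G : Type u} [Group G] [Finite G] (p q : ℕ)
    (hH1 : ∀ u v : ℕ, u.Prime → v.Prime → Nb G p u → Nb G q v → u ≠ v ∧ ¬ Adj G u v)
    (hp : p.Prime) (hq : q.Prime)
    (a e : G) (hpa : p ∣ cs a) (hqe : q ∣ cs e) :
    (cs a).Coprime (cs e) ∧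
      ∀ z : G, cs z ∣ cs a * cs e → cs z ∣ cs a ∨ cs z ∣ cs e := by
  constructor
  · by_contra hnc
    obtain ⟨w, hw, hwa, hwe⟩ := Nat.Prime.not_coprime_iff_dvd.mp hnc
    exact (hH1 w w hw hw (cg9a_nb p hp a hpa w hw hwa) (cg9a_nb q hq e hqe w hw hwe)).1 rfl
  · intro z hz
    by_cases h1 : (cs z).Coprime (cs e)
    · exact Or.inl (Nat.Coprime.dvd_of_dvd_mul_right h1 hz)
    · by_cases h2 : (cs z).Coprime (cs a)
      · exact Or.inr (Nat.Coprime.dvd_of_dvd_mul_left h2 hz)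
      · exfalso
        obtain ⟨v, hv, hvz, hve⟩ := Nat.Prime.not_coprime_iff_dvd.mp h1
        obtain ⟨w, hw, hwz, hwa⟩ := Nat.Prime.not_coprime_iff_dvd.mp h2
        obtain ⟨hne, hnadj⟩ := hH1 w v hw hv (cg9a_nb p hp a hpa w hw hwa)
          (cg9a_nb q hq e hqe v hv hve)
        apply hnadj
        refine ⟨z, ?_⟩
        have hcop : Nat.Coprime w v := (Nat.coprime_primes hw hv).mpr hne
        exact Nat.Coprime.mul_dvd_of_dvd_of_dvd hcop hwz hvz
end Cfsg.Agent.Lib.Helper22.Cg
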