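import Cfsg.Agent.Lib.Helper50.CD

/-!
# The Chermak–Delgado family: invariance under automorphisms and joins

`Cfsg.IsCentralizerLarge` is invariant under group automorphisms (in particular conjugation) and
closed under joins of nonempty families.  Also: the `X`-core of a subgroup.
-/

set_option autoImplicit false

namespace Cfsg.Agent.Lib.Helper29

open Subgroup Cfsg.Agent.Lib.Helper50

variable {G : Type*} [Group G]

/-- The measure does not decrease under an automorphism. -/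
theorem cdm_le_cdm_map [Finite G] (φ : G ≃* G) (H : Subgroup G) :
    cdm H ≤ cdm (H.map φ.toMonoidHom) := by
  unfold cdm
  have h1 : Nat.card (H.map φ.toMonoidHom) = Nat.card H :=
    card_map_of_injective φ.injective
  have h2 : (centralizer (H : Set G)).map φ.toMonoidHom ≤
      centralizer ((H.map φ.toMonoidHom : Subgroup G) : Set G) := by
    have := map_centralizer_le_centralizer_image (H : Set G) φ.toMonoidHom
    rwa [← coe_map] at this
  have h3 : Nat.card ((centralizer (H : Set G)).map φ.toMonoidHom) =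
      Nat.card (centralizer (H : Set G)) := card_map_of_injective φ.injective
  rw [h1]
  exact Nat.mul_le_mul_left _ (h3 ▸ card_le_of_le h2)

/-- The family of subgroups of largest measure is invariant under automorphisms. -/
theorem cdl_map [Finite G] {H : Subgroup G} (hH : Cfsg.IsCentralizerLarge H) (φ : G ≃* G) :
    Cfsg.IsCentralizerLarge (H.map φ.toMonoidHom) := by
  rw [isCentralizerLarge_iff] at hH ⊢
  exact le_antisymm (cdm_le_max _) (hH ▸ cdm_le_cdm_map φ H)

/-- The family of subgroups of largest measure is invariant under conjugation. -/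
theorem cdl_conj [Finite G] {H : Subgroup G} (hH : Cfsg.IsCentralizerLarge H) (g : G) :
    Cfsg.IsCentralizerLarge (H.map (MulAut.conj g).toMonoidHom) :=
  cdl_map hH (MulAut.conj g)

/-- Membership in a conjugate. -/
theorem mem_map_conj_iff {H : Subgroup G} {g y : G} :
    y ∈ H.map (MulAut.conj g).toMonoidHom ↔ g⁻¹ * y * g ∈ H := by
  constructor
  · rintro ⟨h, hh, rfl⟩
    have : g⁻¹ * ((MulAut.conj g).toMonoidHom h) * g = h := by
      simp [MulAut.conj_apply, mul_assoc]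
    rw [this]; exact hh
  · intro hy
    refine ⟨g⁻¹ * y * g, hy, ?_⟩
    simp [MulAut.conj_apply, mul_assoc]

/-- The join of a nonempty family of subgroups of largest measure has largest measure. -/
theorem cdl_sSup [Finite G] {𝒮 : Set (Subgroup G)} (hne : 𝒮.Nonempty)
    (h : ∀ R ∈ 𝒮, Cfsg.IsCentralizerLarge R) : Cfsg.IsCentralizerLarge (sSup 𝒮) := by
  obtain ⟨R₀, hR₀⟩ := hne
  let 𝒯 : Set (Subgroup G) := {T | Cfsg.IsCentralizerLarge T ∧ T ≤ sSup 𝒮}
  have h𝒯fin : 𝒯.Finite := Set.toFinite 𝒯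
  have h𝒯ne : 𝒯.Nonempty := ⟨R₀, h R₀ hR₀, le_sSup hR₀⟩
  obtain ⟨T₀, hT₀, hmax⟩ := Set.exists_max_image 𝒯 (fun T => Nat.card T) h𝒯fin h𝒯ne
  have hle : sSup 𝒮 ≤ T₀ := by
    apply sSup_le
    intro R hR
    have h1 : Cfsg.IsCentralizerLarge (T₀ ⊔ R) := (cd_pair hT₀.1 (h R hR)).2.1
    have h2 : T₀ ⊔ R ≤ sSup 𝒮 := sup_le hT₀.2 (le_sSup hR)
    have h3 : Nat.card (T₀ ⊔ R : Subgroup G) ≤ Nat.card T₀ := hmax _ ⟨h1, h2⟩
    have h4 : T₀ = T₀ ⊔ R := Subgroup.eq_of_le_of_card_ge le_sup_left h3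
    rw [h4]; exact le_sup_right
  have : sSup 𝒮 = T₀ := le_antisymm hle hT₀.2
  rw [this]; exact hT₀.1

/-- The meet of a nonempty family of subgroups of largest measure has largest measure. -/
theorem cdl_sInf [Finite G] {𝒮 : Set (Subgroup G)} (hne : 𝒮.Nonempty)
    (h : ∀ R ∈ 𝒮, Cfsg.IsCentralizerLarge R) : Cfsg.IsCentralizerLarge (sInf 𝒮) := by
  obtain ⟨R₀, hR₀⟩ := hne
  let 𝒯 : Set (Subgroup G) := {T | Cfsg.IsCentralizerLarge T ∧ sInf 𝒮 ≤ T}
  have h𝒯fin : 𝒯.Finite := Set.toFinite 𝒯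
  have h𝒯ne : 𝒯.Nonempty := ⟨R₀, h R₀ hR₀, sInf_le hR₀⟩
  obtain ⟨T₀, hT₀, hmin⟩ := Set.exists_min_image 𝒯 (fun T => Nat.card T) h𝒯fin h𝒯ne
  have hle : T₀ ≤ sInf 𝒮 := by
    apply le_sInf
    intro R hR
    have h1 : Cfsg.IsCentralizerLarge (T₀ ⊓ R) := (cd_pair hT₀.1 (h R hR)).1
    have h2 : sInf 𝒮 ≤ T₀ ⊓ R := le_inf hT₀.2 (sInf_le hR)
    have h3 : Nat.card T₀ ≤ Nat.card (T₀ ⊓ R : Subgroup G) := hmin _ ⟨h1, h2⟩
    have h4 : T₀ ⊓ R = T₀ := Subgroup.eq_of_le_of_card_ge inf_le_left h3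
    rw [← h4]; exact inf_le_right
  have : sInf 𝒮 = T₀ := le_antisymm hT₀.2 hle
  rw [this]; exact hT₀.1

/-! ### The `X`-core of a subgroup -/

/-- The `X`-core of `B`: the elements all of whose `X`-conjugates lie in `B`. -/
def coreBy (X B : Subgroup G) : Subgroup G where
  carrier := {n | ∀ x ∈ X, x * n * x⁻¹ ∈ B}
  one_mem' := fun x _ => by simp
  mul_mem' := by
    intro a b ha hb x hx
    have : x * (a * b) * x⁻¹ = (x * a * x⁻¹) * (x * b * x⁻¹) := by group
    rw [this]; exact B.mul_mem (ha x hx) (hb x hx)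
  inv_mem' := by
    intro a ha x hx
    have : x * a⁻¹ * x⁻¹ = (x * a * x⁻¹)⁻¹ := by group
    rw [this]; exact B.inv_mem (ha x hx)

theorem mem_coreBy {X B : Subgroup G} {n : G} :
    n ∈ coreBy X B ↔ ∀ x ∈ X, x * n * x⁻¹ ∈ B := Iff.rfl

theorem coreBy_le (X B : Subgroup G) : coreBy X B ≤ B := by
  intro n hn
  have := hn 1 X.one_mem
  simpa using this

theorem coreBy_le_conj (X B : Subgroup G) {x : G} (hx : x ∈ X) :
    coreBy X B ≤ B.map (MulAut.conj x).toMonoidHom := by
  intro n hn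
  rw [mem_map_conj_iff]
  have := hn x⁻¹ (X.inv_mem hx)
  simpa using this

theorem le_normalizer_coreBy (X B : Subgroup G) : X ≤ normalizer (coreBy X B : Set G) := by
  intro x hx
  rw [mem_normalizer_iff]
  intro n
  constructor
  · intro hn y hy
    have : y * (x * n * x⁻¹) * y⁻¹ = (y * x) * n * (y * x)⁻¹ := by group
    rw [this]; exact hn _ (X.mul_mem hy hx)
  · intro hn y hy
    have : y * n * y⁻¹ = (y * x⁻¹) * (x * n * x⁻¹) * (y * x⁻¹)⁻¹ := by group
    rw [this]; exact hn _ (X.mul_mem hy (X.inv_mem hx))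

/-- An `X`-invariant subgroup of `B` lies in the `X`-core. -/
theorem le_coreBy {X B H : Subgroup G} (hHB : H ≤ B) (hX : X ≤ normalizer (H : Set G)) :
    H ≤ coreBy X B := by
  intro n hn x hx
  have := hX hx
  rw [mem_normalizer_iff] at this
  exact hHB ((this n).mp hn)

end Cfsg.Agent.Lib.Helper29
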