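import Mathlib
import Cfsg.Agent.Lib.Helper29.Extraspecial

set_option autoImplicit false

/-!
Power formula in groups of nilpotency class at most three:
with `z = [x,y]`, `a = [x,z]`, `b = [y,z]` (`a`, `b` central)
`(x y)^n = z^(C(n+1,2)) a^(C(n+1,3)) b^(2 C(n+1,3)) y^n x^n`.
-/

namespace Cfsg.Agent.Lib.Helper29

section classThree

variable {P : Type*} [Group P]

theorem cm_mul_cancel (x z : P) : cm x z * z * x = x * z := by
  simp only [cm]; group

theorem pow_mul_of_cm_central {x z : P} (hc : cm x z ∈ Subgroup.center P) (i : ℕ) :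
    x ^ i * z = (cm x z) ^ i * z * x ^ i := by
  induction i with
  | zero => simp
  | succ i ih =>
    have h1 : x * (cm x z) ^ i = (cm x z) ^ i * x :=
      Subgroup.mem_center_iff.mp (Subgroup.pow_mem _ hc i) x
    calc x ^ (i + 1) * z = x * (x ^ i * z) := by rw [pow_succ', mul_assoc]
      _ = x * ((cm x z) ^ i * z * x ^ i) := by rw [ih]
      _ = (x * (cm x z) ^ i) * z * x ^ i := by simp only [mul_assoc]
      _ = (cm x z) ^ i * (x * z) * x ^ i := by rw [h1]; simp only [mul_assoc]
      _ = (cm x z) ^ i * (cm x z * z * x) * x ^ i := by rw [cm_mul_cancel]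
      _ = (cm x z) ^ (i + 1) * z * x ^ (i + 1) := by
        rw [pow_succ, pow_succ']; simp only [mul_assoc]

theorem cm_pow_left_of_central {x z : P} (hc : cm x z ∈ Subgroup.center P) (i : ℕ) :
    cm (x ^ i) z = (cm x z) ^ i := by
  have h := pow_mul_of_cm_central hc i
  calc cm (x ^ i) z = (x ^ i * z) * (x ^ i)⁻¹ * z⁻¹ := by simp only [cm]
    _ = (cm x z) ^ i * z * x ^ i * (x ^ i)⁻¹ * z⁻¹ := by rw [h]
    _ = (cm x z) ^ i := by group

theorem pow_mul_pow_of_cm_central {y z : P} (hc : cm y z ∈ Subgroup.center P) (n m : ℕ) :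
    y ^ n * z ^ m = (cm y z) ^ (n * m) * z ^ m * y ^ n := by
  induction m with
  | zero => simp
  | succ m ih =>
    have h1 : ∀ g : P, g * (cm y z) ^ n = (cm y z) ^ n * g :=
      Subgroup.mem_center_iff.mp (Subgroup.pow_mem _ hc n)
    calc y ^ n * z ^ (m + 1) = (y ^ n * z ^ m) * z := by rw [pow_succ, mul_assoc]
      _ = (cm y z) ^ (n * m) * z ^ m * (y ^ n * z) := by rw [ih]; simp only [mul_assoc]
      _ = (cm y z) ^ (n * m) * z ^ m * ((cm y z) ^ n * z * y ^ n) := by
        rw [pow_mul_of_cm_central hc n]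
      _ = (cm y z) ^ (n * m) * (z ^ m * (cm y z) ^ n) * z * y ^ n := by simp only [mul_assoc]
      _ = (cm y z) ^ (n * m) * ((cm y z) ^ n * z ^ m) * z * y ^ n := by rw [h1]
      _ = (cm y z) ^ (n * (m + 1)) * z ^ (m + 1) * y ^ n := by
        rw [mul_add, mul_one, pow_add, pow_succ]; simp only [mul_assoc]

/-- `x^i y = z^i a^(C(i,2)) y x^i` with `z = [x,y]`, `a = [x,z]` central. -/
theorem pow_mul_classThree {x y : P} (ha : cm x (cm x y) ∈ Subgroup.center P) (i : ℕ) :
    x ^ i * y = (cm x y) ^ i * (cm x (cm x y)) ^ (i.choose 2) * y * x ^ i := by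
  induction i with
  | zero => simp
  | succ i ih =>
    have hc : ∀ (k : ℕ) (g : P), g * (cm x (cm x y)) ^ k = (cm x (cm x y)) ^ k * g := fun k =>
      Subgroup.mem_center_iff.mp (Subgroup.pow_mem _ ha k)
    have h2 : x * (cm x y) ^ i = (cm x (cm x y)) ^ i * (cm x y) ^ i * x := by
      have := pow_mul_pow_of_cm_central ha 1 i
      simpa using this
    calc x ^ (i + 1) * y = x * (x ^ i * y) := by rw [pow_succ', mul_assoc]
      _ = x * ((cm x y) ^ i * (cm x (cm x y)) ^ (i.choose 2) * y * x ^ i) := by rw [ih]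
      _ = (x * (cm x y) ^ i) * (cm x (cm x y)) ^ (i.choose 2) * y * x ^ i := by
        simp only [mul_assoc]
      _ = (cm x (cm x y)) ^ i * (cm x y) ^ i * (x * (cm x (cm x y)) ^ (i.choose 2)) * y * x ^ i := by
        rw [h2]; simp only [mul_assoc]
      _ = (cm x (cm x y)) ^ i * (cm x y) ^ i * ((cm x (cm x y)) ^ (i.choose 2) * x) * y * x ^ i := by
        rw [hc]
      _ = (cm x (cm x y)) ^ i * ((cm x y) ^ i * (cm x (cm x y)) ^ (i.choose 2)) * (x * y) * x ^ i := by
        simp only [mul_assoc]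
      _ = (cm x (cm x y)) ^ i * ((cm x (cm x y)) ^ (i.choose 2) * (cm x y) ^ i) *
            (cm x y * y * x) * x ^ i := by
        rw [hc, cm_mul_cancel]
      _ = ((cm x (cm x y)) ^ (i + i.choose 2)) * ((cm x y) ^ i * cm x y) * y * (x * x ^ i) := by
        rw [pow_add]; simp only [mul_assoc]
      _ = ((cm x y) ^ i * cm x y) * ((cm x (cm x y)) ^ (i + i.choose 2)) * y * (x * x ^ i) := by
        rw [hc]
      _ = (cm x y) ^ (i + 1) * (cm x (cm x y)) ^ ((i + 1).choose 2) * y * x ^ (i + 1) := by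
        have : (i + 1).choose 2 = i + i.choose 2 := by
          rw [Nat.choose_succ_succ' i 1, Nat.choose_one_right]
        rw [this, pow_succ, pow_succ' x]

/-- The class-three power formula. -/
theorem mul_pow_classThree {x y : P} (ha : cm x (cm x y) ∈ Subgroup.center P)
    (hb : cm y (cm x y) ∈ Subgroup.center P) (n : ℕ) :
    (x * y) ^ n = (cm x (cm x y)) ^ ((n + 1).choose 3) * (cm y (cm x y)) ^ (2 * (n + 1).choose 3) *
      ((cm x y) ^ ((n + 1).choose 2) * y ^ n * x ^ n) := by
  induction n with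
  | zero => simp [Nat.choose]
  | succ n ih =>
    have hca : ∀ (k : ℕ) (g : P), g * (cm x (cm x y)) ^ k = (cm x (cm x y)) ^ k * g := fun k =>
      Subgroup.mem_center_iff.mp (Subgroup.pow_mem _ ha k)
    have hcb : ∀ (k : ℕ) (g : P), g * (cm y (cm x y)) ^ k = (cm y (cm x y)) ^ k * g := fun k =>
      Subgroup.mem_center_iff.mp (Subgroup.pow_mem _ hb k)
    set z := cm x y with hz
    set a := cm x z with ha'
    set b := cm y z with hb'
    have e1 : x ^ (n + 1) * y = z ^ (n + 1) * a ^ ((n + 1).choose 2) * y * x ^ (n + 1) :=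
      pow_mul_classThree ha (n + 1)
    have e2 : y ^ n * z ^ (n + 1) = b ^ (n * (n + 1)) * z ^ (n + 1) * y ^ n :=
      pow_mul_pow_of_cm_central hb n (n + 1)
    have c2 : (n + 2).choose 2 = (n + 1).choose 2 + (n + 1) := by
      rw [Nat.choose_succ_succ' (n + 1) 1, Nat.choose_one_right, add_comm]
    have c3 : (n + 2).choose 3 = (n + 1).choose 3 + (n + 1).choose 2 := by
      rw [Nat.choose_succ_succ' (n + 1) 2, add_comm]
    have c4 : 2 * (n + 1).choose 2 = n * (n + 1) := by
      rw [Nat.choose_two_right, Nat.add_sub_cancel]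
      have : 2 ∣ (n + 1) * n := (Nat.even_mul_pred_self (n + 1)).two_dvd
      rw [Nat.mul_div_cancel' this, mul_comm]
    calc (x * y) ^ (n + 1) = (x * y) ^ n * (x * y) := pow_succ _ _
      _ = a ^ ((n + 1).choose 3) * b ^ (2 * (n + 1).choose 3) *
            (z ^ ((n + 1).choose 2) * y ^ n * x ^ n) * (x * y) := by rw [ih]
      _ = a ^ ((n + 1).choose 3) * b ^ (2 * (n + 1).choose 3) *
            (z ^ ((n + 1).choose 2) * y ^ n * (x ^ (n + 1) * y)) := by
        rw [pow_succ x n]; simp only [mul_assoc]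
      _ = a ^ ((n + 1).choose 3) * b ^ (2 * (n + 1).choose 3) *
            (z ^ ((n + 1).choose 2) * (y ^ n * z ^ (n + 1)) * a ^ ((n + 1).choose 2) * y * x ^ (n + 1)) := by
        rw [e1]; simp only [mul_assoc]
      _ = a ^ ((n + 1).choose 3) * b ^ (2 * (n + 1).choose 3) *
            (z ^ ((n + 1).choose 2) * (b ^ (n * (n + 1)) * z ^ (n + 1) * y ^ n) *
              a ^ ((n + 1).choose 2) * y * x ^ (n + 1)) := by
        rw [e2]
      _ = a ^ ((n + 1).choose 3) * b ^ (2 * (n + 1).choose 3) *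
            ((z ^ ((n + 1).choose 2) * b ^ (n * (n + 1))) * z ^ (n + 1) * (y ^ n *
              a ^ ((n + 1).choose 2)) * y * x ^ (n + 1)) := by
        simp only [mul_assoc]
      _ = a ^ ((n + 1).choose 3) * b ^ (2 * (n + 1).choose 3) *
            ((b ^ (n * (n + 1)) * z ^ ((n + 1).choose 2)) * z ^ (n + 1) *
              (a ^ ((n + 1).choose 2) * y ^ n) * y * x ^ (n + 1)) := by
        rw [hcb (n * (n + 1)) (z ^ ((n + 1).choose 2)), hca ((n + 1).choose 2) (y ^ n)]
      _ = a ^ ((n + 1).choose 3) * b ^ (2 * (n + 1).choose 3) * b ^ (n * (n + 1)) *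
            ((z ^ ((n + 1).choose 2) * z ^ (n + 1)) * a ^ ((n + 1).choose 2)) * (y ^ n * y) *
              x ^ (n + 1) := by
        simp only [mul_assoc]
      _ = a ^ ((n + 1).choose 3) * b ^ (2 * (n + 1).choose 3) * b ^ (n * (n + 1)) *
            (a ^ ((n + 1).choose 2) * (z ^ ((n + 1).choose 2) * z ^ (n + 1))) * (y ^ n * y) *
              x ^ (n + 1) := by
        rw [hca]
      _ = a ^ ((n + 1).choose 3) * (b ^ (2 * (n + 1).choose 3 + n * (n + 1)) *
            a ^ ((n + 1).choose 2)) * (z ^ ((n + 1).choose 2) * z ^ (n + 1)) * (y ^ n * y) *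
              x ^ (n + 1) := by
        rw [pow_add b]; simp only [mul_assoc]
      _ = a ^ ((n + 1).choose 3) * (a ^ ((n + 1).choose 2) *
            b ^ (2 * (n + 1).choose 3 + n * (n + 1))) * (z ^ ((n + 1).choose 2) * z ^ (n + 1)) *
              (y ^ n * y) * x ^ (n + 1) := by
        rw [hca]
      _ = a ^ ((n + 1 + 1).choose 3) * b ^ (2 * (n + 1 + 1).choose 3) *
            (z ^ ((n + 1 + 1).choose 2) * y ^ (n + 1) * x ^ (n + 1)) := by
        have c5 : 2 * (n + 2).choose 3 = 2 * (n + 1).choose 3 + n * (n + 1) := by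
          rw [c3, mul_add, c4]
        rw [show n + 1 + 1 = n + 2 from rfl, c2, c5, c3, pow_add a, pow_add z ((n + 1).choose 2) (n + 1), pow_succ y]
        simp only [mul_assoc]

theorem prime_dvd_choose_succ_two {p : ℕ} (hp : p.Prime) (h2 : 2 < p) : p ∣ (p + 1).choose 2 := by
  rw [Nat.choose_succ_succ' p 1]
  exact dvd_add (hp.dvd_choose_self (by norm_num) (by omega)) (hp.dvd_choose_self (by norm_num) h2)

theorem prime_dvd_choose_succ_three {p : ℕ} (hp : p.Prime) (h3 : 3 < p) : p ∣ (p + 1).choose 3 := by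
  rw [Nat.choose_succ_succ' p 2]
  exact dvd_add (hp.dvd_choose_self (by norm_num) (by omega)) (hp.dvd_choose_self (by norm_num) h3)

theorem pow_eq_one_of_dvd' {g : P} {p k : ℕ} (hg : g ^ p = 1) (hk : p ∣ k) : g ^ k = 1 := by
  obtain ⟨m, rfl⟩ := hk
  rw [pow_mul, hg, one_pow]

/-- `(x y)^p = y^p x^p` when `z`, `a`, `b` have order dividing `p > 3`. -/
theorem mul_pow_prime_classThree {p : ℕ} (hp : p.Prime) (h3 : 3 < p) {x y : P}
    (ha : cm x (cm x y) ∈ Subgroup.center P) (hb : cm y (cm x y) ∈ Subgroup.center P)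
    (hz1 : (cm x y) ^ p = 1) (ha1 : (cm x (cm x y)) ^ p = 1) (hb1 : (cm y (cm x y)) ^ p = 1) :
    (x * y) ^ p = y ^ p * x ^ p := by
  rw [mul_pow_classThree ha hb p]
  have d2 := prime_dvd_choose_succ_two hp (by omega)
  have d3 := prime_dvd_choose_succ_three hp h3
  rw [pow_eq_one_of_dvd' ha1 d3, pow_eq_one_of_dvd' hb1 (dvd_mul_of_dvd_right d3 2),
    pow_eq_one_of_dvd' hz1 d2]
  simp

/-- products of elements of order dividing `p > 3` have order dividing `p` in class three -/
theorem mul_pow_prime_eq_one_classThree {p : ℕ} (hp : p.Prime) (h3 : 3 < p) {x y : P}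
    (ha : cm x (cm x y) ∈ Subgroup.center P) (hb : cm y (cm x y) ∈ Subgroup.center P)
    (hx : x ^ p = 1) (hy : y ^ p = 1) : (x * y) ^ p = 1 := by
  have ha1 : (cm x (cm x y)) ^ p = 1 := by
    rw [← cm_pow_left_of_central ha p, hx, cm_one_left]
  have hb1 : (cm y (cm x y)) ^ p = 1 := by
    rw [← cm_pow_left_of_central hb p, hy, cm_one_left]
  have hz1 : (cm x y) ^ p = 1 := by
    have h := pow_mul_classThree ha p
    rw [hx, pow_eq_one_of_dvd' ha1 (hp.dvd_choose_self (by norm_num) (by omega : 2 < p))] at h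
    simpa using h.symm
  rw [mul_pow_prime_classThree hp h3 ha hb hz1 ha1 hb1, hx, hy, one_mul]

open scoped commutatorElement in
/-- in class at most three, `[x, z]` is central for `z` in the derived subgroup -/
theorem cm_mem_center_of_classThree {R : Type*} [Group R]
    (hcl : ⁅⁅commutator R, (⊤ : Subgroup R)⁆, (⊤ : Subgroup R)⁆ = ⊥) (x z : R)
    (hz : z ∈ commutator R) : cm x z ∈ Subgroup.center R := by
  have h1 : ⁅z, x⁆ ∈ ⁅commutator R, (⊤ : Subgroup R)⁆ :=
    Subgroup.commutator_mem_commutator hz (Subgroup.mem_top x)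
  have h2 : cm x z = ⁅z, x⁆⁻¹ := by
    rw [commutatorElement_def]; simp only [cm]; group
  have h3 : ⁅commutator R, (⊤ : Subgroup R)⁆ ≤ Subgroup.center R := by
    have := Subgroup.commutator_eq_bot_iff_le_centralizer.mp hcl
    rwa [Subgroup.coe_top, Subgroup.centralizer_univ] at this
  rw [h2]
  exact Subgroup.inv_mem _ (h3 h1)

/-- `Ω₁` has exponent `p` in class at most three, `p > 3`. -/
theorem pow_prime_eq_one_of_mem_closure_classThree {R : Type*} [Group R] {p : ℕ} (hpp : p.Prime)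
    (hp : 3 < p) (hcl : ⁅⁅commutator R, (⊤ : Subgroup R)⁆, (⊤ : Subgroup R)⁆ = ⊥) (g : R)
    (hg : g ∈ Subgroup.closure {x : R | x ^ p = 1}) : g ^ p = 1 := by
  induction hg using Subgroup.closure_induction with
  | mem x hx => exact hx
  | one => exact one_pow p
  | mul x y _ _ hx hy =>
    exact mul_pow_prime_eq_one_classThree hpp hp
      (cm_mem_center_of_classThree hcl x _ (cm_mem_commutator x y))
      (cm_mem_center_of_classThree hcl y _ (cm_mem_commutator x y)) hx hy
  | inv x _ hx => rw [inv_pow, hx, inv_one]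

end classThree

end Cfsg.Agent.Lib.Helper29
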