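import Mathlib
import Cfsg.Agent.Lib.Helper29.SympTools

set_option autoImplicit false

/-!
Character form of the abstract duality, and the double-centralizer property.
-/

namespace Cfsg.Agent.Lib.Helper29

section duality

variable {P A : Type*} [Group P] [Finite P] [Group A]

omit [Finite P] in
/-- commutators are central in the presence of a nondegenerate pairing into a commutative
target -/
theorem cm_mem_center_of_pairing (β : P → P → A)
    (hβr : ∀ x q q', β x (q * q') = β x q * β x q')
    (hβ1 : ∀ x q, β x q = 1 ↔ q * x = x * q)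
    (j : A →* ℂˣ) (hj : Function.Injective j) (a b : P) : cm a b ∈ Subgroup.center P := by
  rw [Subgroup.mem_center_iff]
  intro g
  have hone : β g 1 = 1 := (hβ1 g 1).2 (by simp)
  have hinv : ∀ q, β g q⁻¹ = (β g q)⁻¹ := by
    intro q
    have := hβr g q q⁻¹
    rw [mul_inv_cancel, hone] at this
    exact eq_inv_of_mul_eq_one_right this.symm
  have h1 : j (β g (cm a b)) = 1 := by
    simp only [cm, hβr, hinv, map_mul, map_inv]
    rw [mul_comm (j (β g a)) (j (β g b))]
    simp
  have h2 : β g (cm a b) = 1 := hj (by rw [h1, map_one])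
  exact ((hβ1 g (cm a b)).1 h2).symm

/-- **Abstract duality, character form**: every complex character killing the centre is
`q ↦ j (β x q)`. -/
theorem duality_char (β : P → P → A)
    (hβl : ∀ x y q, β (x * y) q = β x q * β y q)
    (hβr : ∀ x q q', β x (q * q') = β x q * β x q')
    (hβ1 : ∀ x q, β x q = 1 ↔ q * x = x * q)
    (j : A →* ℂˣ) (hj : Function.Injective j)
    (φ : P →* ℂˣ) (hφ : ∀ q ∈ Subgroup.center P, φ q = 1) :
    ∃ x : P, ∀ q, φ q = j (β x q) := by
  classical
  let χ : P → (P →* ℂˣ) := fun x =>
    { toFun := fun q => j (β x q)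
      map_one' := by
        have : β x 1 = 1 := (hβ1 x 1).2 (by simp)
        rw [this, map_one]
      map_mul' := fun q q' => by rw [hβr, map_mul] }
  have hχ : ∀ x q, χ x q = j (β x q) := fun x q => rfl
  have hχ1 : ∀ x q, χ x q = 1 ↔ q * x = x * q := by
    intro x q
    rw [hχ, ← hβ1]
    constructor
    · intro h; apply hj; rw [h, map_one]
    · intro h; rw [h, map_one]
  have hcen : ∀ a b : P, cm a b ∈ Subgroup.center P :=
    cm_mem_center_of_pairing β hβr hβ1 j hj
  let instQ : CommGroup (P ⧸ Subgroup.center P) :=
    { (inferInstance : Group (P ⧸ Subgroup.center P)) with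
      mul_comm := by
        intro a b
        induction a using QuotientGroup.induction_on with
        | H a =>
          induction b using QuotientGroup.induction_on with
          | H b =>
            rw [← QuotientGroup.mk_mul, ← QuotientGroup.mk_mul, QuotientGroup.eq]
            have : (a * b)⁻¹ * (b * a) = cm b⁻¹ a⁻¹ := by simp only [cm]; group
            rw [this]
            exact hcen _ _ }
  have hker : ∀ x : P, Subgroup.center P ≤ (χ x).ker := by
    intro x q hq
    rw [MonoidHom.mem_ker, hχ1]
    exact (Subgroup.mem_center_iff.1 hq x).symm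
  let Ψ : P →* ((P ⧸ Subgroup.center P) →* ℂˣ) :=
    { toFun := fun x => QuotientGroup.lift (Subgroup.center P) (χ x) (hker x)
      map_one' := by
        apply MonoidHom.ext
        intro q
        induction q using QuotientGroup.induction_on with
        | H q =>
          have : χ 1 q = 1 := (hχ1 1 q).2 (by simp)
          simpa using this
      map_mul' := fun x y => by
        apply MonoidHom.ext
        intro q
        induction q using QuotientGroup.induction_on with
        | H q =>
          simp only [QuotientGroup.lift_mk, MonoidHom.mul_apply]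
          rw [hχ, hχ, hχ, hβl, map_mul] }
  have hΨ : ∀ x q, Ψ x (QuotientGroup.mk q) = χ x q := fun x q => rfl
  have hΨker : Ψ.ker = Subgroup.center P := by
    ext x
    rw [MonoidHom.mem_ker, Subgroup.mem_center_iff]
    constructor
    · intro h g
      have h1 : Ψ x (QuotientGroup.mk g) = 1 := by rw [h]; rfl
      rw [hΨ] at h1
      exact ((hχ1 x g).1 h1)
    · intro h
      apply MonoidHom.ext
      intro q
      induction q using QuotientGroup.induction_on with
      | H q =>
        rw [hΨ, (hχ1 x q).2 (h q)]; rfl
  have hcard1 : Nat.card ((P ⧸ Subgroup.center P) →* ℂˣ) = Nat.card (P ⧸ Subgroup.center P) :=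
    CommGroup.card_monoidHom_of_hasEnoughRootsOfUnity (P ⧸ Subgroup.center P) ℂ
  have hcard2 : Nat.card Ψ.range = (Subgroup.center P).index := by
    have := Subgroup.index_ker Ψ
    rw [hΨker] at this
    exact this.symm
  have hrange : Ψ.range = ⊤ := by
    rw [← Subgroup.card_eq_iff_eq_top, hcard2, hcard1]; rfl
  have hφker : Subgroup.center P ≤ φ.ker := by
    intro q hq
    rw [MonoidHom.mem_ker]; exact hφ q hq
  obtain ⟨x, hx⟩ : QuotientGroup.lift (Subgroup.center P) φ hφker ∈ Ψ.range := by
    rw [hrange]; exact Subgroup.mem_top _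
  refine ⟨x, fun q => ?_⟩
  have h1 : Ψ x (QuotientGroup.mk q) = φ q := by rw [hx]; rfl
  rw [hΨ, hχ] at h1
  exact h1.symm

/-- **Double centralizer**: a subgroup `D` containing the centre contains every element
centralizing the centralizer of `D`. -/
theorem mem_of_commute_centralizer {p : ℕ} [hp : Fact p.Prime] (hA : Nat.card A = p)
    (β : P → P → A)
    (hβl : ∀ x y q, β (x * y) q = β x q * β y q)
    (hβr : ∀ x q q', β x (q * q') = β x q * β x q')
    (hβ1 : ∀ x q, β x q = 1 ↔ q * x = x * q)
    (D : Subgroup P) (hD : Subgroup.center P ≤ D) (x : P)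
    (hx : ∀ y : P, (∀ d ∈ D, y * d = d * y) → x * y = y * x) : x ∈ D := by
  classical
  obtain ⟨j, hj⟩ := exists_injective_hom_complex (p := p) A hA
  have hcen : ∀ a b : P, cm a b ∈ Subgroup.center P :=
    cm_mem_center_of_pairing β hβr hβ1 j hj
  haveI hDn : D.Normal := by
    constructor
    intro d hd g
    rw [conj_eq_cm_mul]
    exact D.mul_mem (hD (hcen g d)) hd
  by_contra hxD
  let instQ : CommGroup (P ⧸ D) :=
    { (inferInstance : Group (P ⧸ D)) with
      mul_comm := by
        intro a b
        induction a using QuotientGroup.induction_on with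
        | H a =>
          induction b using QuotientGroup.induction_on with
          | H b =>
            rw [← QuotientGroup.mk_mul, ← QuotientGroup.mk_mul, QuotientGroup.eq]
            have : (a * b)⁻¹ * (b * a) = cm b⁻¹ a⁻¹ := by simp only [cm]; group
            rw [this]
            exact hD (hcen _ _) }
  have hne : (QuotientGroup.mk x : P ⧸ D) ≠ 1 := by
    intro h
    exact hxD ((QuotientGroup.eq_one_iff x).1 h)
  obtain ⟨φ, hφ⟩ := CommGroup.exists_apply_ne_one_of_hasEnoughRootsOfUnity (P ⧸ D) ℂ hne
  have hφD : ∀ d ∈ D, φ.comp (QuotientGroup.mk' D) d = 1 := by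
    intro d hd
    rw [MonoidHom.comp_apply, QuotientGroup.mk'_apply, (QuotientGroup.eq_one_iff d).2 hd, map_one]
  obtain ⟨y, hy⟩ := duality_char β hβl hβr hβ1 j hj (φ.comp (QuotientGroup.mk' D))
    (fun q hq => hφD q (hD hq))
  have hyD : ∀ d ∈ D, y * d = d * y := by
    intro d hd
    have h1 := hy d
    rw [hφD d hd] at h1
    have h2 : β y d = 1 := hj (by rw [← h1, map_one])
    exact ((hβ1 y d).1 h2).symm
  have hxy := hx y hyD
  have h3 : β y x = 1 := (hβ1 y x).2 hxy
  apply hφ
  have h4 := hy x
  rw [h3, map_one] at h4
  exact h4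

end duality

end Cfsg.Agent.Lib.Helper29
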