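import Mathlib
import Cfsg.Agent.Lib.Helper29.ExtraTwo
import Cfsg.Agent.Lib.Helper29.DualityDC
import Cfsg.Agent.Lib.Helper29.SympHallB

set_option autoImplicit false

/-!
An involutory automorphism `σ` of an extraspecial `2`-group `P`: the commutator subgroup
`[P, σ]` is the centre of the preimage `Q₀` of the fixed points of `σ` on `P / Z(P)`.
-/

namespace Cfsg.Agent.Lib.Helper29

namespace IsE2

variable {P : Type*} [Group P] {z : P} (h : IsE2 P z)
include h

/-- automorphisms fix the central involution -/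
theorem map_z (σ : P ≃* P) : σ z = z := by
  have h1 : σ z ∈ Subgroup.center P := by
    rw [Subgroup.mem_center_iff]
    intro g
    have := h.zcomm (σ.symm g)
    have h2 := congrArg σ this
    simpa using h2
  rcases h.all _ h1 with h2 | h2
  · exfalso
    apply h.ne
    have : σ z = σ 1 := by rw [h2, map_one]
    exact σ.injective this
  · exact h2

theorem map_cm (σ : P ≃* P) (a b : P) : cm (σ a) (σ b) = cm a b := by
  have h1 : σ (cm a b) = cm (σ a) (σ b) := by simp only [cm, map_mul, map_inv]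
  rw [← h1]
  rcases h.cm_cases a b with h2 | h2
  · rw [h2, map_one]
  · rw [h2, h.map_z]

/-- the symmetry `[[σ,y], q] = [y, [σ,q]]` for an involutory automorphism -/
theorem cm_comm_swap (σ : P ≃* P) (hσ2 : ∀ q, σ (σ q) = q) (y q : P) :
    cm (σ y * y⁻¹) q = cm y (σ q * q⁻¹) := by
  rw [cm_mul_left (σ y) y⁻¹ q (cm_comm h.comm _ _), cm_mul_right y (σ q) q⁻¹ (cm_comm h.comm _ _),
    cm_inv_left h.comm, cm_inv_right h.comm]
  congr 1
  have := h.map_cm σ y (σ q)
  rw [hσ2] at this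
  exact this

/-- **the commutator of an involutory automorphism**: `[P, σ] = Z(Q₀)` -/
theorem mem_closure_comm_iff [Finite P] (σ : P ≃* P) (hσ2 : ∀ q, σ (σ q) = q)
    (hne : ∃ q, σ q ≠ q) (x : P) :
    x ∈ Subgroup.closure {y | ∃ q, y = σ q * q⁻¹} ↔
      (σ x * x⁻¹ = 1 ∨ σ x * x⁻¹ = z) ∧
        ∀ q, (σ q * q⁻¹ = 1 ∨ σ q * q⁻¹ = z) → x * q = q * x := by
  classical
  haveI : Fact (Nat.Prime 2) := ⟨Nat.prime_two⟩
  have hcen_iff : ∀ w : P, (w = 1 ∨ w = z) ↔ w ∈ Subgroup.center P := by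
    intro w
    constructor
    · rintro (rfl | rfl)
      · exact Subgroup.one_mem _
      · exact h.mem
    · exact h.all w
  -- Q₀ as a subgroup
  let Q0 : Subgroup P :=
    { carrier := {q | σ q * q⁻¹ ∈ Subgroup.center P}
      one_mem' := by simp
      mul_mem' := by
        intro a b ha hb
        have h1 : σ (a * b) * (a * b)⁻¹ = σ a * (σ b * b⁻¹) * a⁻¹ := by
          rw [map_mul]; group
        have h2 : σ a * (σ b * b⁻¹) = (σ b * b⁻¹) * σ a := Subgroup.mem_center_iff.1 hb (σ a)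
        show σ (a * b) * (a * b)⁻¹ ∈ Subgroup.center P
        rw [h1, h2, mul_assoc]
        exact Subgroup.mul_mem _ hb ha
      inv_mem' := by
        intro a ha
        have h1 : σ a⁻¹ * a⁻¹⁻¹ = a⁻¹ * (σ a * a⁻¹)⁻¹ * a := by
          rw [map_inv]; group
        have h2 : a⁻¹ * (σ a * a⁻¹)⁻¹ = (σ a * a⁻¹)⁻¹ * a⁻¹ :=
          Subgroup.mem_center_iff.1 (Subgroup.inv_mem _ ha) a⁻¹
        show σ a⁻¹ * a⁻¹⁻¹ ∈ Subgroup.center P
        rw [h1, h2, mul_assoc, inv_mul_cancel, mul_one]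
        exact Subgroup.inv_mem _ ha }
  have hQ0mem : ∀ q, q ∈ Q0 ↔ σ q * q⁻¹ ∈ Subgroup.center P := fun q => Iff.rfl
  set D : Subgroup P := Subgroup.closure {y | ∃ q, y = σ q * q⁻¹} with hD
  have hgen : ∀ q, σ q * q⁻¹ ∈ D := fun q => Subgroup.subset_closure ⟨q, rfl⟩
  -- (i) D ≤ Q₀
  have hDQ0 : D ≤ Q0 := by
    rw [hD, Subgroup.closure_le]
    rintro _ ⟨q, rfl⟩
    show σ (σ q * q⁻¹) * (σ q * q⁻¹)⁻¹ ∈ Subgroup.center P
    have h1 : σ (σ q * q⁻¹) * (σ q * q⁻¹)⁻¹ = (σ q * q⁻¹)⁻¹ * (σ q * q⁻¹)⁻¹ := by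
      rw [map_mul, map_inv, hσ2]; group
    rw [h1]
    exact h.sq_mem_center _
  -- (ii) D centralizes Q₀
  have hDcent : ∀ q0 ∈ Q0, ∀ d ∈ D, d * q0 = q0 * d := by
    intro q0 hq0
    apply commute_closure
    rintro _ ⟨y, rfl⟩
    rw [← cm_eq_one_iff, h.cm_comm_swap σ hσ2 y q0, cm_eq_one_iff]
    exact (Subgroup.mem_center_iff.1 ((hQ0mem q0).1 hq0) y)
  -- (iii) z ∈ D
  have hzD : z ∈ D := by
    obtain ⟨q, hq⟩ := hne
    have hq1 : σ q * q⁻¹ ≠ 1 := by
      intro h1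
      apply hq
      rw [mul_inv_eq_one] at h1
      exact h1
    by_cases hc : σ q * q⁻¹ ∈ Subgroup.center P
    · rcases h.all _ hc with h1 | h1
      · exact absurd h1 hq1
      · rw [← h1]; exact hgen q
    · rw [Subgroup.mem_center_iff] at hc
      push Not at hc
      obtain ⟨g, hg⟩ := hc
      have h1 := h.cm_eq_z hg
      have h2 : cm g (σ q * q⁻¹) = (σ g * g⁻¹)⁻¹ * (σ (g * q) * (g * q)⁻¹) * (σ q * q⁻¹)⁻¹ := by
        simp only [cm, map_mul]; group
      rw [← h1, h2]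
      exact D.mul_mem (D.mul_mem (D.inv_mem (hgen g)) (hgen (g * q))) (D.inv_mem (hgen q))
  have hcenD : Subgroup.center P ≤ D := by
    intro w hw
    rcases h.all w hw with rfl | rfl
    · exact D.one_mem
    · exact hzD
  -- (iv) C_P(D) ≤ Q₀
  have hCD : ∀ y : P, (∀ d ∈ D, y * d = d * y) → y ∈ Q0 := by
    intro y hy
    rw [hQ0mem, Subgroup.mem_center_iff]
    intro q
    have h1 : cm (σ y * y⁻¹) q = 1 := by
      rw [h.cm_comm_swap σ hσ2 y q, cm_eq_one_iff]
      exact hy _ (hgen q)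
    exact ((cm_eq_one_iff _ _).1 h1).symm
  constructor
  · intro hx
    refine ⟨(hcen_iff _).2 ((hQ0mem x).1 (hDQ0 hx)), ?_⟩
    intro q hq
    exact hDcent q ((hQ0mem q).2 ((hcen_iff _).1 hq)) x hx
  · rintro ⟨-, hx⟩
    refine mem_of_commute_centralizer (p := 2) h.card_center
      (fun x q => pairHom h.comm x q) ?_ ?_ ?_ D hcenD x ?_
    · intro a b q; exact pairHom_mul h.comm a b q
    · intro a q q'; exact map_mul (pairHom h.comm a) q q'
    · intro a q; exact pairHom_eq_one_iff h.comm a q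
    · intro y hy
      have hyQ0 := hCD y hy
      exact hx y ((hcen_iff _).2 ((hQ0mem y).1 hyQ0))

end IsE2

end Cfsg.Agent.Lib.Helper29
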