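import Mathlib
import Cfsg.Agent.Lib.Helper29.ExtraTwoClass
import Cfsg.Agent.Lib.Helper29.ExtraTwoInvol

set_option autoImplicit false

/-!
Griess' theorem: for an extraspecial `2`-group `P` of order at least `2 ^ 7` the group of inner
automorphisms has no complement in `Aut P`.

The witness: four pairwise commuting elements `a₁, a₂, a₃, a₄ = a₁ a₂ a₃` of square `z`.  The
"reflection" `σ_a : x ↦ x` (if `x` commutes with `a`), `x ↦ x a` (otherwise) is an automorphism.
Lifts `ρᵢ` of the `σ_{aᵢ}` inside a complement would be pairwise commuting involutions, forcing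
`ρ₁ aⱼ = aⱼ` for `j ≠ 1` and `ρ₁ a₁ = a₁⁻¹`, against `ρ₁ (a₁ a₂ a₃ a₄) = a₁ a₂ a₃ a₄` (a central
element).
-/

namespace Cfsg.Agent.Lib.Helper29

open Classical in
/-- the reflection in `a`: `x ↦ x` if `x` commutes with `a`, `x ↦ x * a` otherwise -/
noncomputable def reflFun {P : Type*} [Group P] (a x : P) : P :=
  if x * a = a * x then x else x * a

theorem reflFun_of_comm {P : Type*} [Group P] {a x : P} (hx : x * a = a * x) :
    reflFun a x = x := by
  unfold reflFun; rw [if_pos hx]

theorem reflFun_of_not_comm {P : Type*} [Group P] {a x : P} (hx : x * a ≠ a * x) :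
    reflFun a x = x * a := by
  unfold reflFun; rw [if_neg hx]

/-- `reflFun a x` commutes with `a` exactly when `x` does -/
theorem reflFun_comm_iff {P : Type*} [Group P] (a x : P) :
    reflFun a x * a = a * reflFun a x ↔ x * a = a * x := by
  by_cases hx : x * a = a * x
  · rw [reflFun_of_comm hx]
  · rw [reflFun_of_not_comm hx]
    constructor
    · intro e
      have : x * a = a * x := by
        have e2 : x * a * a = a * x * a := by rw [e, mul_assoc]
        exact mul_right_cancel e2
      exact this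
    · intro e
      exact absurd e hx

/-- `reflFun a⁻¹` undoes `reflFun a` -/
theorem reflFun_inv_reflFun {P : Type*} [Group P] (a x : P) :
    reflFun a⁻¹ (reflFun a x) = x := by
  by_cases hx : x * a = a * x
  · rw [reflFun_of_comm hx]
    have hx' : x * a⁻¹ = a⁻¹ * x := by
      calc x * a⁻¹ = a⁻¹ * (a * x) * a⁻¹ := by group
        _ = a⁻¹ * (x * a) * a⁻¹ := by rw [hx]
        _ = a⁻¹ * x := by group
    exact reflFun_of_comm hx'
  · rw [reflFun_of_not_comm hx]
    have hx' : x * a * a⁻¹ ≠ a⁻¹ * (x * a) := by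
      intro e
      apply hx
      calc x * a = a * (x * a * a⁻¹) := by rw [e]; group
        _ = a * x := by group
    rw [reflFun_of_not_comm hx']
    group

/-- `ρ` agrees with the reflection in `a` modulo the centre -/
def IsReflLift {P : Type*} [Group P] (ρ : P ≃* P) (a : P) : Prop :=
  ∀ x, ∃ c ∈ Subgroup.center P, ρ x = reflFun a x * c

theorem mul_center_mul_inv {P : Type*} [Group P] {c : P} (hc : c ∈ Subgroup.center P) (x : P) :
    x * c * x⁻¹ = c := by
  rw [Subgroup.mem_center_iff.1 hc x]; group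

namespace IsE2

variable {P : Type*} [Group P] {z : P} (h : IsE2 P z)
include h

theorem mem_center_iff' (w : P) : w ∈ Subgroup.center P ↔ w = 1 ∨ w = z := by
  constructor
  · exact h.all w
  · rintro (rfl | rfl)
    · exact Subgroup.one_mem _
    · exact h.mem

/-- automorphisms fix the centre pointwise -/
theorem map_center (σ : P ≃* P) {c : P} (hc : c ∈ Subgroup.center P) : σ c = c := by
  rcases h.all c hc with rfl | rfl
  · exact map_one σ
  · exact h.map_z σ

theorem center_mul_self {c : P} (hc : c ∈ Subgroup.center P) : c * c = 1 := by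
  rcases h.all c hc with rfl | rfl
  · exact mul_one 1
  · exact h.sq

theorem cm_symm (a b : P) : cm a b = cm b a := by
  by_cases hab : a * b = b * a
  · rw [(cm_eq_one_iff a b).2 hab, (cm_eq_one_iff b a).2 hab.symm]
  · rw [h.cm_eq_z hab, h.cm_eq_z (fun e => hab e.symm)]

/-- an element of square `z` is not central -/
theorem exists_not_comm_of_sq {a : P} (ha : a * a = z) : ∃ x : P, x * a ≠ a * x := by
  by_contra hcon
  push Not at hcon
  have hc : a ∈ Subgroup.center P := Subgroup.mem_center_iff.2 hcon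
  have := h.center_mul_self hc
  rw [ha] at this
  exact h.ne this

/-- the reflection is multiplicative -/
theorem reflFun_mul {a : P} (ha : a * a = z) (x y : P) :
    reflFun a (x * y) = reflFun a x * reflFun a y := by
  by_cases hx : x * a = a * x
  · by_cases hy : y * a = a * y
    · have hxy : x * y * a = a * (x * y) := by
        calc x * y * a = x * (y * a) := by group
          _ = x * (a * y) := by rw [hy]
          _ = (x * a) * y := by group
          _ = (a * x) * y := by rw [hx]
          _ = a * (x * y) := by group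
      rw [reflFun_of_comm hx, reflFun_of_comm hy, reflFun_of_comm hxy]
    · have hxy : x * y * a ≠ a * (x * y) := by
        intro e
        apply hy
        calc y * a = x⁻¹ * (x * y * a) := by group
          _ = x⁻¹ * (a * (x * y)) := by rw [e]
          _ = x⁻¹ * (a * x) * y := by group
          _ = x⁻¹ * (x * a) * y := by rw [hx]
          _ = a * y := by group
      rw [reflFun_of_comm hx, reflFun_of_not_comm hy, reflFun_of_not_comm hxy, mul_assoc]
  · by_cases hy : y * a = a * y
    · have hxy : x * y * a ≠ a * (x * y) := by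
        intro e
        apply hx
        calc x * a = x * (y * a) * y⁻¹ := by
              rw [hy]; group
          _ = (x * y * a) * y⁻¹ := by group
          _ = (a * (x * y)) * y⁻¹ := by rw [e]
          _ = a * x := by group
      rw [reflFun_of_not_comm hx, reflFun_of_comm hy, reflFun_of_not_comm hxy, mul_assoc, hy,
        mul_assoc]
    · have e1 := h.mul_eq_z_mul hx
      have e2 := h.mul_eq_z_mul hy
      have hxy : x * y * a = a * (x * y) := by
        calc x * y * a = x * (y * a) := by group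
          _ = x * (z * (a * y)) := by rw [e2]
          _ = (x * z) * (a * y) := by group
          _ = (z * x) * (a * y) := by rw [h.zcomm x]
          _ = z * (x * a) * y := by group
          _ = z * (z * (a * x)) * y := by rw [e1]
          _ = (z * z) * (a * (x * y)) := by group
          _ = a * (x * y) := by rw [h.sq, one_mul]
      rw [reflFun_of_not_comm hx, reflFun_of_not_comm hy, reflFun_of_comm hxy]
      symm
      calc x * a * (y * a) = x * a * (z * (a * y)) := by rw [e2]
        _ = x * (a * z) * (a * y) := by group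
        _ = x * (z * a) * (a * y) := by rw [h.zcomm a]
        _ = (x * z) * (a * a) * y := by group
        _ = (z * x) * z * y := by rw [h.zcomm x, ha]
        _ = z * (x * z) * y := by group
        _ = z * (z * x) * y := by rw [h.zcomm x]
        _ = (z * z) * (x * y) := by group
        _ = x * y := by rw [h.sq, one_mul]


/-- the reflection in an element of square `z`, as an automorphism -/
noncomputable def reflEquiv {a : P} (ha : a * a = z) : P ≃* P where
  toFun := reflFun a
  invFun := reflFun a⁻¹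
  left_inv := reflFun_inv_reflFun a
  right_inv := fun x => by
    have := reflFun_inv_reflFun a⁻¹ x
    rwa [inv_inv] at this
  map_mul' := h.reflFun_mul ha

theorem reflEquiv_apply {a : P} (ha : a * a = z) (x : P) : h.reflEquiv ha x = reflFun a x := rfl

/-- an automorphism acting trivially modulo the centre is inner -/
theorem inner_of_mod_center [Finite P] (hcomm : commutator P = Subgroup.center P) (ρ : P ≃* P)
    (hρ : ∀ x, ρ x * x⁻¹ ∈ Subgroup.center P) : ∃ u : P, ∀ x, ρ x = u * x * u⁻¹ := by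
  have : Fact (Nat.Prime 2) := ⟨Nat.prime_two⟩
  let lam : P →* ↥(Subgroup.center P) :=
    { toFun := fun x => ⟨ρ x * x⁻¹, hρ x⟩
      map_one' := by
        apply Subtype.ext
        simp
      map_mul' := fun x y => by
        apply Subtype.ext
        have hc := Subgroup.mem_center_iff.1 (hρ y)
        show ρ (x * y) * (x * y)⁻¹ = (ρ x * x⁻¹) * (ρ y * y⁻¹)
        rw [map_mul]
        calc ρ x * ρ y * (x * y)⁻¹ = ρ x * (ρ y * y⁻¹) * x⁻¹ := by group
          _ = ρ x * (x⁻¹ * (ρ y * y⁻¹)) := by rw [mul_assoc, hc x⁻¹]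
          _ = (ρ x * x⁻¹) * (ρ y * y⁻¹) := by group }
  obtain ⟨u, hu⟩ := exists_eq_cm_of_hom (p := 2) h.card_center hcomm lam
  refine ⟨u, fun x => ?_⟩
  have h1 : ρ x * x⁻¹ = cm x u := hu x
  rw [h.cm_symm] at h1
  calc ρ x = (ρ x * x⁻¹) * x := by group
    _ = cm u x * x := by rw [h1]
    _ = u * x * u⁻¹ := by simp only [cm]; group

theorem reflFun_reflFun {a : P} (ha : a * a = z) (x : P) :
    ∃ c ∈ Subgroup.center P, reflFun a (reflFun a x) = x * c := by
  by_cases hx : x * a = a * x
  · refine ⟨1, Subgroup.one_mem _, ?_⟩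
    rw [reflFun_of_comm hx, reflFun_of_comm hx, mul_one]
  · refine ⟨z, h.mem, ?_⟩
    have hx' : reflFun a x * a ≠ a * reflFun a x := fun e => hx ((reflFun_comm_iff a x).1 e)
    rw [reflFun_of_not_comm hx', reflFun_of_not_comm hx, mul_assoc, ha]

omit h in
/-- reflections in commuting elements commute -/
theorem reflFun_comm_reflFun {a b : P} (hab : a * b = b * a) (x : P) :
    reflFun a (reflFun b x) = reflFun b (reflFun a x) := by
  have key : ∀ a b : P, a * b = b * a → ∀ x : P,
      (reflFun b x * a = a * reflFun b x ↔ x * a = a * x) := by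
    intro a b hab x
    by_cases hx : x * b = b * x
    · rw [reflFun_of_comm hx]
    · rw [reflFun_of_not_comm hx]
      constructor
      · intro e
        calc x * a = x * (a * b) * b⁻¹ := by group
          _ = x * (b * a) * b⁻¹ := by rw [hab]
          _ = (x * b * a) * b⁻¹ := by group
          _ = (a * (x * b)) * b⁻¹ := by rw [e]
          _ = a * x := by group
      · intro e
        calc x * b * a = x * (a * b) := by rw [hab]; group
          _ = (x * a) * b := by group
          _ = (a * x) * b := by rw [e]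
          _ = a * (x * b) := by group
  by_cases hxa : x * a = a * x
  · by_cases hxb : x * b = b * x
    · rw [reflFun_of_comm hxb, reflFun_of_comm hxa, reflFun_of_comm hxb]
    · have h1 : reflFun b x * a = a * reflFun b x := (key a b hab x).2 hxa
      rw [reflFun_of_comm h1, reflFun_of_comm hxa]
  · by_cases hxb : x * b = b * x
    · have h1 : reflFun a x * b = b * reflFun a x := (key b a hab.symm x).2 hxb
      rw [reflFun_of_comm h1, reflFun_of_comm hxb]
    · have h1 : reflFun b x * a ≠ a * reflFun b x := fun e => hxa ((key a b hab x).1 e)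
      have h2 : reflFun a x * b ≠ b * reflFun a x := fun e => hxb ((key b a hab.symm x).1 e)
      rw [reflFun_of_not_comm h1, reflFun_of_not_comm h2, reflFun_of_not_comm hxa,
        reflFun_of_not_comm hxb, mul_assoc, mul_assoc, hab]


/-- the square of a lift of a reflection is trivial modulo the centre -/
theorem sq_mod_of_isReflLift {ρ : P ≃* P} {a : P} (ha : a * a = z) (hρ : IsReflLift ρ a)
    (x : P) : ρ (ρ x) * x⁻¹ ∈ Subgroup.center P := by
  obtain ⟨c1, hc1, e1⟩ := hρ x
  obtain ⟨c2, hc2, e2⟩ := hρ (reflFun a x)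
  obtain ⟨c3, hc3, e3⟩ := h.reflFun_reflFun ha x
  have e : ρ (ρ x) = x * (c3 * c2 * c1) := by
    rw [e1, map_mul, h.map_center ρ hc1, e2, e3]; group
  have hc : c3 * c2 * c1 ∈ Subgroup.center P :=
    Subgroup.mul_mem _ (Subgroup.mul_mem _ hc3 hc2) hc1
  rw [e, mul_center_mul_inv hc]
  exact hc

/-- an involutory lift of the reflection in `a` inverts `a` -/
theorem map_self_of_isReflLift {ρ : P ≃* P} {a : P} (ha : a * a = z) (hρ : IsReflLift ρ a)
    (hρ2 : ∀ x, ρ (ρ x) = x) : ρ a = a⁻¹ := by
  obtain ⟨x, hx⟩ := h.exists_not_comm_of_sq ha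
  obtain ⟨c1, hc1, e1⟩ := hρ x
  rw [reflFun_of_not_comm hx] at e1
  have hc := Subgroup.mem_center_iff.1 hc1
  have e2 : x = x * a * c1 * ρ a * c1 := by
    calc x = ρ (ρ x) := (hρ2 x).symm
      _ = ρ (x * a * c1) := by rw [e1]
      _ = ρ x * ρ a * c1 := by rw [map_mul, map_mul, h.map_center ρ hc1]
      _ = x * a * c1 * ρ a * c1 := by rw [e1]
  have e3 : a * ρ a = 1 := by
    have e4 : x * 1 = x * (a * ρ a) := by
      rw [mul_one]
      calc x = x * a * c1 * ρ a * c1 := e2
        _ = x * a * (c1 * ρ a) * c1 := by group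
        _ = x * a * (ρ a * c1) * c1 := by rw [hc (ρ a)]
        _ = x * (a * ρ a) * (c1 * c1) := by group
        _ = x * (a * ρ a) := by rw [h.center_mul_self hc1, mul_one]
    exact (mul_left_cancel e4).symm
  exact eq_inv_of_mul_eq_one_right e3

/-- lifts of reflections in commuting elements commute modulo the centre -/
theorem comm_mod_of_isReflLift {ρ τ : P ≃* P} {a b : P} (hab : a * b = b * a)
    (hρ : IsReflLift ρ a) (hτ : IsReflLift τ b) (x : P) :
    ∃ c ∈ Subgroup.center P, ρ (τ x) = τ (ρ x) * c := by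
  obtain ⟨c1, hc1, e1⟩ := hτ x
  obtain ⟨c2, hc2, e2⟩ := hρ (reflFun b x)
  obtain ⟨c3, hc3, e3⟩ := hρ x
  obtain ⟨c4, hc4, e4⟩ := hτ (reflFun a x)
  have el : ρ (τ x) = reflFun a (reflFun b x) * (c2 * c1) := by
    rw [e1, map_mul, h.map_center ρ hc1, e2]; group
  have er : τ (ρ x) = reflFun a (reflFun b x) * (c4 * c3) := by
    rw [e3, map_mul, h.map_center τ hc3, e4, reflFun_comm_reflFun hab]; group
  refine ⟨(c4 * c3)⁻¹ * (c2 * c1), ?_, ?_⟩
  · exact Subgroup.mul_mem _ (Subgroup.inv_mem _ (Subgroup.mul_mem _ hc4 hc3))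
      (Subgroup.mul_mem _ hc2 hc1)
  · rw [el, er]; group

/-- commuting lifts: the lift of the reflection in `b` fixes `a` -/
theorem map_other_of_isReflLift {ρ τ : P ≃* P} {a b : P}
    (hρ : IsReflLift ρ a) (hτ : IsReflLift τ b) (hcomm : ∀ x, ρ (τ x) = τ (ρ x))
    {x : P} (hxb : x * b = b * x) (hxa : x * a ≠ a * x) : τ a = a := by
  obtain ⟨c, hc, e1⟩ := hτ x
  rw [reflFun_of_comm hxb] at e1
  obtain ⟨c1, hc1, e2⟩ := hρ x
  rw [reflFun_of_not_comm hxa] at e2
  have hcc := Subgroup.mem_center_iff.1 hc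
  have hcc1 := Subgroup.mem_center_iff.1 hc1
  have e3 : ρ (τ x) = x * a * c1 * c := by
    rw [e1, map_mul, h.map_center ρ hc, e2]
  have e4 : τ (ρ x) = x * c * τ a * c1 := by
    rw [e2, map_mul, map_mul, h.map_center τ hc1, e1]
  have e5 : x * (a * (c1 * c)) = x * (τ a * (c1 * c)) := by
    calc x * (a * (c1 * c)) = x * a * c1 * c := by group
      _ = ρ (τ x) := e3.symm
      _ = τ (ρ x) := hcomm x
      _ = x * c * τ a * c1 := e4
      _ = x * (c * τ a) * c1 := by group
      _ = x * (τ a * c) * c1 := by rw [hcc (τ a)]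
      _ = x * τ a * (c * c1) := by group
      _ = x * τ a * (c1 * c) := by rw [hcc c1]
      _ = x * (τ a * (c1 * c)) := by group
  exact (mul_right_cancel (mul_left_cancel e5)).symm

/-- two elements that are different modulo the centre are separated by centralizers -/
theorem exists_comm_not_comm {a b : P} (ha : a ∉ Subgroup.center P)
    (hab : a * b⁻¹ ∉ Subgroup.center P) : ∃ x : P, x * b = b * x ∧ x * a ≠ a * x := by
  by_contra hcon
  push Not at hcon
  apply hab
  rw [Subgroup.mem_center_iff]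
  intro g
  have hcmc : ∀ u v w : P, w * cm u v = cm u v * w := fun u v w => cm_comm h.comm u v w
  by_cases hgb : g * b = b * g
  · have hga := hcon g hgb
    have hgb' : g * b⁻¹ = b⁻¹ * g := by
      calc g * b⁻¹ = b⁻¹ * (b * g) * b⁻¹ := by group
        _ = b⁻¹ * (g * b) * b⁻¹ := by rw [hgb]
        _ = b⁻¹ * g := by group
    calc g * (a * b⁻¹) = (g * a) * b⁻¹ := by group
      _ = (a * g) * b⁻¹ := by rw [hga]
      _ = a * (g * b⁻¹) := by group
      _ = a * (b⁻¹ * g) := by rw [hgb']
      _ = a * b⁻¹ * g := by group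
  · have hga : g * a ≠ a * g := by
      intro hga
      obtain ⟨y, hy⟩ : ∃ y : P, y * a ≠ a * y := by
        by_contra hc
        push Not at hc
        exact ha (Subgroup.mem_center_iff.2 hc)
      have hyb : y * b ≠ b * y := fun e => hy (hcon y e)
      have h1 : cm (g * y) b = 1 := by
        rw [cm_mul_left g y b (hcmc y b), h.cm_eq_z hgb, h.cm_eq_z hyb, h.sq]
      have h2 : g * y * b = b * (g * y) := (cm_eq_one_iff _ _).1 h1
      have h3 := hcon _ h2
      apply hy
      calc y * a = g⁻¹ * (g * y * a) := by group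
        _ = g⁻¹ * (a * (g * y)) := by rw [h3]
        _ = g⁻¹ * (a * g) * y := by group
        _ = g⁻¹ * (g * a) * y := by rw [hga]
        _ = a * y := by group
    have h1 : cm g (a * b⁻¹) = 1 := by
      rw [cm_mul_right g a b⁻¹ (hcmc g b⁻¹), cm_inv_right h.comm, h.cm_eq_z hga, h.cm_eq_z hgb,
        mul_inv_cancel]
    exact (cm_eq_one_iff _ _).1 h1


/-- the centralizer of a pair has index at most four -/
theorem card_le_four_mul_card_pairCent [Finite P] (a b : P) :
    Nat.card P ≤ 4 * Nat.card (pairCent a b) := by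
  let φ : P →* ↥(Subgroup.center P) × ↥(Subgroup.center P) :=
    (pairHom h.comm a).prod (pairHom h.comm b)
  have hker : φ.ker = pairCent a b := by
    ext q
    rw [MonoidHom.mem_ker, h.mem_pairCent_iff]
    show ((pairHom h.comm a q, pairHom h.comm b q) : _ × _) = 1 ↔ _
    rw [Prod.ext_iff]
    rfl
  have h1 : Nat.card P = Nat.card (P ⧸ φ.ker) * Nat.card φ.ker :=
    Subgroup.card_eq_card_quotient_mul_card_subgroup φ.ker
  have h2 : Nat.card (P ⧸ φ.ker) = Nat.card φ.range :=
    Nat.card_congr (QuotientGroup.quotientKerEquivRange φ).toEquiv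
  have h3 : Nat.card φ.range ≤ 4 := by
    have h4 : Nat.card (↥(Subgroup.center P) × ↥(Subgroup.center P)) = 4 := by
      rw [Nat.card_prod, h.card_center]
    rw [← h4]
    exact Subgroup.card_le_card_group _
  rw [h1, h2, hker]
  exact Nat.mul_le_mul_right _ h3

omit h in
theorem exists_mem_not_mem_finset [Finite P] (K : Subgroup P) (S : Finset P)
    (hS : S.card < Nat.card K) : ∃ u ∈ K, u ∉ S := by
  by_contra hcon
  push Not at hcon
  have hsub : (K : Set P) ⊆ (S : Set P) := fun u hu => hcon u hu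
  have h1 := Set.ncard_le_ncard hsub (Finset.finite_toSet S)
  rw [Set.ncard_coe_finset] at h1
  have h2 : (K : Set P).ncard = Nat.card K := (Nat.card_coe_set_eq (K : Set P)).symm
  rw [h2] at h1
  omega

/-- in a large subgroup centralizing `a` there is an element of square `z` outside a given small
set -/
theorem exists_sq_z_avoiding [Finite P] {a : P} (ha : a * a = z) (K : Subgroup P)
    (hK : ∀ u ∈ K, u * a = a * u) (haK : a ∈ K) (T : Finset P)
    (hT : 2 * T.card < Nat.card K) : ∃ b ∈ K, b * b = z ∧ b ∉ T := by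
  classical
  have hS : (T ∪ T.image (· * a⁻¹)).card < Nat.card K := by
    have h1 := Finset.card_union_le T (T.image (· * a⁻¹))
    have h2 : (T.image (· * a⁻¹)).card ≤ T.card := Finset.card_image_le
    omega
  obtain ⟨u, huK, huS⟩ := exists_mem_not_mem_finset K _ hS
  rw [Finset.mem_union, not_or] at huS
  obtain ⟨hu1, hu2⟩ := huS
  rcases h.sq_cases u with hsq | hsq
  · refine ⟨u * a, K.mul_mem huK haK, ?_, ?_⟩
    · rw [mul_sq_of_comm (hK u huK), hsq, ha, one_mul]
    · intro hmem
      apply hu2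
      rw [Finset.mem_image]
      exact ⟨u * a, hmem, by group⟩
  · exact ⟨u, huK, hsq, hu1⟩

/-- some element has square `z` in a noncommutative group of this kind -/
theorem exists_sq_z {x y : P} (hxy : x * y ≠ y * x) : ∃ a : P, a * a = z := by
  rcases h.sq_cases x with hx | hx
  · rcases h.sq_cases y with hy | hy
    · refine ⟨x * y, ?_⟩
      rw [h.mul_sq_of_not_comm hxy, hx, hy, mul_one, mul_one]
    · exact ⟨y, hy⟩
  · exact ⟨x, hx⟩

/-- if `b ∉ {a, a * z}` then `b * a⁻¹` is not central -/
theorem not_mem_center_of_ne {a b : P} (h1 : b ≠ a) (h2 : b ≠ a * z) :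
    b * a⁻¹ ∉ Subgroup.center P := by
  intro hc
  rcases h.all _ hc with e | e
  · apply h1
    calc b = (b * a⁻¹) * a := by group
      _ = a := by rw [e, one_mul]
  · apply h2
    calc b = (b * a⁻¹) * a := by group
      _ = a * z := by rw [e, h.zcomm a]

/-- three pairwise commuting elements of square `z`, pairwise different modulo the centre -/
theorem exists_three [Finite P] (hcard : 32 < Nat.card P) :
    ∃ a1 a2 a3 : P, a1 * a1 = z ∧ a2 * a2 = z ∧ a3 * a3 = z ∧
      a1 * a2 = a2 * a1 ∧ a1 * a3 = a3 * a1 ∧ a2 * a3 = a3 * a2 ∧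
      a2 * a1⁻¹ ∉ Subgroup.center P ∧ a3 * a1⁻¹ ∉ Subgroup.center P ∧
      a3 * a2⁻¹ ∉ Subgroup.center P := by
  classical
  obtain ⟨x, y, hxy⟩ := h.not_comm_of_card (by omega)
  obtain ⟨a1, ha1⟩ := h.exists_sq_z hxy
  -- second element
  have hK1 := h.card_le_four_mul_card_pairCent a1 a1
  obtain ⟨a2, ha2K, ha2, ha2T⟩ := h.exists_sq_z_avoiding ha1 (pairCent a1 a1)
    (fun u hu => (mem_pairCent.1 hu).1) (mem_pairCent.2 ⟨rfl, rfl⟩) {a1, a1 * z}
    (by
      have : ({a1, a1 * z} : Finset P).card ≤ 2 := Finset.card_insert_le _ _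
      omega)
  have h21 : a2 * a1 = a1 * a2 := (mem_pairCent.1 ha2K).1
  rw [Finset.mem_insert, Finset.mem_singleton, not_or] at ha2T
  -- third element
  have hK2 := h.card_le_four_mul_card_pairCent a1 a2
  obtain ⟨a3, ha3K, ha3, ha3T⟩ := h.exists_sq_z_avoiding ha1 (pairCent a1 a2)
    (fun u hu => (mem_pairCent.1 hu).1) (mem_pairCent.2 ⟨rfl, h21.symm⟩)
    {a1, a1 * z, a2, a2 * z}
    (by
      have h4 : ({a1, a1 * z, a2, a2 * z} : Finset P).card ≤ 4 :=
        Finset.card_le_four
      omega)
  obtain ⟨h31, h32⟩ := mem_pairCent.1 ha3K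
  simp only [Finset.mem_insert, Finset.mem_singleton, not_or] at ha3T
  obtain ⟨t1, t2, t3, t4⟩ := ha3T
  exact ⟨a1, a2, a3, ha1, ha2, ha3, h21.symm, h31.symm, h32.symm,
    h.not_mem_center_of_ne ha2T.1 ha2T.2, h.not_mem_center_of_ne t1 t2,
    h.not_mem_center_of_ne t3 t4⟩


/-- **Griess' theorem**: the group of inner automorphisms of an extraspecial `2`-group of order
greater than `32` has no complement in the automorphism group. -/
theorem no_complement [Finite P] (hcomm : commutator P = Subgroup.center P)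
    (hcard : 32 < Nat.card P) (L : Subgroup (MulAut P)) :
    ¬ ((MulAut.conj : P →* MulAut P).range).IsComplement' L := by
  intro hL
  -- an element of `L` acting trivially modulo the centre is trivial
  have htriv : ∀ μ : MulAut P, μ ∈ L → (∀ x, μ x * x⁻¹ ∈ Subgroup.center P) → μ = 1 := by
    intro μ hμ hx
    obtain ⟨u, hu⟩ := h.inner_of_mod_center hcomm μ hx
    have hinn : μ ∈ (MulAut.conj : P →* MulAut P).range := by
      refine ⟨u, ?_⟩
      ext x
      rw [MulAut.conj_apply, hu]
    exact (Subgroup.disjoint_def.1 hL.disjoint) hinn hμ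
  -- every reflection has a lift in `L`
  have hlift : ∀ a : P, a * a = z → ∃ ρ : MulAut P, ρ ∈ L ∧ IsReflLift ρ a := by
    intro a ha
    obtain ⟨⟨⟨ι, hι⟩, ⟨l, hl⟩⟩, hx, -⟩ := hL.existsUnique (h.reflEquiv ha : MulAut P)
    obtain ⟨u, hu⟩ := MonoidHom.mem_range.1 (SetLike.mem_coe.1 hι)
    refine ⟨l, SetLike.mem_coe.1 hl, fun x => ?_⟩
    have hx' : ι * l = h.reflEquiv ha := hx
    have e : l x = u⁻¹ * reflFun a x * u := by
      have e1 : (ι * l) x = reflFun a x := by rw [hx']; rfl
      rw [MulAut.mul_apply, ← hu, MulAut.conj_apply] at e1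
      rw [← e1]; group
    refine ⟨cm (reflFun a x)⁻¹ u⁻¹, cm_mem_center h.comm _ _, ?_⟩
    rw [e]; simp only [cm]; group
  obtain ⟨a1, a2, a3, ha1, ha2, ha3, h12, h13, h23, n21, n31, n32⟩ := h.exists_three hcard
  have h12_3 : (a1 * a2) * a3 = a3 * (a1 * a2) := by
    calc (a1 * a2) * a3 = a1 * (a2 * a3) := by group
      _ = a1 * (a3 * a2) := by rw [h23]
      _ = (a1 * a3) * a2 := by group
      _ = (a3 * a1) * a2 := by rw [h13]
      _ = a3 * (a1 * a2) := by group
  have ha4 : (a1 * a2 * a3) * (a1 * a2 * a3) = z := by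
    rw [mul_sq_of_comm h12_3, mul_sq_of_comm h12, ha1, ha2, ha3, h.sq, one_mul]
  have h14 : a1 * (a1 * a2 * a3) = (a1 * a2 * a3) * a1 := by
    calc a1 * (a1 * a2 * a3) = a1 * (a1 * a2) * a3 := by group
      _ = a1 * (a2 * a1) * a3 := by rw [h12]
      _ = a1 * a2 * (a1 * a3) := by group
      _ = a1 * a2 * (a3 * a1) := by rw [h13]
      _ = (a1 * a2 * a3) * a1 := by group
  have n41 : (a1 * a2 * a3) * a1⁻¹ ∉ Subgroup.center P := by
    intro hc
    apply n32
    have e1 : (a1 * a2 * a3) * a1⁻¹ = a2 * a3 := by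
      calc (a1 * a2 * a3) * a1⁻¹ = a1 * a2 * (a3 * a1) * a1⁻¹ * a1⁻¹ := by group
        _ = a1 * a2 * (a1 * a3) * a1⁻¹ * a1⁻¹ := by rw [h13]
        _ = a1 * (a2 * a1) * a3 * a1⁻¹ * a1⁻¹ := by group
        _ = a1 * (a1 * a2) * a3 * a1⁻¹ * a1⁻¹ := by rw [h12]
        _ = a1 * a1 * (a2 * a3) * a1⁻¹ * a1⁻¹ := by group
        _ = a1 * a1 * (a2 * a3) * (a1 * a1)⁻¹ := by group
        _ = a2 * a3 := by rw [ha1, ← h.zcomm (a2 * a3), mul_inv_cancel_right]
    rw [e1] at hc
    have e2 : a3 * a2⁻¹ = (a2 * a3) * (a2 * a2)⁻¹ := by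
      calc a3 * a2⁻¹ = (a3 * a2) * (a2 * a2)⁻¹ := by group
        _ = (a2 * a3) * (a2 * a2)⁻¹ := by rw [h23]
    rw [e2, ha2]
    exact Subgroup.mul_mem _ hc (Subgroup.inv_mem _ h.mem)
  obtain ⟨ρ1, hρ1L, hρ1⟩ := hlift a1 ha1
  -- `ρ1` is an involution
  have hρ1sq : ∀ x, ρ1 (ρ1 x) = x := by
    have h1 := htriv (ρ1 * ρ1) (L.mul_mem hρ1L hρ1L) (fun x => by
      rw [MulAut.mul_apply]; exact h.sq_mod_of_isReflLift ha1 hρ1 x)
    intro x
    have h2 : (ρ1 * ρ1) x = x := by rw [h1]; rfl
    rwa [MulAut.mul_apply] at h2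
  have hinv : ρ1 a1 = a1⁻¹ := h.map_self_of_isReflLift ha1 hρ1 hρ1sq
  -- `ρ1` fixes the other elements
  have hfix : ∀ b : P, b * b = z → a1 * b = b * a1 → b * a1⁻¹ ∉ Subgroup.center P →
      ρ1 b = b := by
    intro b hb h1b hnb
    obtain ⟨τ, hτL, hτ⟩ := hlift b hb
    have hb_nc : b ∉ Subgroup.center P := by
      intro hc
      have := h.center_mul_self hc
      rw [hb] at this
      exact h.ne this
    have hmod : ∀ x, ((ρ1 * τ)⁻¹ * (τ * ρ1)) x * x⁻¹ ∈ Subgroup.center P := by
      intro x
      obtain ⟨c, hc, e⟩ := h.comm_mod_of_isReflLift h1b.symm hτ hρ1 x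
      have e2 : ((ρ1 * τ)⁻¹ * (τ * ρ1)) x = x * c := by
        have e3 : ((ρ1 * τ)⁻¹ * (τ * ρ1)) x = (ρ1 * τ)⁻¹ (τ (ρ1 x)) := rfl
        have e4 : ρ1 (τ x) = (ρ1 * τ) x := rfl
        rw [e3, e, map_mul, h.map_center _ hc, e4, MulAut.inv_apply_self]
      rw [e2, mul_center_mul_inv hc]
      exact hc
    have h1 := htriv _ (L.mul_mem (L.inv_mem (L.mul_mem hρ1L hτL)) (L.mul_mem hτL hρ1L)) hmod
    have h2 : ρ1 * τ = τ * ρ1 := inv_mul_eq_one.1 h1
    have hcm : ∀ x, τ (ρ1 x) = ρ1 (τ x) := by
      intro x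
      have := congrArg (fun f : MulAut P => f x) h2
      simp only [MulAut.mul_apply] at this
      exact this.symm
    obtain ⟨x, hx1, hxb⟩ := h.exists_comm_not_comm hb_nc hnb
    exact h.map_other_of_isReflLift hτ hρ1 hcm hx1 hxb
  have f2 := hfix a2 ha2 h12 n21
  have f3 := hfix a3 ha3 h13 n31
  have f4 := hfix (a1 * a2 * a3) ha4 h14 n41
  rw [map_mul, map_mul, hinv, f2, f3] at f4
  have e1 : a1⁻¹ = a1 := mul_right_cancel (mul_right_cancel f4)
  apply h.ne
  rw [← ha1]
  calc a1 * a1 = a1 * a1⁻¹ := by rw [e1]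
    _ = 1 := mul_inv_cancel a1

end IsE2

end Cfsg.Agent.Lib.Helper29
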