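import Mathlib
import Cfsg.Agent.Lib.Helper29.Griess
import Cfsg.Prelude.Def_KGroupFacts
import Cfsg.Prelude.Def_Classical

set_option autoImplicit false
set_option linter.unusedSectionVars false

/-!
# A concrete model of the extraspecial `2`-groups

For a matrix `b` over `ZMod 2` the set `(ι → ZMod 2) × ZMod 2` with the product
`(u, s) (w, t) = (u + w, s + t + uᵀ b w)` is a group `CM b`.  If `b + bᵀ` is invertible it is
extraspecial, squaring is the quadratic form `u ↦ uᵀ b u`, and its outer automorphism group is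
the full isometry group of that form.
-/

namespace Cfsg.Agent.Lib.Helper29

open Matrix

variable {ι : Type} [Fintype ι] [DecidableEq ι]

/-- the bilinear form of a matrix -/
def bf (b : Matrix ι ι (ZMod 2)) (u w : ι → ZMod 2) : ZMod 2 := u ⬝ᵥ (b *ᵥ w)

theorem bf_add_left (b : Matrix ι ι (ZMod 2)) (u u' w : ι → ZMod 2) :
    bf b (u + u') w = bf b u w + bf b u' w := by
  simp only [bf, add_dotProduct]

theorem bf_add_right (b : Matrix ι ι (ZMod 2)) (u w w' : ι → ZMod 2) :
    bf b u (w + w') = bf b u w + bf b u w' := by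
  simp only [bf, mulVec_add, dotProduct_add]

@[simp] theorem bf_zero_left (b : Matrix ι ι (ZMod 2)) (w : ι → ZMod 2) : bf b 0 w = 0 := by
  simp [bf]

@[simp] theorem bf_zero_right (b : Matrix ι ι (ZMod 2)) (u : ι → ZMod 2) : bf b u 0 = 0 := by
  simp [bf]

theorem bf_transpose (b : Matrix ι ι (ZMod 2)) (u w : ι → ZMod 2) :
    bf bᵀ u w = bf b w u := by
  simp only [bf]
  rw [mulVec_transpose, dotProduct_comm, ← dotProduct_mulVec]

theorem bf_add_matrix (b c : Matrix ι ι (ZMod 2)) (u w : ι → ZMod 2) :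
    bf (b + c) u w = bf b u w + bf c u w := by
  simp only [bf, add_mulVec, dotProduct_add]

theorem vec_add_self (u : ι → ZMod 2) : u + u = 0 := by
  funext i
  exact CharTwo.add_self_eq_zero (u i)

/-- the model group -/
@[ext] structure CM (b : Matrix ι ι (ZMod 2)) where
  v : ι → ZMod 2
  s : ZMod 2

namespace CM

variable {b : Matrix ι ι (ZMod 2)}

instance : Mul (CM b) := ⟨fun a c => ⟨a.v + c.v, a.s + c.s + bf b a.v c.v⟩⟩
instance : One (CM b) := ⟨⟨0, 0⟩⟩
instance : Inv (CM b) := ⟨fun a => ⟨a.v, a.s + bf b a.v a.v⟩⟩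

theorem mul_v (a c : CM b) : (a * c).v = a.v + c.v := rfl
theorem mul_s (a c : CM b) : (a * c).s = a.s + c.s + bf b a.v c.v := rfl
theorem one_v : (1 : CM b).v = 0 := rfl
theorem one_s : (1 : CM b).s = 0 := rfl
theorem inv_v (a : CM b) : (a⁻¹).v = a.v := rfl
theorem inv_s (a : CM b) : (a⁻¹).s = a.s + bf b a.v a.v := rfl

instance : Group (CM b) :=
  Group.ofLeftAxioms
    (fun a c d => by
      ext1
      · simp only [mul_v]; rw [add_assoc]
      · simp only [mul_s, mul_v, bf_add_left, bf_add_right]; ring)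
    (fun a => by
      ext1
      · simp only [mul_v, one_v, zero_add]
      · simp only [mul_s, one_v, one_s, bf_zero_left]; ring)
    (fun a => by
      ext1
      · simp only [mul_v, inv_v, one_v]; exact vec_add_self a.v
      · simp only [mul_s, inv_v, inv_s, one_s]
        have h2 : ∀ x y : ZMod 2, x + y + x + y = 0 := by decide
        exact h2 _ _)

/-- the central involution -/
def zc : CM b := ⟨0, 1⟩

theorem mul_self (a : CM b) : a * a = ⟨0, bf b a.v a.v⟩ := by
  ext1
  · simp only [mul_v]; exact vec_add_self a.v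
  · simp only [mul_s]
    have h2 : ∀ x y : ZMod 2, x + x + y = y := by decide
    exact h2 _ _

theorem comm_iff (a c : CM b) : a * c = c * a ↔ bf b a.v c.v = bf b c.v a.v := by
  constructor
  · intro e
    have := congrArg CM.s e
    simp only [mul_s] at this
    have h2 : ∀ x y p q : ZMod 2, x + y + p = y + x + q → p = q := by decide
    exact h2 _ _ _ _ this
  · intro e
    ext1
    · simp only [mul_v]; rw [add_comm]
    · simp only [mul_s]; rw [e]; ring

theorem mem_center_of_v (a : CM b) (ha : a.v = 0) : a ∈ Subgroup.center (CM b) := by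
  rw [Subgroup.mem_center_iff]
  intro c
  rw [comm_iff, ha]; simp

/-- the equivalence with the underlying set -/
def equivProd : CM b ≃ (ι → ZMod 2) × ZMod 2 where
  toFun a := (a.v, a.s)
  invFun p := ⟨p.1, p.2⟩
  left_inv _ := rfl
  right_inv _ := rfl

instance : Finite (CM b) := Finite.of_equiv _ equivProd.symm

theorem card_eq : Nat.card (CM b) = 2 ^ Fintype.card ι * 2 := by
  rw [Nat.card_congr equivProd, Nat.card_prod, Nat.card_eq_fintype_card, Nat.card_eq_fintype_card,
    Fintype.card_fun, ZMod.card]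

/-- nondegeneracy of the polar form -/
theorem eq_zero_of_polar (hnd : (b + bᵀ) * (b + bᵀ) = 1) (u : ι → ZMod 2)
    (h : ∀ w, bf b u w = bf b w u) : u = 0 := by
  have h1 : ∀ w, (u ᵥ* (b + bᵀ)) ⬝ᵥ w = 0 := by
    intro w
    rw [← dotProduct_mulVec]
    have := bf_add_matrix b bᵀ u w
    simp only [bf] at this
    rw [this]
    have e1 : u ⬝ᵥ bᵀ *ᵥ w = bf b w u := bf_transpose b u w
    have e2 : u ⬝ᵥ b *ᵥ w = bf b u w := rfl
    rw [e1, e2, h w]
    exact CharTwo.add_self_eq_zero _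
  have h2 := dotProduct_eq_zero _ h1
  calc u = u ᵥ* ((b + bᵀ) * (b + bᵀ)) := by rw [hnd, vecMul_one]
    _ = (u ᵥ* (b + bᵀ)) ᵥ* (b + bᵀ) := by rw [vecMul_vecMul]
    _ = 0 := by rw [h2, zero_vecMul]

open scoped commutatorElement in
theorem isE2 (hnd : (b + bᵀ) * (b + bᵀ) = 1) : IsE2 (CM b) (zc : CM b) where
  mem := mem_center_of_v _ rfl
  ne := fun e => by
    have := congrArg CM.s e
    exact one_ne_zero this
  all := by
    intro w hw
    rw [Subgroup.mem_center_iff] at hw
    have hv : w.v = 0 := by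
      apply eq_zero_of_polar hnd
      intro x
      have := (comm_iff w ⟨x, 0⟩).1 (hw ⟨x, 0⟩).symm
      exact this
    have hs : ∀ x : ZMod 2, x = 0 ∨ x = 1 := by decide
    rcases hs w.s with h0 | h1
    · left; exact CM.ext hv h0
    · right; exact CM.ext hv h1
  comm := by
    rw [commutator_def, Subgroup.commutator_le]
    intro a _ c _
    apply mem_center_of_v
    rw [commutatorElement_def]
    simp only [mul_v, inv_v]
    have : a.v + c.v + a.v + c.v = (a.v + a.v) + (c.v + c.v) := by abel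
    rw [this, vec_add_self, vec_add_self, add_zero]

theorem mem_center_iff_v (hnd : (b + bᵀ) * (b + bᵀ) = 1) (a : CM b) :
    a ∈ Subgroup.center (CM b) ↔ a.v = 0 := by
  constructor
  · intro ha
    rcases (isE2 hnd).all a ha with rfl | rfl
    · rfl
    · rfl
  · exact mem_center_of_v a

theorem exists_not_comm [Nonempty ι] (hnd : (b + bᵀ) * (b + bᵀ) = 1) :
    ∃ x y : CM b, x * y ≠ y * x := by
  obtain ⟨i⟩ := ‹Nonempty ι›
  by_contra hcon
  push Not at hcon
  have : (Pi.single i 1 : ι → ZMod 2) = 0 := by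
    apply eq_zero_of_polar hnd
    intro w
    exact (comm_iff (⟨Pi.single i 1, 0⟩ : CM b) ⟨w, 0⟩).1 (hcon _ _)
  have h1 := congrFun this i
  simp at h1

theorem commutator_eq_center [Nonempty ι] (hnd : (b + bᵀ) * (b + bᵀ) = 1) :
    commutator (CM b) = Subgroup.center (CM b) := by
  have h := isE2 hnd
  obtain ⟨x, y, hxy⟩ := exists_not_comm hnd
  apply le_antisymm h.comm
  intro w hw
  rcases h.all w hw with rfl | rfl
  · exact Subgroup.one_mem _
  · rw [← h.cm_eq_z hxy]; exact cm_mem_commutator x y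

/-! ### the linear part of an automorphism -/

section Aut

variable (hnd : (b + bᵀ) * (b + bᵀ) = 1)
include hnd

theorem aut_central (α : CM b ≃* CM b) (t : ZMod 2) : α ⟨0, t⟩ = ⟨0, t⟩ :=
  (isE2 hnd).map_center α (mem_center_of_v _ rfl)

omit hnd in
theorem split (a : CM b) : a = ⟨a.v, 0⟩ * ⟨0, a.s⟩ := by
  ext1
  · simp [mul_v]
  · simp [mul_s]

theorem aut_v (α : CM b ≃* CM b) (a : CM b) : (α a).v = (α ⟨a.v, 0⟩).v := by
  conv_lhs => rw [split a, map_mul, aut_central hnd]
  simp [mul_v]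

omit hnd in
/-- the linear part -/
def L (α : CM b ≃* CM b) (u : ι → ZMod 2) : ι → ZMod 2 := (α ⟨u, 0⟩).v

theorem L_add (α : CM b ≃* CM b) (u w : ι → ZMod 2) : L α (u + w) = L α u + L α w := by
  have e : (⟨u, 0⟩ * ⟨w, 0⟩ : CM b) = ⟨u + w, bf b u w⟩ := by
    ext1
    · simp [mul_v]
    · simp [mul_s]
  have h1 := aut_v hnd α (⟨u, 0⟩ * ⟨w, 0⟩)
  rw [map_mul, mul_v] at h1
  rw [e] at h1
  exact h1.symm

theorem L_mul (α β : CM b ≃* CM b) (u : ι → ZMod 2) : L (α * β) u = L α (L β u) := by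
  show (α (β ⟨u, 0⟩)).v = (α ⟨(β ⟨u, 0⟩).v, 0⟩).v
  exact aut_v hnd α _

omit hnd in
theorem L_one (u : ι → ZMod 2) : L (1 : CM b ≃* CM b) u = u := rfl

theorem L_isom (α : CM b ≃* CM b) (u : ι → ZMod 2) : bf b (L α u) (L α u) = bf b u u := by
  have h1 : α (⟨u, 0⟩ * ⟨u, 0⟩) = α ⟨u, 0⟩ * α ⟨u, 0⟩ := map_mul α _ _
  rw [mul_self, mul_self, aut_central hnd] at h1
  have := congrArg CM.s h1
  exact this.symm

/-- the linear part as a linear map -/
def Lin (α : CM b ≃* CM b) : (ι → ZMod 2) →ₗ[ZMod 2] (ι → ZMod 2) :=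
  (AddMonoidHom.mk' (L α) (L_add hnd α)).toZModLinearMap 2

theorem Lin_apply (α : CM b ≃* CM b) (u : ι → ZMod 2) : Lin hnd α u = L α u := rfl

/-- the matrix of the linear part -/
def Mx (α : CM b ≃* CM b) : Matrix ι ι (ZMod 2) := LinearMap.toMatrix' (Lin hnd α)

theorem Mx_mulVec (α : CM b ≃* CM b) (u : ι → ZMod 2) : Mx hnd α *ᵥ u = L α u := by
  rw [← toLin'_apply, Mx, toLin'_toMatrix']; rfl

omit hnd in
theorem matrix_ext_mulVec (A B : Matrix ι ι (ZMod 2)) (h : ∀ u, A *ᵥ u = B *ᵥ u) : A = B := by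
  apply Matrix.toLin'.injective
  apply LinearMap.ext
  intro u
  rw [toLin'_apply, toLin'_apply, h]

/-- the matrix of the linear part as a monoid hom -/
def MxHom : MulAut (CM b) →* Matrix ι ι (ZMod 2) where
  toFun α := Mx hnd α
  map_one' := by
    apply matrix_ext_mulVec
    intro u
    rw [Mx_mulVec, one_mulVec]; rfl
  map_mul' α β := by
    apply matrix_ext_mulVec
    intro u
    rw [Mx_mulVec, ← mulVec_mulVec, Mx_mulVec, Mx_mulVec, L_mul hnd]

/-- the linear part as a hom to the general linear group -/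
def GLHom : MulAut (CM b) →* GL ι (ZMod 2) := (MxHom hnd).toHomUnits

theorem GLHom_coe (α : MulAut (CM b)) : ((GLHom hnd α : GL ι (ZMod 2)) : Matrix ι ι (ZMod 2)) = Mx hnd α :=
  MonoidHom.coe_toHomUnits _ _

variable (Q : (ι → ZMod 2) → ZMod 2) (hQ : ∀ u, Q u = bf b u u)
include hQ

theorem GLHom_mem (α : MulAut (CM b)) : GLHom hnd α ∈ Cfsg.isometryGroup (ZMod 2) Q := by
  intro u _
  show Q (((GLHom hnd α : GL ι (ZMod 2)) : Matrix ι ι (ZMod 2)) *ᵥ u) = Q u
  rw [GLHom_coe, Mx_mulVec, hQ, hQ, L_isom hnd]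

/-- the hom to the isometry group -/
def isoHom : MulAut (CM b) →* Cfsg.isometryGroup (ZMod 2) Q :=
  (GLHom hnd).codRestrict _ (GLHom_mem hnd Q hQ)

theorem isoHom_eq_one_iff (α : MulAut (CM b)) :
    isoHom hnd Q hQ α = 1 ↔ ∀ u, L α u = u := by
  constructor
  · intro e u
    have e1 : GLHom hnd α = 1 := congrArg Subtype.val e
    have e2 : Mx hnd α = 1 := by rw [← GLHom_coe, e1]; rfl
    rw [← Mx_mulVec hnd, e2, one_mulVec]
  · intro h
    apply Subtype.ext
    apply Units.ext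
    show ((GLHom hnd α : GL ι (ZMod 2)) : Matrix ι ι (ZMod 2)) = 1
    rw [GLHom_coe]
    apply matrix_ext_mulVec
    intro u
    rw [Mx_mulVec, h, one_mulVec]

theorem isoHom_ker [Nonempty ι] : (isoHom hnd Q hQ).ker = Cfsg.Inn (CM b) := by
  ext α
  rw [MonoidHom.mem_ker, isoHom_eq_one_iff]
  constructor
  · intro h
    have hx : ∀ x : CM b, (α x).v = x.v := by
      intro x
      rw [aut_v hnd]; exact h x.v
    obtain ⟨g, hg⟩ := (isE2 hnd).inner_of_mod_center (commutator_eq_center hnd) α (by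
      intro x
      apply mem_center_of_v
      rw [mul_v, inv_v, hx, vec_add_self])
    refine ⟨g, ?_⟩
    apply MulEquiv.ext
    intro x
    rw [MulAut.conj_apply, hg]
  · rintro ⟨g, rfl⟩ u
    show (MulAut.conj g ⟨u, 0⟩).v = u
    rw [MulAut.conj_apply]
    simp only [mul_v, inv_v]
    have : g.v + u + g.v = u + (g.v + g.v) := by abel
    rw [this, vec_add_self, add_zero]

end Aut

/-! ### lifting isometries -/

theorem bf_single (d : Matrix ι ι (ZMod 2)) (i j : ι) :
    bf d (Pi.single i 1) (Pi.single j 1) = d i j := by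
  simp only [bf, single_one_dotProduct, mulVec_single_one, Matrix.col_apply]

theorem alt_diag (d : Matrix ι ι (ZMod 2)) (h : ∀ u, bf d u u = 0) (i : ι) : d i i = 0 := by
  rw [← bf_single d i i]; exact h _

theorem alt_symm (d : Matrix ι ι (ZMod 2)) (h : ∀ u, bf d u u = 0) (i j : ι) : d i j = d j i := by
  have h1 := h (Pi.single i 1 + Pi.single j 1)
  rw [bf_add_left, bf_add_right, bf_add_right, h, h, bf_single, bf_single] at h1
  have h2 : ∀ x y : ZMod 2, 0 + x + (y + 0) = 0 → x = y := by decide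
  exact h2 _ _ h1

theorem exists_upper (d : Matrix ι ι (ZMod 2)) (h : ∀ u, bf d u u = 0) :
    ∃ c : Matrix ι ι (ZMod 2), c + cᵀ = d := by
  classical
  let e := Fintype.equivFin ι
  refine ⟨Matrix.of fun i j => if e i < e j then d i j else 0, ?_⟩
  ext i j
  simp only [Matrix.add_apply, Matrix.transpose_apply, Matrix.of_apply]
  rcases lt_trichotomy (e i) (e j) with hlt | heq | hgt
  · rw [if_pos hlt, if_neg (not_lt.2 hlt.le), add_zero]
  · have : i = j := e.injective heq
    subst this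
    rw [if_neg (lt_irrefl _), add_zero, alt_diag d h]
  · rw [if_neg (not_lt.2 hgt.le), if_pos hgt, zero_add, alt_symm d h]

theorem bf_conj (G : Matrix ι ι (ZMod 2)) (u w : ι → ZMod 2) :
    bf (Gᵀ * b * G) u w = bf b (G *ᵥ u) (G *ᵥ w) := by
  simp only [bf]
  rw [← mulVec_mulVec, ← mulVec_mulVec, dotProduct_mulVec, vecMul_transpose]

/-- the lift of an isometry -/
def liftFun (G c : Matrix ι ι (ZMod 2)) (a : CM b) : CM b := ⟨G *ᵥ a.v, a.s + bf c a.v a.v⟩

theorem liftFun_mul (G c : Matrix ι ι (ZMod 2)) (hc : c + cᵀ = Gᵀ * b * G + b) (a a' : CM b) :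
    liftFun G c (a * a') = liftFun G c a * liftFun G c a' := by
  have key : bf c a.v a'.v + bf c a'.v a.v = bf b (G *ᵥ a.v) (G *ᵥ a'.v) + bf b a.v a'.v := by
    rw [← bf_transpose c a.v a'.v, ← bf_add_matrix, hc, bf_add_matrix, bf_conj]
  ext1
  · simp only [liftFun, mul_v, mulVec_add]
  · simp only [liftFun, mul_s, mul_v, bf_add_left, bf_add_right]
    have h2 : ∀ s s' p q r t cx cy : ZMod 2, r + q = t + p →
        s + s' + p + (cx + q + (r + cy)) = s + cx + (s' + cy) + t := by decide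
    exact h2 _ _ _ _ _ _ _ _ key

theorem liftFun_injective (g : GL ι (ZMod 2)) (c : Matrix ι ι (ZMod 2)) :
    Function.Injective (liftFun (b := b) (g : Matrix ι ι (ZMod 2)) c) := by
  intro a a' e
  have e1 : (g : Matrix ι ι (ZMod 2)) *ᵥ a.v = (g : Matrix ι ι (ZMod 2)) *ᵥ a'.v :=
    congrArg CM.v e
  have e2 : a.v = a'.v := by
    have h1 : ((g⁻¹ : GL ι (ZMod 2)) : Matrix ι ι (ZMod 2)) * (g : Matrix ι ι (ZMod 2)) = 1 := by
      rw [← Units.val_mul, inv_mul_cancel]; rfl
    calc a.v = (((g⁻¹ : GL ι (ZMod 2)) : Matrix ι ι (ZMod 2)) * (g : Matrix ι ι (ZMod 2))) *ᵥ a.v := by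
          rw [h1, one_mulVec]
      _ = (((g⁻¹ : GL ι (ZMod 2)) : Matrix ι ι (ZMod 2)) * (g : Matrix ι ι (ZMod 2))) *ᵥ a'.v := by
          rw [← mulVec_mulVec, e1, mulVec_mulVec]
      _ = a'.v := by rw [h1, one_mulVec]
  have e3 : a.s + bf c a.v a.v = a'.s + bf c a'.v a'.v := congrArg CM.s e
  rw [e2] at e3
  exact CM.ext e2 (add_right_cancel e3)

/-- the lift of an isometry as an automorphism -/
noncomputable def liftAut (g : GL ι (ZMod 2)) (c : Matrix ι ι (ZMod 2))
    (hc : c + cᵀ = (g : Matrix ι ι (ZMod 2))ᵀ * b * (g : Matrix ι ι (ZMod 2)) + b) : CM b ≃* CM b :=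
  MulEquiv.ofBijective
    ({ toFun := liftFun (g : Matrix ι ι (ZMod 2)) c
       map_mul' := liftFun_mul _ c hc } : CM b →ₙ* CM b)
    ⟨liftFun_injective g c, Finite.surjective_of_injective (liftFun_injective g c)⟩

theorem liftAut_apply (g : GL ι (ZMod 2)) (c : Matrix ι ι (ZMod 2))
    (hc : c + cᵀ = (g : Matrix ι ι (ZMod 2))ᵀ * b * (g : Matrix ι ι (ZMod 2)) + b) (a : CM b) :
    liftAut g c hc a = liftFun (g : Matrix ι ι (ZMod 2)) c a := rfl

theorem isoHom_surjective (hnd : (b + bᵀ) * (b + bᵀ) = 1) (Q : (ι → ZMod 2) → ZMod 2)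
    (hQ : ∀ u, Q u = bf b u u) : Function.Surjective (isoHom hnd Q hQ) := by
  rintro ⟨g, hg⟩
  have hg' : ∀ u, bf b ((g : Matrix ι ι (ZMod 2)) *ᵥ u) ((g : Matrix ι ι (ZMod 2)) *ᵥ u) = bf b u u := by
    intro u
    rw [← hQ, ← hQ]
    exact hg u u
  obtain ⟨c, hc⟩ := exists_upper ((g : Matrix ι ι (ZMod 2))ᵀ * b * (g : Matrix ι ι (ZMod 2)) + b) (by
    intro u
    rw [bf_add_matrix, bf_conj, hg']
    exact CharTwo.add_self_eq_zero _)
  refine ⟨liftAut g c hc, ?_⟩
  apply Subtype.ext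
  apply Units.ext
  show ((GLHom hnd (liftAut g c hc) : GL ι (ZMod 2)) : Matrix ι ι (ZMod 2)) = g
  rw [GLHom_coe]
  apply matrix_ext_mulVec
  intro u
  rw [Mx_mulVec]
  rfl

/-- **the outer automorphism group of the model is the isometry group** -/
theorem out_equiv [Nonempty ι] (hnd : (b + bᵀ) * (b + bᵀ) = 1) (Q : (ι → ZMod 2) → ZMod 2)
    (hQ : ∀ u, Q u = bf b u u) :
    Nonempty (Cfsg.Out (CM b) ≃* Cfsg.isometryGroup (ZMod 2) Q) :=
  ⟨(QuotientGroup.quotientMulEquivOfEq (isoHom_ker hnd Q hQ).symm).trans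
    (QuotientGroup.quotientKerEquivOfSurjective _ (isoHom_surjective hnd Q hQ))⟩

theorem sq_eq_one_iff (a : CM b) : a ^ 2 = 1 ↔ bf b a.v a.v = 0 := by
  rw [pow_two, mul_self]
  constructor
  · intro e; exact congrArg CM.s e
  · intro e; exact CM.ext rfl e

theorem sqCount_eq : sqCount (CM b) = 2 * Nat.card {u : ι → ZMod 2 // bf b u u = 0} := by
  unfold sqCount
  rw [Nat.card_congr ((equivProd (b := b)).subtypeEquiv
    (q := fun p : (ι → ZMod 2) × ZMod 2 => bf b p.1 p.1 = 0) (fun a => sq_eq_one_iff a)),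
    Nat.card_congr (Equiv.prodSubtypeFstEquivSubtypeProd (α := ι → ZMod 2) (β := ZMod 2)
      (p := fun u => bf b u u = 0)), Nat.card_prod, Nat.card_eq_fintype_card (α := ZMod 2),
    ZMod.card, mul_comm]

end CM

/-- isomorphic groups have isomorphic outer automorphism groups -/
theorem out_congr {E : Type*} {M : Type*} [Group E] [Group M] (e : E ≃* M) :
    Nonempty (Cfsg.Out E ≃* Cfsg.Out M) := by
  refine ⟨QuotientGroup.congr (Cfsg.Inn E) (Cfsg.Inn M) (MulAut.congr e) ?_⟩
  ext φ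
  constructor
  · rintro ⟨_, ⟨x, rfl⟩, rfl⟩
    refine ⟨e x, ?_⟩
    apply MulEquiv.ext
    intro y
    show MulAut.conj (e x) y = e (MulAut.conj x (e.symm y))
    simp [MulAut.conj_apply]
  · rintro ⟨y, rfl⟩
    refine ⟨MulAut.conj (e.symm y), ⟨e.symm y, rfl⟩, ?_⟩
    apply MulEquiv.ext
    intro w
    show e (MulAut.conj (e.symm y) (e.symm w)) = MulAut.conj y w
    simp [MulAut.conj_apply]

end Cfsg.Agent.Lib.Helper29
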