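import Mathlib
import Cfsg.Agent.Lib.Helper29.CocycleModel
import Cfsg.Agent.Lib.Helper29.ExtraTwoRank

set_option autoImplicit false
set_option linter.unusedSectionVars false

/-!
# The standard hyperbolic and elliptic models
-/

namespace Cfsg.Agent.Lib.Helper29

open Matrix

/-- the matrix of the hyperbolic form `∑ xᵢ yᵢ` -/
def bPlus (n : ℕ) : Matrix (Fin n ⊕ Fin n) (Fin n ⊕ Fin n) (ZMod 2) := fromBlocks 0 1 0 0

theorem bf_bPlus (n : ℕ) (u w : Fin n ⊕ Fin n → ZMod 2) :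
    bf (bPlus n) u w = ∑ i, u (Sum.inl i) * w (Sum.inr i) := by
  simp [bf, bPlus, dotProduct, fromBlocks_mulVec, Fintype.sum_sum_type]

theorem bPlus_nd (n : ℕ) : (bPlus n + (bPlus n)ᵀ) * (bPlus n + (bPlus n)ᵀ) = 1 := by
  simp [bPlus, fromBlocks_transpose, fromBlocks_add, fromBlocks_multiply, fromBlocks_one]

theorem quadFormPlus_eq (n : ℕ) (u : Fin n ⊕ Fin n → ZMod 2) :
    Cfsg.quadFormPlus n (ZMod 2) u = bf (bPlus n) u u := by
  rw [bf_bPlus]; rfl

/-- the anisotropic binary form -/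
def bAn : Matrix (Fin 2) (Fin 2) (ZMod 2) := !![1, 1; 0, 1]

theorem bf_bAn (u w : Fin 2 → ZMod 2) : bf bAn u w = u 0 * (w 0 + w 1) + u 1 * w 1 := by
  simp [bf, bAn, dotProduct, mulVec, Fin.sum_univ_two]

/-- the matrix of the elliptic form -/
def bMinus (m : ℕ) : Matrix ((Fin m ⊕ Fin m) ⊕ Fin 2) ((Fin m ⊕ Fin m) ⊕ Fin 2) (ZMod 2) :=
  fromBlocks (bPlus m) 0 0 bAn

theorem bf_fromBlocks_diag {ι₁ ι₂ : Type} [Fintype ι₁] [Fintype ι₂] [DecidableEq ι₁] [DecidableEq ι₂]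
    (A : Matrix ι₁ ι₁ (ZMod 2)) (D : Matrix ι₂ ι₂ (ZMod 2)) (u w : ι₁ ⊕ ι₂ → ZMod 2) :
    bf (fromBlocks A 0 0 D) u w = bf A (u ∘ Sum.inl) (w ∘ Sum.inl) + bf D (u ∘ Sum.inr) (w ∘ Sum.inr) := by
  simp [bf, dotProduct, fromBlocks_mulVec, Fintype.sum_sum_type]

theorem bMinus_nd (m : ℕ) : (bMinus m + (bMinus m)ᵀ) * (bMinus m + (bMinus m)ᵀ) = 1 := by
  have h1 : (bAn + bAnᵀ) * (bAn + bAnᵀ) = 1 := by decide
  unfold bMinus
  rw [fromBlocks_transpose, fromBlocks_add, fromBlocks_multiply]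
  simp only [transpose_zero, add_zero, Matrix.mul_zero, Matrix.zero_mul, zero_add, bPlus_nd, h1,
    fromBlocks_one]

theorem quadFormMinus_eq (m : ℕ) (u : (Fin m ⊕ Fin m) ⊕ Fin 2 → ZMod 2) :
    Cfsg.quadFormMinus m (ZMod 2) 1 1 u = bf (bMinus m) u u := by
  unfold bMinus
  rw [bf_fromBlocks_diag, bf_bPlus, bf_bAn]
  unfold Cfsg.quadFormMinus
  simp only [Function.comp]
  ring

/-! ### counting: the hyperbolic model -/

/-- the totally singular subgroup -/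
def plusSub (n : ℕ) : Subgroup (CM (bPlus n)) where
  carrier := {a | ∀ i, a.v (Sum.inr i) = 0}
  mul_mem' := by
    intro a c ha hc i
    rw [CM.mul_v, Pi.add_apply, ha i, hc i, add_zero]
  one_mem' := fun i => rfl
  inv_mem' := by
    intro a ha i
    rw [CM.inv_v]; exact ha i

theorem plusSub_bf (n : ℕ) (u w : Fin n ⊕ Fin n → ZMod 2) (hw : ∀ i, w (Sum.inr i) = 0) :
    bf (bPlus n) u w = 0 := by
  rw [bf_bPlus]
  apply Finset.sum_eq_zero
  intro i _
  rw [hw i, mul_zero]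

theorem plusSub_isEA2 (n : ℕ) : IsEA2 (plusSub n) := by
  constructor
  · intro a ha c hc
    rw [CM.comm_iff, plusSub_bf n _ _ hc, plusSub_bf n _ _ ha]
  · intro a ha
    rw [CM.mul_self, plusSub_bf n _ _ ha]; rfl

/-- the totally singular subgroup as a set -/
def plusSubEquiv (n : ℕ) : plusSub n ≃ (Fin n → ZMod 2) × ZMod 2 where
  toFun a := (fun i => a.1.v (Sum.inl i), a.1.s)
  invFun p := ⟨⟨Sum.elim p.1 0, p.2⟩, fun _ => rfl⟩
  left_inv := by
    rintro ⟨a, ha⟩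
    apply Subtype.ext
    apply CM.ext
    · funext k
      rcases k with i | i
      · rfl
      · exact (ha i).symm
    · rfl
  right_inv := by
    rintro ⟨f, s⟩
    rfl

theorem card_plusSub (n : ℕ) : Nat.card (plusSub n) = 2 ^ n * 2 := by
  rw [Nat.card_congr (plusSubEquiv n), Nat.card_prod, Nat.card_eq_fintype_card,
    Nat.card_eq_fintype_card, Fintype.card_fun, ZMod.card, Fintype.card_fin]

theorem card_CM_bPlus (n : ℕ) : Nat.card (CM (bPlus n)) = 2 ^ (2 * n + 1) := by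
  rw [CM.card_eq, Fintype.card_sum, Fintype.card_fin, pow_succ]
  congr 2; omega

theorem sqCount_bPlus (n : ℕ) : 2 * sqCount (CM (bPlus n)) = 2 ^ (2 * n + 1) + 2 ^ (n + 1) := by
  have h := CM.isE2 (bPlus_nd n)
  have h1 := (IsE2.rank_upper _ (CM (bPlus n)) CM.zc h rfl (plusSub n) (plusSub_isEA2 n)).2
  rw [card_plusSub, card_CM_bPlus] at h1
  rw [h1 (by ring), pow_succ 2 n]

/-! ### counting: the elliptic model -/

theorem card_zeros_bPlus (m : ℕ) :
    2 * Nat.card {u : Fin m ⊕ Fin m → ZMod 2 // bf (bPlus m) u u = 0} = 2 ^ (2 * m) + 2 ^ m := by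
  have h1 := sqCount_bPlus m
  rw [CM.sqCount_eq, pow_succ, pow_succ 2 m] at h1
  omega

theorem card_bAn_zero :
    Nat.card {y : Fin 2 → ZMod 2 // (0 : ZMod 2) + bf bAn y y = 0} = 1 := by
  simp only [bf_bAn]
  rw [Nat.card_eq_fintype_card]
  decide

theorem card_bAn_one :
    Nat.card {y : Fin 2 → ZMod 2 // (1 : ZMod 2) + bf bAn y y = 0} = 3 := by
  simp only [bf_bAn]
  rw [Nat.card_eq_fintype_card]
  decide

theorem card_zeros_bMinus (m : ℕ) :
    Nat.card {v : (Fin m ⊕ Fin m) ⊕ Fin 2 → ZMod 2 // bf (bMinus m) v v = 0} +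
      2 * Nat.card {u : Fin m ⊕ Fin m → ZMod 2 // bf (bPlus m) u u = 0} = 3 * 2 ^ (2 * m) := by
  classical
  have e1 : Nat.card {v : (Fin m ⊕ Fin m) ⊕ Fin 2 → ZMod 2 // bf (bMinus m) v v = 0} =
      Nat.card {p : (Fin m ⊕ Fin m → ZMod 2) × (Fin 2 → ZMod 2) //
        bf (bPlus m) p.1 p.1 + bf bAn p.2 p.2 = 0} := by
    apply Nat.card_congr
    apply (Equiv.sumArrowEquivProdArrow _ _ _).subtypeEquiv
    intro v
    unfold bMinus
    rw [bf_fromBlocks_diag]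
    rfl
  rw [e1, Nat.card_congr (Equiv.subtypeProdEquivSigmaSubtype
    (fun (a : Fin m ⊕ Fin m → ZMod 2) (y : Fin 2 → ZMod 2) => bf (bPlus m) a a + bf bAn y y = 0)),
    Nat.card_sigma]
  have e2 : ∀ a : Fin m ⊕ Fin m → ZMod 2,
      Nat.card {y : Fin 2 → ZMod 2 // bf (bPlus m) a a + bf bAn y y = 0} =
        if bf (bPlus m) a a = 0 then 1 else 3 := by
    intro a
    have hs : ∀ x : ZMod 2, x = 0 ∨ x = 1 := by decide
    rcases hs (bf (bPlus m) a a) with h0 | h1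
    · rw [h0, if_pos rfl]; exact card_bAn_zero
    · rw [h1, if_neg (by decide)]; exact card_bAn_one
  simp_rw [e2]
  rw [Finset.sum_ite, Finset.sum_const, Finset.sum_const, smul_eq_mul, smul_eq_mul, mul_one,
    Nat.card_eq_fintype_card, Fintype.card_subtype]
  have h3 := Finset.card_filter_add_card_filter_not (s := (Finset.univ : Finset (Fin m ⊕ Fin m → ZMod 2)))
    (fun a => bf (bPlus m) a a = 0)
  rw [Finset.card_univ, Fintype.card_fun, ZMod.card, Fintype.card_sum, Fintype.card_fin] at h3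
  have h4 : 2 ^ (m + m) = 2 ^ (2 * m) := by congr 1; omega
  rw [h4] at h3
  omega

theorem card_CM_bMinus (m : ℕ) : Nat.card (CM (bMinus m)) = 2 ^ (2 * (m + 1) + 1) := by
  rw [CM.card_eq, Fintype.card_sum, Fintype.card_sum, Fintype.card_fin, Fintype.card_fin, ← pow_succ]
  congr 1; omega

theorem sqCount_bMinus (m : ℕ) :
    2 * sqCount (CM (bMinus m)) + 2 ^ (m + 1 + 1) = 2 ^ (2 * (m + 1) + 1) := by
  have h1 := card_zeros_bMinus m
  have h2 := card_zeros_bPlus m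
  rw [CM.sqCount_eq]
  have h3 : 2 ^ (2 * (m + 1) + 1) = 8 * 2 ^ (2 * m) := by
    rw [show 2 * (m + 1) + 1 = 2 * m + 3 by ring, pow_add]; ring
  have h4 : 2 ^ (m + 1 + 1) = 4 * 2 ^ m := by
    rw [pow_succ, pow_succ]; ring
  rw [h3, h4]
  omega

/-! ### outer automorphism groups of the extraspecial `2`-groups -/

universe u

theorem out_plus {E : Type u} [Group E] [Finite E] (hE : Cfsg.IsExtraspecial 2 E) (n : ℕ)
    (hn : 1 ≤ n) (hcard : Nat.card E = 2 ^ (2 * n + 1)) (A : Subgroup E) (hA : IsEA2 A)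
    (hAc : Nat.card A = 2 ^ (n + 1)) :
    Nonempty (Cfsg.Out E ≃* Cfsg.isometryGroup (ZMod 2) (Cfsg.quadFormPlus n (ZMod 2))) := by
  obtain ⟨z, h⟩ := IsE2.of_isExtraspecial hE
  have h1 := (IsE2.rank_upper _ E z h rfl A hA).2
  rw [hAc, hcard] at h1
  have h2 := h1 (by rw [← pow_mul, ← pow_succ']; congr 1; omega)
  have hs : sqCount E = sqCount (CM (bPlus n)) := by
    have := sqCount_bPlus n
    omega
  obtain ⟨e⟩ := IsE2.iso_main _ E (CM (bPlus n)) z CM.zc h (CM.isE2 (bPlus_nd n)) hcard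
    (card_CM_bPlus n) hs
  obtain ⟨e1⟩ := out_congr e
  have : Nonempty (Fin n ⊕ Fin n) := ⟨Sum.inl ⟨0, hn⟩⟩
  obtain ⟨e2⟩ := CM.out_equiv (bPlus_nd n) (Cfsg.quadFormPlus n (ZMod 2)) (quadFormPlus_eq n)
  exact ⟨e1.trans e2⟩

theorem out_minus {E : Type u} [Group E] [Finite E] (hE : Cfsg.IsExtraspecial 2 E) (n : ℕ)
    (hn : 1 ≤ n) (hcard : Nat.card E = 2 ^ (2 * n + 1))
    (hno : ¬ ∃ A : Subgroup E, IsEA2 A ∧ Nat.card A = 2 ^ (n + 1)) :
    Nonempty (Cfsg.Out E ≃* Cfsg.isometryGroup (ZMod 2) (Cfsg.quadFormMinus (n - 1) (ZMod 2) 1 1)) := by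
  obtain ⟨m, rfl⟩ : ∃ m, n = m + 1 := ⟨n - 1, by omega⟩
  rw [Nat.add_sub_cancel]
  obtain ⟨z, h⟩ := IsE2.of_isExtraspecial hE
  obtain ⟨A, hA, hcase⟩ := IsE2.rank_lower _ E z h rfl
  rw [hcard] at hcase
  have hs : sqCount E = sqCount (CM (bMinus m)) := by
    rcases hcase with ⟨c1, -⟩ | ⟨c1, c2⟩
    · exfalso
      apply hno
      refine ⟨A, hA, ?_⟩
      have : Nat.card A ^ 2 = (2 ^ (m + 1 + 1)) ^ 2 := by
        rw [c1, ← pow_mul, ← pow_succ']; congr 1; omega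
      exact Nat.pow_left_injective (by norm_num : 2 ≠ 0) this
    · have hA2 : Nat.card A = 2 ^ (m + 1) := by
        have : Nat.card A ^ 2 = (2 ^ (m + 1)) ^ 2 := by
          have e : 2 ^ (2 * (m + 1) + 1) = 2 * (2 ^ (m + 1)) ^ 2 := by
            rw [← pow_mul, ← pow_succ']; congr 1; omega
          rw [e] at c1
          omega
        exact Nat.pow_left_injective (by norm_num : 2 ≠ 0) this
      rw [hA2] at c2
      have := sqCount_bMinus m
      have e : 2 ^ (m + 1 + 1) = 2 * 2 ^ (m + 1) := by rw [pow_succ]; ring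
      omega
  obtain ⟨e⟩ := IsE2.iso_main _ E (CM (bMinus m)) z CM.zc h (CM.isE2 (bMinus_nd m)) hcard
    (card_CM_bMinus m) hs
  obtain ⟨e1⟩ := out_congr e
  have : Nonempty ((Fin m ⊕ Fin m) ⊕ Fin 2) := ⟨Sum.inr 0⟩
  obtain ⟨e2⟩ := CM.out_equiv (bMinus_nd m) (Cfsg.quadFormMinus m (ZMod 2) 1 1)
    (quadFormMinus_eq m)
  exact ⟨e1.trans e2⟩

end Cfsg.Agent.Lib.Helper29
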