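import Mathlib
import Cfsg.Agent.Lib.Helper29.ExtraTwoRank
import Cfsg.Agent.Lib.Helper2.PGroup
import Cfsg.Agent.Lib.Helper47.Frattini

set_option autoImplicit false

/-!
Construction of the extraspecial `2`-groups of both types: the central product of a group with
centre `{1, z}` with a dihedral or quaternion group of order eight, as a twisted product.
-/

namespace Cfsg.Agent.Lib.Helper29

open scoped commutatorElement

/-- a non-commutative group with centre `{1, z}` containing the commutator subgroup is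
extraspecial -/
theorem IsE2.isExtraspecial {P : Type*} [Group P] [Finite P] {z : P} (h : IsE2 P z)
    (hna : ∃ x y : P, x * y ≠ y * x) : Cfsg.IsExtraspecial 2 P := by
  have hf2 : Fact (Nat.Prime 2) := ⟨Nat.prime_two⟩
  obtain ⟨m, hm, -, -⟩ := IsE2.count_main _ P z h rfl
  have hP : IsPGroup 2 P := IsPGroup.of_card hm
  obtain ⟨x, y, hxy⟩ := hna
  have hcomm : commutator P = Subgroup.center P := by
    apply le_antisymm h.comm
    intro w hw
    rcases h.all w hw with rfl | rfl
    · exact Subgroup.one_mem _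
    · rw [← h.cm_eq_z hxy]; exact cm_mem_commutator x y
  refine ⟨⟨hP, ?_, hcomm⟩, h.card_center⟩
  apply le_antisymm
  · apply Cfsg.Agent.Lib.Helper47.frattini_le_of_elementary_abelian_quotient 2
    · intro a b
      rw [commutatorElement_def]
      exact cm_mem_center h.comm a b
    · intro a
      rw [pow_two]; exact h.sq_mem_center a
  · rw [← hcomm]
    exact Cfsg.Agent.Lib.Helper2.commutator_le_frattini hP

/-- the cocycle of the twisted product: dihedral for `ε = false`, quaternion for `ε = true` -/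
def cdc (ε i j i' j' : Bool) : Bool := xor (j && i') (ε && xor (i && i') (j && j'))

theorem cdc_assoc (ε i j i' j' i'' j'' : Bool) :
    xor (cdc ε i j i' j') (cdc ε (xor i i') (xor j j') i'' j'') =
      xor (cdc ε i' j' i'' j'') (cdc ε i j (xor i' i'') (xor j' j'')) := by
  revert ε i j i' j' i'' j''
  decide

/-- carrier of the twisted product -/
@[ext] structure CD (P : Type) (z : P) (ε : Bool) where
  g : P
  i : Bool
  j : Bool

namespace CD

variable {P : Type} [Group P] {z : P} {ε : Bool}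

instance : Mul (CD P z ε) :=
  ⟨fun a b => ⟨a.g * b.g * bp z (cdc ε a.i a.j b.i b.j), xor a.i b.i, xor a.j b.j⟩⟩

instance : One (CD P z ε) := ⟨⟨1, false, false⟩⟩

instance : Inv (CD P z ε) := ⟨fun a => ⟨a.g⁻¹ * bp z (cdc ε a.i a.j a.i a.j), a.i, a.j⟩⟩

theorem mul_g (a b : CD P z ε) : (a * b).g = a.g * b.g * bp z (cdc ε a.i a.j b.i b.j) := rfl
theorem mul_i (a b : CD P z ε) : (a * b).i = xor a.i b.i := rfl
theorem mul_j (a b : CD P z ε) : (a * b).j = xor a.j b.j := rfl
theorem one_g : (1 : CD P z ε).g = 1 := rfl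
theorem one_i : (1 : CD P z ε).i = false := rfl
theorem one_j : (1 : CD P z ε).j = false := rfl
theorem inv_g (a : CD P z ε) : (a⁻¹).g = a.g⁻¹ * bp z (cdc ε a.i a.j a.i a.j) := rfl
theorem inv_i (a : CD P z ε) : (a⁻¹).i = a.i := rfl
theorem inv_j (a : CD P z ε) : (a⁻¹).j = a.j := rfl

section
variable (h : IsE2 P z)
include h

theorem bp_comm (g : P) (b : Bool) : g * bp z b = bp z b * g := by
  cases b
  · simp [bp]
  · exact h.zcomm g

theorem bp_mul (a b : Bool) : bp z a * bp z b = bp z (xor a b) := by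
  cases a <;> cases b <;> simp [bp, h.sq]

theorem bp_eq_one_iff (b : Bool) : bp z b = 1 ↔ b = false := by
  cases b
  · simp [bp]
  · simp [bp, h.ne]

theorem mul_assoc' (a b c : CD P z ε) : a * b * c = a * (b * c) := by
  apply CD.ext
  · rw [mul_g, mul_g, mul_g, mul_g, mul_i, mul_j, mul_i, mul_j]
    set u₁ := bp z (cdc ε a.i a.j b.i b.j)
    set u₂ := bp z (cdc ε (xor a.i b.i) (xor a.j b.j) c.i c.j)
    set u₃ := bp z (cdc ε b.i b.j c.i c.j)
    set u₄ := bp z (cdc ε a.i a.j (xor b.i c.i) (xor b.j c.j))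
    have e : u₁ * c.g = c.g * u₁ := (bp_comm h c.g _).symm
    have e2 : u₁ * u₂ = u₃ * u₄ := by
      rw [bp_mul h, bp_mul h, cdc_assoc]
    calc a.g * b.g * u₁ * c.g * u₂ = a.g * b.g * (u₁ * c.g) * u₂ := by group
      _ = a.g * b.g * (c.g * u₁) * u₂ := by rw [e]
      _ = a.g * b.g * c.g * (u₁ * u₂) := by group
      _ = a.g * b.g * c.g * (u₃ * u₄) := by rw [e2]
      _ = a.g * (b.g * c.g * u₃) * u₄ := by group
  · rw [mul_i, mul_i, mul_i, mul_i, Bool.xor_assoc]
  · rw [mul_j, mul_j, mul_j, mul_j, Bool.xor_assoc]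

theorem one_mul' (a : CD P z ε) : 1 * a = a := by
  apply CD.ext
  · rw [mul_g, one_g, one_i, one_j]
    simp [cdc, bp]
  · rw [mul_i, one_i]; simp
  · rw [mul_j, one_j]; simp

theorem inv_mul_cancel' (a : CD P z ε) : a⁻¹ * a = 1 := by
  apply CD.ext
  · rw [mul_g, inv_g, inv_i, inv_j, one_g]
    set u := bp z (cdc ε a.i a.j a.i a.j)
    have e : u * a.g = a.g * u := (bp_comm h a.g _).symm
    have e2 : u * u = 1 := by rw [bp_mul h]; simp [bp]
    calc a.g⁻¹ * u * a.g * u = a.g⁻¹ * (u * a.g) * u := by group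
      _ = a.g⁻¹ * (a.g * u) * u := by rw [e]
      _ = u * u := by group
      _ = 1 := e2
  · rw [mul_i, inv_i, one_i]; simp
  · rw [mul_j, inv_j, one_j]; simp

end

/-- the group structure on the twisted product -/
instance group [hf : Fact (IsE2 P z)] : Group (CD P z ε) :=
  Group.ofLeftAxioms (mul_assoc' hf.out) (one_mul' hf.out) (inv_mul_cancel' hf.out)

/-- the carrier is `P × Bool × Bool` -/
def equivProd : CD P z ε ≃ P × Bool × Bool where
  toFun a := (a.g, a.i, a.j)
  invFun w := ⟨w.1, w.2.1, w.2.2⟩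
  left_inv _ := rfl
  right_inv _ := rfl

instance [Finite P] : Finite (CD P z ε) := Finite.of_equiv _ equivProd.symm

theorem card_eq : Nat.card (CD P z ε) = 4 * Nat.card P := by
  rw [Nat.card_congr equivProd, Nat.card_prod, Nat.card_prod]
  simp
  ring

variable [hf : Fact (IsE2 P z)]

/-- the central element -/
def zz : CD P z ε := ⟨z, false, false⟩

theorem mul_central (u : P) (hu : u ∈ Subgroup.center P) (a : CD P z ε) :
    a * (⟨u, false, false⟩ : CD P z ε) = ⟨a.g * u, a.i, a.j⟩ := by
  apply CD.ext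
  · rw [mul_g]; simp [cdc, bp]
  · rw [mul_i]; simp
  · rw [mul_j]; simp

theorem central_mul (u : P) (hu : u ∈ Subgroup.center P) (a : CD P z ε) :
    (⟨u, false, false⟩ : CD P z ε) * a = ⟨a.g * u, a.i, a.j⟩ := by
  apply CD.ext
  · rw [mul_g]; simp [cdc, bp]
    exact (Subgroup.mem_center_iff.mp hu a.g).symm
  · rw [mul_i]; simp
  · rw [mul_j]; simp

theorem mem_center_of (u : P) (hu : u ∈ Subgroup.center P) :
    (⟨u, false, false⟩ : CD P z ε) ∈ Subgroup.center (CD P z ε) := by
  rw [Subgroup.mem_center_iff]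
  intro a
  rw [mul_central u hu, central_mul u hu]

/-- two elements commute up to a central element -/
theorem exists_central_mul (a b : CD P z ε) :
    ∃ u ∈ Subgroup.center P, a * b = b * a * (⟨u, false, false⟩ : CD P z ε) := by
  have h := hf.out
  set u₁ := bp z (cdc ε a.i a.j b.i b.j)
  set u₂ := bp z (cdc ε b.i b.j a.i a.j)
  have hu₁ : u₁ ∈ Subgroup.center P := by
    rw [Subgroup.mem_center_iff]; intro g; exact bp_comm h g _
  have hu₂ : u₂ ∈ Subgroup.center P := by
    rw [Subgroup.mem_center_iff]; intro g; exact bp_comm h g _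
  refine ⟨cm a.g b.g * u₁ * u₂, ?_, ?_⟩
  · exact Subgroup.mul_mem _ (Subgroup.mul_mem _ (cm_mem_center h.comm _ _) hu₁) hu₂
  · rw [mul_central _ (Subgroup.mul_mem _ (Subgroup.mul_mem _ (cm_mem_center h.comm _ _) hu₁) hu₂)]
    apply CD.ext
    · show a.g * b.g * u₁ = b.g * a.g * u₂ * (cm a.g b.g * u₁ * u₂)
      have e1 : u₂ * cm a.g b.g = cm a.g b.g * u₂ := Subgroup.mem_center_iff.mp hu₂ _ |>.symm ▸ rfl
      have e2 : u₂ * u₂ = 1 := by rw [bp_mul h]; simp [bp]
      have e3 : u₁ * u₂ = u₂ * u₁ := by rw [bp_mul h, bp_mul h, Bool.xor_comm]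
      calc a.g * b.g * u₁ = cm a.g b.g * (b.g * a.g) * u₁ := by simp only [cm]; group
        _ = (b.g * a.g) * cm a.g b.g * u₁ := by rw [cm_comm h.comm a.g b.g (b.g * a.g)]
        _ = b.g * a.g * cm a.g b.g * u₁ * (u₂ * u₂) := by rw [e2, mul_one]
        _ = b.g * a.g * cm a.g b.g * (u₁ * u₂) * u₂ := by group
        _ = b.g * a.g * cm a.g b.g * (u₂ * u₁) * u₂ := by rw [e3]
        _ = b.g * a.g * (cm a.g b.g * u₂) * u₁ * u₂ := by group
        _ = b.g * a.g * (u₂ * cm a.g b.g) * u₁ * u₂ := by rw [e1]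
        _ = b.g * a.g * u₂ * (cm a.g b.g * u₁ * u₂) := by group
    · show xor a.i b.i = xor b.i a.i
      exact Bool.xor_comm _ _
    · show xor a.j b.j = xor b.j a.j
      exact Bool.xor_comm _ _

omit hf in
theorem bp_injective (h : IsE2 P z) {a b : Bool} (e : bp z a = bp z b) : a = b := by
  cases a <;> cases b
  · rfl
  · exact absurd e.symm h.ne
  · exact absurd e h.ne
  · rfl

theorem cdc_x (ε i j : Bool) : xor j (ε && i) = (ε && i) → j = false := by
  revert ε i j; decide

theorem cdc_y (ε i j : Bool) : (ε && j) = xor i (ε && j) → i = false := by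
  revert ε i j; decide

theorem isE2 : IsE2 (CD P z ε) (zz : CD P z ε) where
  mem := mem_center_of z hf.out.mem
  ne := fun e => hf.out.ne (congrArg CD.g e)
  all := by
    intro w hw
    have h := hf.out
    rw [Subgroup.mem_center_iff] at hw
    have hj : w.j = false := by
      have e := congrArg CD.g (hw ⟨1, true, false⟩)
      rw [mul_g, mul_g] at e
      simp only [cdc, one_mul, mul_one, Bool.and_true, Bool.and_false, Bool.false_and,
        Bool.true_and, Bool.xor_false, Bool.false_xor] at e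
      have e' := bp_injective h (mul_left_cancel e)
      exact cdc_x ε w.i w.j e'.symm
    have hi : w.i = false := by
      have e := congrArg CD.g (hw ⟨1, false, true⟩)
      rw [mul_g, mul_g] at e
      simp only [cdc, one_mul, mul_one, Bool.and_true, Bool.and_false, Bool.false_and,
        Bool.true_and, Bool.xor_false, Bool.false_xor] at e
      have e' := bp_injective h (mul_left_cancel e)
      exact cdc_y ε w.i w.j e'.symm
    have hg : w.g ∈ Subgroup.center P := by
      rw [Subgroup.mem_center_iff]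
      intro g'
      have e := congrArg CD.g (hw ⟨g', false, false⟩)
      rw [mul_g, mul_g, hi, hj] at e
      simpa [cdc, bp] using e
    rcases h.all w.g hg with h1 | h1
    · left
      apply CD.ext
      · exact h1
      · exact hi
      · exact hj
    · right
      apply CD.ext
      · exact h1
      · exact hi
      · exact hj
  comm := by
    rw [commutator_def, Subgroup.commutator_le]
    intro a _ b _
    obtain ⟨u, hu, e⟩ := exists_central_mul a b
    have hw := mem_center_of (z := z) (ε := ε) u hu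
    rw [Subgroup.mem_center_iff] at hw
    have : ⁅a, b⁆ = (⟨u, false, false⟩ : CD P z ε) := by
      have e3 := hw (b * a)
      rw [commutatorElement_def, e, e3]
      group
    rw [this]
    exact mem_center_of u hu

theorem not_comm : ∃ x y : CD P z ε, x * y ≠ y * x := by
  refine ⟨⟨1, true, false⟩, ⟨1, false, true⟩, fun e => ?_⟩
  have e' := congrArg CD.g e
  rw [mul_g, mul_g] at e'
  simp [cdc, bp] at e'
  exact hf.out.ne e'.symm

theorem sq_eq_one_iff (a : CD P z ε) :
    a ^ 2 = 1 ↔ (if cdc ε a.i a.j a.i a.j then a.g ^ 2 ≠ 1 else a.g ^ 2 = 1) := by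
  have h := hf.out
  have e1 : a ^ 2 = 1 ↔ a.g * a.g * bp z (cdc ε a.i a.j a.i a.j) = 1 := by
    rw [pow_two]
    constructor
    · intro e
      have := congrArg CD.g e
      rwa [mul_g] at this
    · intro e
      apply CD.ext
      · rw [mul_g]; exact e
      · rw [mul_i]; simp [one_i]
      · rw [mul_j]; simp [one_j]
  rw [e1, pow_two]
  cases cdc ε a.i a.j a.i a.j
  · simp [bp]
  · simp only [bp, if_true]
    rcases h.sq_cases a.g with h1 | h1
    · rw [h1, one_mul]
      constructor
      · intro e; exact absurd e h.ne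
      · intro e; exact absurd rfl e
    · rw [h1, h.sq]
      constructor
      · intro _ e; exact h.ne e
      · intro _; rfl

theorem sqCount_false [Finite P] : sqCount (CD P z false) = 2 * sqCount P + Nat.card P := by
  classical
  have hfP := Fintype.ofFinite P
  unfold sqCount
  rw [Nat.card_congr ((equivProd (P := P) (z := z) (ε := false)).subtypeEquiv
    (q := fun w : P × Bool × Bool =>
      if cdc false w.2.1 w.2.2 w.2.1 w.2.2 then w.1 ^ 2 ≠ 1 else w.1 ^ 2 = 1)
    (fun a => sq_eq_one_iff a))]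
  rw [Nat.card_eq_fintype_card, Nat.card_eq_fintype_card, Nat.card_eq_fintype_card,
    Fintype.card_subtype, Fintype.card_subtype, Finset.card_filter, Finset.card_filter,
    Fintype.sum_prod_type]
  simp only [Fintype.sum_prod_type, Fintype.sum_bool, cdc, Bool.and_false,
    Bool.and_true, Bool.false_and, Bool.xor_false, if_true, Bool.false_eq_true, if_false]
  rw [Finset.mul_sum, ← Finset.card_univ, Finset.card_eq_sum_ones, ← Finset.sum_add_distrib]
  apply Finset.sum_congr rfl
  intro q _
  by_cases hq : q ^ 2 = 1 <;> simp [hq]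

theorem sqCount_true [Finite P] : sqCount (CD P z true) + 2 * sqCount P = 3 * Nat.card P := by
  classical
  have hfP := Fintype.ofFinite P
  unfold sqCount
  rw [Nat.card_congr ((equivProd (P := P) (z := z) (ε := true)).subtypeEquiv
    (q := fun w : P × Bool × Bool =>
      if cdc true w.2.1 w.2.2 w.2.1 w.2.2 then w.1 ^ 2 ≠ 1 else w.1 ^ 2 = 1)
    (fun a => sq_eq_one_iff a))]
  rw [Nat.card_eq_fintype_card, Nat.card_eq_fintype_card, Nat.card_eq_fintype_card,
    Fintype.card_subtype, Fintype.card_subtype, Finset.card_filter, Finset.card_filter,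
    Fintype.sum_prod_type]
  simp only [Fintype.sum_prod_type, Fintype.sum_bool, cdc, Bool.and_false,
    Bool.and_true, Bool.true_and, Bool.xor_false, Bool.false_xor, Bool.xor_self, Bool.true_xor,
    Bool.not_true, if_true, Bool.false_eq_true, if_false]
  rw [Finset.mul_sum, ← Finset.card_univ, Finset.card_eq_sum_ones,
    Finset.mul_sum, ← Finset.sum_add_distrib]
  apply Finset.sum_congr rfl
  intro q _
  by_cases hq : q ^ 2 = 1 <;> simp [hq]

end CD

/-- the group of order two -/
theorem isE2_zmod_two : IsE2 (Multiplicative (ZMod 2)) (Multiplicative.ofAdd 1) where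
  mem := by
    rw [Subgroup.mem_center_iff]
    intro g
    exact mul_comm _ _
  ne := by decide
  all := by
    intro w _
    revert w
    decide
  comm := by
    rw [CommGroup.center_eq_top]
    exact le_top

/-- groups of plus type exist -/
theorem exists_plus : ∀ n : ℕ, ∃ (P : Type) (_ : Group P) (_ : Finite P) (z : P),
    IsE2 P z ∧ Nat.card P = 2 ^ (2 * n + 1) ∧ sqCount P = 2 ^ (2 * n) + 2 ^ n := by
  intro n
  induction n with
  | zero =>
    have hc : Nat.card (Multiplicative (ZMod 2)) = 2 := by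
      rw [Nat.card_eq_fintype_card, Fintype.card_multiplicative, ZMod.card]
    refine ⟨Multiplicative (ZMod 2), inferInstance, inferInstance, _, isE2_zmod_two, ?_, ?_⟩
    · rw [hc]; norm_num
    · rw [isE2_zmod_two.sqCount_of_card_two hc]; norm_num
  | succ n ih =>
    obtain ⟨P, _, _, z, h, hc, hs⟩ := ih
    have : Fact (IsE2 P z) := ⟨h⟩
    refine ⟨CD P z false, inferInstance, inferInstance, CD.zz, CD.isE2, ?_, ?_⟩
    · rw [CD.card_eq, hc]; ring
    · rw [CD.sqCount_false, hs, hc]; ring

/-- groups of minus type exist -/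
theorem exists_minus : ∀ n : ℕ, 1 ≤ n → ∃ (P : Type) (_ : Group P) (_ : Finite P) (z : P),
    IsE2 P z ∧ Nat.card P = 2 ^ (2 * n + 1) ∧ sqCount P + 2 ^ n = 2 ^ (2 * n) := by
  intro n hn
  obtain ⟨m, rfl⟩ : ∃ m, n = m + 1 := ⟨n - 1, by omega⟩
  obtain ⟨P, _, _, z, h, hc, hs⟩ := exists_plus m
  have : Fact (IsE2 P z) := ⟨h⟩
  refine ⟨CD P z true, inferInstance, inferInstance, CD.zz, CD.isE2, ?_, ?_⟩
  · rw [CD.card_eq, hc]; ring
  · have e := CD.sqCount_true (P := P) (z := z)
    rw [hs, hc] at e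
    have e1 : 2 ^ (2 * m + 1) = 2 * 2 ^ (2 * m) := by ring
    have e2 : 2 ^ (m + 1) = 2 * 2 ^ m := by ring
    have e3 : 2 ^ (2 * (m + 1)) = 4 * 2 ^ (2 * m) := by ring
    rw [e2, e3]
    omega

theorem sSup_rank {P : Type*} [Group P] [Finite P] (N : ℕ) (hN : Nat.card P = 2 ^ N) (r : ℕ)
    (hr : 1 ≤ r) (h1 : Cfsg.PRankLE 2 r P) (h2 : ¬ Cfsg.PRankLE 2 (r - 1) P) :
    sSup {k : ℕ | ∃ A : Subgroup P, Cfsg.IsElementaryAbelian 2 A ∧ Nat.card A = 2 ^ k} = r := by
  apply IsGreatest.csSup_eq
  constructor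
  · unfold Cfsg.PRankLE at h2
    push Not at h2
    obtain ⟨A, hc, h2A, hlt⟩ := h2
    have hd : Nat.card A ∣ 2 ^ N := hN ▸ Subgroup.card_subgroup_dvd_card A
    obtain ⟨k, -, hk⟩ := (Nat.dvd_prime_pow Nat.prime_two).mp hd
    have hle := h1 A hc h2A
    rw [hk] at hle hlt
    have hk1 := (Nat.pow_le_pow_iff_right (le_refl 2)).mp hle
    have hk2 := (Nat.pow_lt_pow_iff_right (le_refl 2)).mp hlt
    have : k = r := by omega
    subst this
    exact ⟨A, ⟨hc, h2A⟩, hk⟩
  · rintro k ⟨A, ⟨hc, h2A⟩, hk⟩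
    have hle := h1 A hc h2A
    rw [hk] at hle
    exact (Nat.pow_le_pow_iff_right (le_refl 2)).mp hle

/-- extraspecial groups of order `2^(2n+1)` and rank `n + 1` exist -/
theorem exists_extraspecial_rank_succ (n : ℕ) (hn : 1 ≤ n) :
    ∃ (E : Type) (_ : Group E) (_ : Finite E), Cfsg.IsExtraspecial 2 E ∧
      Nat.card E = 2 ^ (2 * n + 1) ∧
      sSup {k : ℕ | ∃ A : Subgroup E, Cfsg.IsElementaryAbelian 2 A ∧ Nat.card A = 2 ^ k} =
        n + 1 := by
  obtain ⟨P, _, _, z, h, hc, hs⟩ := exists_plus n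
  have hna : ∃ x y : P, x * y ≠ y * x := by
    apply h.not_comm_of_card
    rw [hc]
    intro e
    have : 2 ^ (2 * n + 1) = 2 ^ 1 := by rw [e, pow_one]
    have := Nat.pow_right_injective (le_refl 2) this
    omega
  have hE := h.isExtraspecial hna
  refine ⟨P, inferInstance, inferInstance, hE, hc, ?_⟩
  rcases rank_extraspecial_two hE n hc with ⟨-, -, c⟩ | ⟨a, b, -⟩
  · exfalso
    rw [hs] at c
    have e1 : 2 ^ (2 * n + 1) = 2 * 2 ^ (2 * n) := by ring
    have : 0 < 2 ^ (n + 1) := by positivity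
    have : 0 < 2 ^ n := by positivity
    omega
  · exact sSup_rank (2 * n + 1) hc (n + 1) (by omega) a (by simpa using b)

/-- extraspecial groups of order `2^(2n+1)` and rank `n` exist -/
theorem exists_extraspecial_rank_self (n : ℕ) (hn : 1 ≤ n) :
    ∃ (E : Type) (_ : Group E) (_ : Finite E), Cfsg.IsExtraspecial 2 E ∧
      Nat.card E = 2 ^ (2 * n + 1) ∧
      sSup {k : ℕ | ∃ A : Subgroup E, Cfsg.IsElementaryAbelian 2 A ∧ Nat.card A = 2 ^ k} =
        n := by
  obtain ⟨P, _, _, z, h, hc, hs⟩ := exists_minus n hn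
  have hna : ∃ x y : P, x * y ≠ y * x := by
    apply h.not_comm_of_card
    rw [hc]
    intro e
    have : 2 ^ (2 * n + 1) = 2 ^ 1 := by rw [e, pow_one]
    have := Nat.pow_right_injective (le_refl 2) this
    omega
  have hE := h.isExtraspecial hna
  refine ⟨P, inferInstance, inferInstance, hE, hc, ?_⟩
  rcases rank_extraspecial_two hE n hc with ⟨a, b, -⟩ | ⟨-, -, c⟩
  · exact sSup_rank (2 * n + 1) hc n hn a b
  · exfalso
    have e1 : 2 ^ (2 * n + 1) = 2 * 2 ^ (2 * n) := by ring
    have e2 : 2 ^ (n + 1) = 2 * 2 ^ n := by ring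
    have : 0 < 2 ^ n := by positivity
    omega

end Cfsg.Agent.Lib.Helper29
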