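import Mathlib
import Cfsg.Agent.Lib.Helper29.CocycleStd

set_option autoImplicit false
set_option linter.unusedSectionVars false

/-!
# The Schrödinger representation of `2^{1+2n}_+` over the field with three elements

The group `CM (bPlus n)` acts on the functions `(Fin n → ZMod 2) → ZMod 3` by translations and
sign changes.  The representation is faithful and irreducible, its centraliser consists of the
scalars, and every automorphism of the group is induced by an invertible intertwiner.
-/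

namespace Cfsg.Agent.Lib.Helper29

open Matrix

namespace Schro

variable {n : ℕ}

/-- the sign character -/
def eps (t : ZMod 2) : ZMod 3 := if t = 0 then 1 else -1

theorem eps_add (s t : ZMod 2) : eps (s + t) = eps s * eps t := by revert s t; decide
theorem eps_zero : eps 0 = 1 := rfl
theorem eps_one : eps 1 = -1 := by decide
theorem eps_ne_zero (t : ZMod 2) : eps t ≠ 0 := by revert t; decide
theorem eps_mul_self (t : ZMod 2) : eps t * eps t = 1 := by revert t; decide
theorem eps_eq_one_iff (t : ZMod 2) : eps t = 1 ↔ t = 0 := by revert t; decide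

/-- the points -/
abbrev X (n : ℕ) := Fin n → ZMod 2
/-- the functions -/
abbrev Vf (n : ℕ) := X n → ZMod 3
/-- the group -/
abbrev CMp (n : ℕ) := CM (bPlus n)

/-- the translation part -/
def tw (a : CMp n) : X n := fun i => a.v (Sum.inl i)
/-- the character part -/
def ch (a : CMp n) : X n := fun i => a.v (Sum.inr i)

theorem tw_mul (a c : CMp n) : tw (a * c) = tw a + tw c := rfl
theorem ch_mul (a c : CMp n) : ch (a * c) = ch a + ch c := rfl
theorem tw_one : tw (1 : CMp n) = 0 := rfl
theorem ch_one : ch (1 : CMp n) = 0 := rfl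

theorem s_mul (a c : CMp n) : (a * c).s = a.s + c.s + tw a ⬝ᵥ ch c := by
  rw [CM.mul_s, bf_bPlus]; rfl

theorem v_eq_zero_iff (a : CMp n) : a.v = 0 ↔ tw a = 0 ∧ ch a = 0 := by
  constructor
  · intro h
    constructor
    · funext i; show a.v (Sum.inl i) = 0; rw [h]; rfl
    · funext i; show a.v (Sum.inr i) = 0; rw [h]; rfl
  · rintro ⟨h1, h2⟩
    funext k
    rcases k with i | i
    · exact congrFun h1 i
    · exact congrFun h2 i

theorem add_eq_iff (x t y : X n) : x + t = y ↔ x = y + t := by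
  constructor
  · intro h; rw [← h, add_assoc, vec_add_self, add_zero]
  · intro h; rw [h, add_assoc, vec_add_self, add_zero]

/-- the representation -/
def rho (a : CMp n) : Module.End (ZMod 3) (Vf n) where
  toFun f := fun x => eps (a.s + ch a ⬝ᵥ x) * f (x + tw a)
  map_add' f g := by funext x; simp [mul_add]
  map_smul' c f := by funext x; simp [mul_left_comm]

theorem rho_apply (a : CMp n) (f : Vf n) (x : X n) :
    rho a f x = eps (a.s + ch a ⬝ᵥ x) * f (x + tw a) := rfl

theorem rho_mul (a c : CMp n) : rho (a * c) = rho a * rho c := by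
  apply LinearMap.ext; intro f; funext x
  rw [Module.End.mul_apply, rho_apply, rho_apply, rho_apply, s_mul, ch_mul, tw_mul, ← mul_assoc,
    ← eps_add, add_assoc x]
  congr 2
  rw [add_dotProduct, dotProduct_add, dotProduct_comm (tw a) (ch c)]
  ring

theorem rho_one : rho (1 : CMp n) = 1 := by
  apply LinearMap.ext; intro f; funext x
  rw [rho_apply, CM.one_s, ch_one, tw_one, zero_dotProduct, add_zero, add_zero, eps_zero, one_mul]
  rfl

/-- the representation as a monoid hom -/
def rhoHom : CMp n →* Module.End (ZMod 3) (Vf n) where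
  toFun := rho
  map_one' := rho_one
  map_mul' := rho_mul

/-- the basis vectors -/
def dl (y : X n) : Vf n := Pi.single y 1

theorem dl_apply (y x : X n) : dl y x = if x = y then 1 else 0 := by
  unfold dl; rw [Pi.single_apply]

theorem rho_dl (a : CMp n) (y : X n) :
    rho a (dl y) = eps (a.s + ch a ⬝ᵥ (y + tw a)) • dl (y + tw a) := by
  funext x
  rw [rho_apply, Pi.smul_apply, dl_apply, dl_apply, smul_eq_mul]
  by_cases h : x + tw a = y
  · rw [if_pos h, if_pos ((add_eq_iff _ _ _).1 h), (add_eq_iff _ _ _).1 h]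
  · rw [if_neg h, if_neg (fun h' => h ((add_eq_iff _ _ _).2 h')), mul_zero, mul_zero]

theorem lin_ext (M N : Module.End (ZMod 3) (Vf n)) (h : ∀ y, M (dl y) = N (dl y)) : M = N := by
  apply LinearMap.pi_ext
  intro y c
  have e : (Pi.single y c : Vf n) = c • dl y := by
    unfold dl
    rw [← Pi.single_smul, smul_eq_mul, mul_one]
  rw [e, map_smul, map_smul, h]

theorem exists_ne_of_ne_zero (f : Vf n) (hf : f ≠ 0) : ∃ y, f y ≠ 0 := by
  by_contra hcon
  push Not at hcon
  exact hf (funext hcon)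

/-! ### orthogonality -/

theorem two_pow_ne_zero : ((2 : ZMod 3) ^ n) ≠ 0 := by
  apply pow_ne_zero; decide

theorem sum_eps (y : X n) :
    ∑ φ : X n, eps (φ ⬝ᵥ y) = if y = 0 then (2 : ZMod 3) ^ n else 0 := by
  by_cases hy : y = 0
  · rw [if_pos hy, hy]
    simp only [dotProduct_zero, eps_zero, Finset.sum_const, Finset.card_univ, Fintype.card_fun,
      ZMod.card, Fintype.card_fin, nsmul_eq_mul, mul_one]
    push_cast
    rfl
  · rw [if_neg hy]
    obtain ⟨i, hi⟩ : ∃ i, y i ≠ 0 := by
      by_contra hcon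
      push Not at hcon
      exact hy (funext hcon)
    have hi1 : y i = 1 := by
      have h2 : ∀ t : ZMod 2, t ≠ 0 → t = 1 := by decide
      exact h2 _ hi
    have key : ∑ φ : X n, eps (φ ⬝ᵥ y) = - ∑ φ : X n, eps (φ ⬝ᵥ y) := by
      rw [← Finset.sum_neg_distrib]
      apply Fintype.sum_equiv (Equiv.addRight (Pi.single i (1 : ZMod 2)))
      intro φ
      rw [Equiv.coe_addRight, add_dotProduct, single_one_dotProduct, hi1, eps_add, eps_one]
      ring
    have h3 : ∀ t : ZMod 3, t = -t → t = 0 := by decide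
    exact h3 _ key

/-- the diagonal elements -/
def aphi (φ : X n) : CMp n := ⟨Sum.elim 0 φ, 0⟩
/-- the translations -/
def bw (w : X n) : CMp n := ⟨Sum.elim w 0, 0⟩

theorem tw_aphi (φ : X n) : tw (aphi φ) = 0 := rfl
theorem ch_aphi (φ : X n) : ch (aphi φ) = φ := rfl
theorem s_aphi (φ : X n) : (aphi φ).s = 0 := rfl
theorem tw_bw (w : X n) : tw (bw w) = w := rfl
theorem ch_bw (w : X n) : ch (bw w) = 0 := rfl
theorem s_bw (w : X n) : (bw w).s = 0 := rfl

theorem cm_ext (a c : CMp n) (h1 : tw a = tw c) (h2 : ch a = ch c) (h3 : a.s = c.s) : a = c := by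
  apply CM.ext _ h3
  funext k
  rcases k with i | i
  · exact congrFun h1 i
  · exact congrFun h2 i

theorem aphi_mul (φ ψ : X n) : aphi φ * aphi ψ = aphi (φ + ψ) := by
  apply cm_ext
  · rw [tw_mul, tw_aphi, tw_aphi, tw_aphi, add_zero]
  · rw [ch_mul, ch_aphi, ch_aphi, ch_aphi]
  · rw [s_mul, s_aphi, s_aphi, s_aphi, tw_aphi, zero_dotProduct, add_zero, add_zero]

theorem aphi_zero : aphi (0 : X n) = 1 := by
  apply cm_ext <;> rfl

theorem bw_zero : bw (0 : X n) = 1 := by
  apply cm_ext <;> rfl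

theorem rho_bw_dl (w y : X n) : rho (bw w) (dl y) = dl (y + w) := by
  rw [rho_dl, s_bw, ch_bw, tw_bw, zero_dotProduct, add_zero, eps_zero, one_smul]

/-- the operator `2ⁿ ·` (projection onto `dl y`) -/
def Dop (y : X n) : Module.End (ZMod 3) (Vf n) := ∑ φ : X n, eps (φ ⬝ᵥ y) • rho (aphi φ)

theorem Dop_apply (y : X n) (f : Vf n) : Dop y f = ((2 : ZMod 3) ^ n * f y) • dl y := by
  funext x
  unfold Dop
  rw [LinearMap.sum_apply, Finset.sum_apply]
  have h1 : ∀ φ : X n, ((eps (φ ⬝ᵥ y) • rho (aphi φ)) f) x = eps (φ ⬝ᵥ (y + x)) * f x := by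
    intro φ
    rw [LinearMap.smul_apply, Pi.smul_apply, rho_apply, s_aphi, ch_aphi, tw_aphi, zero_add, add_zero,
      smul_eq_mul, ← mul_assoc, ← eps_add, dotProduct_add]
  simp_rw [h1]
  rw [← Finset.sum_mul, sum_eps, Pi.smul_apply, dl_apply, smul_eq_mul]
  by_cases hx : x = y
  · rw [if_pos hx, hx, vec_add_self, if_pos rfl, mul_one]
  · rw [if_neg hx, if_neg, zero_mul, mul_zero]
    intro h
    apply hx
    have := (add_eq_iff y x 0).1 h
    rw [zero_add] at this
    exact this.symm

theorem Dop_comm (M : Module.End (ZMod 3) (Vf n)) (h : ∀ a, M * rho a = rho a * M) (y : X n) :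
    M * Dop y = Dop y * M := by
  unfold Dop
  rw [Finset.mul_sum, Finset.sum_mul]
  apply Finset.sum_congr rfl
  intro φ _
  rw [mul_smul_comm, smul_mul_assoc, h]

/-- **Schur**: the centraliser of the representation consists of the scalars -/
theorem central_scalar (M : Module.End (ZMod 3) (Vf n)) (h : ∀ a, M * rho a = rho a * M) :
    ∃ c : ZMod 3, M = c • (1 : Module.End (ZMod 3) (Vf n)) := by
  have h1 : ∀ y, M (dl y) = (M (dl y) y) • dl y := by
    intro y
    have e1 := congrArg (fun N : Module.End (ZMod 3) (Vf n) => N (dl y)) (Dop_comm M h y)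
    simp only [Module.End.mul_apply] at e1
    rw [Dop_apply, Dop_apply, dl_apply, if_pos rfl, mul_one, map_smul] at e1
    have e2 : ((2 : ZMod 3) ^ n) • M (dl y) = ((2 : ZMod 3) ^ n) • ((M (dl y) y) • dl y) := by
      rw [e1, smul_smul]
    exact smul_right_injective _ (two_pow_ne_zero (n := n)) e2
  refine ⟨M (dl 0) 0, ?_⟩
  apply lin_ext
  intro y
  have e1 : dl y = rho (bw y) (dl 0) := by rw [rho_bw_dl, zero_add]
  have e2 := congrArg (fun N : Module.End (ZMod 3) (Vf n) => N (dl 0)) (h (bw y))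
  simp only [Module.End.mul_apply] at e2
  rw [LinearMap.smul_apply, Module.End.one_apply]
  calc M (dl y) = M (rho (bw y) (dl 0)) := by rw [← e1]
    _ = rho (bw y) (M (dl 0)) := e2
    _ = rho (bw y) ((M (dl 0) 0) • dl 0) := by
        conv_lhs => rw [h1 0]
    _ = (M (dl 0) 0) • rho (bw y) (dl 0) := map_smul _ _ _
    _ = (M (dl 0) 0) • dl y := by rw [← e1]

/-- the representation is irreducible -/
theorem irreducible (S : Submodule (ZMod 3) (Vf n)) (hS : ∀ a, ∀ f ∈ S, rho a f ∈ S)
    (hne : S ≠ ⊥) : S = ⊤ := by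
  obtain ⟨f, hfS, hf0⟩ := (Submodule.ne_bot_iff S).1 hne
  obtain ⟨y, hy⟩ := exists_ne_of_ne_zero f hf0
  have hD : Dop y f ∈ S := by
    unfold Dop
    rw [LinearMap.sum_apply]
    apply Submodule.sum_mem
    intro φ _
    rw [LinearMap.smul_apply]
    exact S.smul_mem _ (hS _ f hfS)
  rw [Dop_apply] at hD
  have hdy : dl y ∈ S := by
    have h2 : ((2 : ZMod 3) ^ n * f y) ≠ 0 := mul_ne_zero two_pow_ne_zero hy
    have := S.smul_mem ((2 : ZMod 3) ^ n * f y)⁻¹ hD
    rwa [smul_smul, inv_mul_cancel₀ h2, one_smul] at this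
  have hall : ∀ x, dl x ∈ S := by
    intro x
    have := hS (bw (y + x)) (dl y) hdy
    rw [rho_bw_dl, ← add_assoc, vec_add_self, zero_add] at this
    exact this
  rw [eq_top_iff]
  intro g _
  have : g = ∑ x, g x • dl x := by
    funext z
    rw [Finset.sum_apply]
    simp only [Pi.smul_apply, dl_apply, smul_eq_mul, mul_ite, mul_one, mul_zero]
    rw [Finset.sum_ite_eq]
    simp
  rw [this]
  apply Submodule.sum_mem
  intro x _
  exact S.smul_mem _ (hall x)

/-! ### the trace -/

/-- the trace -/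
def tr (M : Module.End (ZMod 3) (Vf n)) : ZMod 3 := ∑ x, M (dl x) x

theorem tr_zero : tr (0 : Module.End (ZMod 3) (Vf n)) = 0 := by
  unfold tr; simp

theorem tr_sum {ι : Type*} (s : Finset ι) (M : ι → Module.End (ZMod 3) (Vf n)) :
    tr (∑ i ∈ s, M i) = ∑ i ∈ s, tr (M i) := by
  unfold tr
  rw [Finset.sum_comm]
  apply Finset.sum_congr rfl
  intro x _
  rw [LinearMap.sum_apply, Finset.sum_apply]

theorem tr_rho (a : CMp n) :
    tr (rho a) = if a.v = 0 then eps a.s * (2 : ZMod 3) ^ n else 0 := by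
  unfold tr
  by_cases ht : tw a = 0
  · have h1 : ∀ x : X n, rho a (dl x) x = eps a.s * eps (x ⬝ᵥ ch a) := by
      intro x
      rw [rho_dl, Pi.smul_apply, dl_apply, ht, add_zero, if_pos rfl, smul_eq_mul, mul_one, eps_add,
        dotProduct_comm]
    simp_rw [h1]
    rw [← Finset.mul_sum, sum_eps]
    by_cases hc : ch a = 0
    · rw [if_pos hc, if_pos ((v_eq_zero_iff a).2 ⟨ht, hc⟩)]
    · rw [if_neg hc, if_neg (fun h => hc ((v_eq_zero_iff a).1 h).2), mul_zero]
  · have h1 : ∀ x : X n, rho a (dl x) x = 0 := by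
      intro x
      rw [rho_dl, Pi.smul_apply, dl_apply, if_neg, smul_zero]
      intro h
      apply ht
      have := (add_eq_iff x (tw a) x).2 (by rw [← h])
      have h2 : x + tw a = x + 0 := by rw [add_zero]; exact this
      exact add_left_cancel h2
    simp_rw [h1]
    rw [Finset.sum_const_zero, if_neg (fun h => ht ((v_eq_zero_iff a).1 h).1)]

theorem rho_central (t : ZMod 2) :
    rho (⟨0, t⟩ : CMp n) = eps t • (1 : Module.End (ZMod 3) (Vf n)) := by
  apply LinearMap.ext; intro f; funext x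
  rw [rho_apply, LinearMap.smul_apply, Module.End.one_apply, Pi.smul_apply, smul_eq_mul]
  have h1 : ch (⟨0, t⟩ : CMp n) = 0 := rfl
  have h2 : tw (⟨0, t⟩ : CMp n) = 0 := rfl
  rw [h1, h2, zero_dotProduct, add_zero, add_zero]

/-! ### intertwiners -/

theorem mem_center_map_iff (α : CMp n ≃* CMp n) (a : CMp n) :
    (α a).v = 0 ↔ a.v = 0 := by
  have h := CM.isE2 (bPlus_nd n)
  rw [← CM.mem_center_iff_v (bPlus_nd n), ← CM.mem_center_iff_v (bPlus_nd n)]
  constructor
  · intro hc
    have e1 : α.symm (α a) = α a := h.map_center α.symm hc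
    rw [MulEquiv.symm_apply_apply] at e1
    rw [e1]; exact hc
  · intro hc
    rw [h.map_center α hc]; exact hc

theorem aphi_v_eq_zero_iff (φ : X n) : (aphi φ).v = 0 ↔ φ = 0 := by
  rw [v_eq_zero_iff, tw_aphi, ch_aphi]
  exact ⟨fun h => h.2, fun h => ⟨rfl, h⟩⟩

theorem key_factor (x : CMp n) (y : X n) :
    x * bw y = bw (y + tw x) * aphi (ch x) * ⟨0, x.s + ch x ⬝ᵥ (y + tw x)⟩ := by
  have h1 : ch (⟨0, x.s + ch x ⬝ᵥ (y + tw x)⟩ : CMp n) = 0 := rfl
  have h2 : tw (⟨0, x.s + ch x ⬝ᵥ (y + tw x)⟩ : CMp n) = 0 := rfl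
  apply cm_ext
  · rw [tw_mul, tw_mul, tw_mul, tw_bw, tw_bw, tw_aphi, h2, add_zero, add_zero, add_comm]
  · rw [ch_mul, ch_mul, ch_mul, ch_bw, ch_bw, ch_aphi, h1, add_zero, add_zero, zero_add]
  · rw [s_mul, s_mul, s_mul, s_bw, s_bw, s_aphi, ch_bw, dotProduct_zero, h1, dotProduct_zero,
      tw_bw, ch_aphi, dotProduct_comm (y + tw x) (ch x)]
    have h3 : ∀ p q : ZMod 2, p + 0 + 0 = 0 + 0 + q + (p + q) + 0 := by decide
    exact h3 _ _

/-- **every automorphism is induced by an invertible intertwiner** -/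
theorem exists_intertwiner (α : CMp n ≃* CMp n) :
    ∃ T : (Module.End (ZMod 3) (Vf n))ˣ,
      ∀ x, (T : Module.End (ZMod 3) (Vf n)) * rho x = rho (α x) * (T : Module.End (ZMod 3) (Vf n)) := by
  have hE2 := CM.isE2 (bPlus_nd n)
  let E : Module.End (ZMod 3) (Vf n) := ∑ φ : X n, rho (α (aphi φ))
  have htr : tr E = (2 : ZMod 3) ^ n := by
    show tr (∑ φ : X n, rho (α (aphi φ))) = _
    rw [tr_sum]
    have h1 : ∀ φ : X n, tr (rho (α (aphi φ))) = if φ = 0 then (2 : ZMod 3) ^ n else 0 := by
      intro φ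
      rw [tr_rho]
      by_cases hφ : φ = 0
      · rw [if_pos hφ, if_pos ((mem_center_map_iff α _).2 ((aphi_v_eq_zero_iff φ).2 hφ)), hφ,
          aphi_zero, map_one, CM.one_s, eps_zero, one_mul]
      · rw [if_neg hφ, if_neg]
        intro h
        exact hφ ((aphi_v_eq_zero_iff φ).1 ((mem_center_map_iff α _).1 h))
    simp_rw [h1]
    rw [Finset.sum_ite_eq' Finset.univ (0 : X n)]
    simp
  have hE0 : E ≠ 0 := by
    intro h
    rw [h, tr_zero] at htr
    exact two_pow_ne_zero htr.symm
  obtain ⟨f₀, hf₀⟩ : ∃ f₀, E f₀ ≠ 0 := by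
    by_contra hcon
    push Not at hcon
    exact hE0 (LinearMap.ext hcon)
  obtain ⟨u₀, hu₀⟩ : ∃ u, u = E f₀ := ⟨_, rfl⟩
  have hfix : ∀ ψ : X n, rho (α (aphi ψ)) u₀ = u₀ := by
    intro ψ
    rw [hu₀]
    show rho (α (aphi ψ)) ((∑ φ : X n, rho (α (aphi φ))) f₀) = (∑ φ : X n, rho (α (aphi φ))) f₀
    rw [LinearMap.sum_apply, map_sum]
    apply Fintype.sum_equiv (Equiv.addLeft ψ)
    intro φ
    rw [Equiv.coe_addLeft, ← aphi_mul, map_mul, rho_mul, Module.End.mul_apply]
  let T : Module.End (ZMod 3) (Vf n) :=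
    { toFun := fun f => ∑ w : X n, f w • rho (α (bw w)) u₀
      map_add' := by
        intro f g
        rw [← Finset.sum_add_distrib]
        apply Finset.sum_congr rfl
        intro w _
        rw [Pi.add_apply, add_smul]
      map_smul' := by
        intro c f
        rw [RingHom.id_apply, Finset.smul_sum]
        apply Finset.sum_congr rfl
        intro w _
        rw [Pi.smul_apply, smul_eq_mul, mul_smul] }
  have hTdl : ∀ y, T (dl y) = rho (α (bw y)) u₀ := by
    intro y
    show ∑ w : X n, dl y w • rho (α (bw w)) u₀ = _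
    simp only [dl_apply, ite_smul, one_smul, zero_smul]
    rw [Finset.sum_ite_eq' Finset.univ y]
    simp
  have hTeq : ∀ x, T * rho x = rho (α x) * T := by
    intro x
    apply lin_ext
    intro y
    have hkey : rho (α x) (rho (α (bw y)) u₀) =
        eps (x.s + ch x ⬝ᵥ (y + tw x)) • rho (α (bw (y + tw x))) u₀ := by
      have e1 : rho (α x) (rho (α (bw y)) u₀) = rho (α (x * bw y)) u₀ := by
        rw [map_mul, rho_mul, Module.End.mul_apply]
      rw [e1, key_factor, map_mul, map_mul, rho_mul, rho_mul, Module.End.mul_apply,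
        Module.End.mul_apply, CM.aut_central (bPlus_nd n), rho_central, LinearMap.smul_apply,
        Module.End.one_apply, map_smul, map_smul, hfix]
    rw [Module.End.mul_apply, Module.End.mul_apply, rho_dl, map_smul, hTdl, hTdl, hkey]
  have hT0 : T ≠ 0 := by
    intro h
    have h1 := hTdl 0
    rw [h, bw_zero, map_one, rho_one, Module.End.one_apply, hu₀] at h1
    exact hf₀ h1.symm
  have hker : LinearMap.ker T = ⊥ := by
    by_contra hne
    have htop := irreducible (LinearMap.ker T) (by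
      intro a f hf
      rw [LinearMap.mem_ker] at hf ⊢
      have := congrArg (fun N : Module.End (ZMod 3) (Vf n) => N f) (hTeq a)
      simp only [Module.End.mul_apply] at this
      rw [this, hf, map_zero]) hne
    apply hT0
    apply LinearMap.ext
    intro f
    have : f ∈ LinearMap.ker T := by rw [htop]; trivial
    exact this
  obtain ⟨Tu, hTu⟩ := (LinearMap.isUnit_iff_ker_eq_bot T).2 hker
  refine ⟨Tu, fun x => ?_⟩
  rw [hTu]; exact hTeq x

end Schro

end Cfsg.Agent.Lib.Helper29
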