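import Mathlib
import Cfsg.Agent.Lib.Helper29.Schrodinger
import Cfsg.Agent.Lib.Helper29.ExtraTwoBuild

set_option autoImplicit false
set_option linter.unusedSectionVars false

/-!
# Extensions of `2^{1+2n}_+` realising a given group of isometries

Inside the product of the unit group of the endomorphisms of the Schrödinger module with the
automorphism group of `CM (bPlus n)` the intertwining pairs form a group mapping onto the full
isometry group with kernel a copy of `CM (bPlus n)`.
-/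

namespace Cfsg.Agent.Lib.Helper29

open Matrix
open scoped commutatorElement

theorem IsE2.of_equiv {P P' : Type*} [Group P] [Group P'] {z : P} (h : IsE2 P z) (e : P ≃* P') :
    IsE2 P' (e z) where
  mem := by
    rw [Subgroup.mem_center_iff]
    intro g
    obtain ⟨g0, rfl⟩ := e.surjective g
    rw [← map_mul, ← map_mul, Subgroup.mem_center_iff.1 h.mem g0]
  ne := fun hz => h.ne (e.map_eq_one_iff.1 hz)
  all := by
    intro w hw
    have hw' : e.symm w ∈ Subgroup.center P := by
      rw [Subgroup.mem_center_iff]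
      intro g
      apply e.injective
      rw [map_mul, map_mul, e.apply_symm_apply]
      exact Subgroup.mem_center_iff.1 hw (e g)
    rcases h.all _ hw' with h1 | h1
    · left; rw [← e.apply_symm_apply w, h1, map_one]
    · right; rw [← e.apply_symm_apply w, h1]
  comm := by
    rw [commutator_def, Subgroup.commutator_le]
    intro g₁ _ g₂ _
    obtain ⟨a, rfl⟩ := e.surjective g₁
    obtain ⟨c, rfl⟩ := e.surjective g₂
    have h1 : ⁅a, c⁆ ∈ Subgroup.center P :=
      h.comm (Subgroup.commutator_mem_commutator (Subgroup.mem_top a) (Subgroup.mem_top c))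
    rw [← map_commutatorElement e a c, Subgroup.mem_center_iff]
    intro g
    obtain ⟨g0, rfl⟩ := e.surjective g
    rw [← map_mul, ← map_mul, Subgroup.mem_center_iff.1 h1 g0]

namespace Schro

variable {n : ℕ}

instance instFiniteEnd : Finite (Module.End (ZMod 3) (Vf n)) :=
  Finite.of_injective (fun f => (f : Vf n → Vf n)) DFunLike.coe_injective

/-- the representation with values in the units -/
def rhoU : CMp n →* (Module.End (ZMod 3) (Vf n))ˣ := (rhoHom (n := n)).toHomUnits

theorem rhoU_coe (a : CMp n) : ((rhoU a : (Module.End (ZMod 3) (Vf n))ˣ) : Module.End (ZMod 3) (Vf n)) = rho a :=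
  MonoidHom.coe_toHomUnits _ _

theorem rho_faithful (a : CMp n) (h : rho a = 1) : a = 1 := by
  have h0 := congrArg (fun M : Module.End (ZMod 3) (Vf n) => M (dl 0)) h
  simp only [Module.End.one_apply] at h0
  rw [rho_dl, zero_add] at h0
  have ht : tw a = 0 := by
    by_contra hne
    have h1 := congrFun h0 0
    rw [Pi.smul_apply, dl_apply, dl_apply, if_neg (fun e => hne e.symm), if_pos rfl, smul_zero] at h1
    exact zero_ne_one h1
  have hc : ch a = 0 := by
    funext i
    have h1 := congrArg (fun M : Module.End (ZMod 3) (Vf n) => M (dl (Pi.single i 1))) h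
    simp only [Module.End.one_apply] at h1
    rw [rho_dl, ht, add_zero] at h1
    have h2 := congrFun h1 (Pi.single i 1)
    have h3 := congrFun h0 0
    rw [Pi.smul_apply, dl_apply, if_pos rfl, smul_eq_mul, mul_one, eps_eq_one_iff] at h2
    rw [ht, Pi.smul_apply, dl_apply, if_pos rfl, smul_eq_mul, mul_one, eps_eq_one_iff,
      dotProduct_zero, add_zero] at h3
    rw [h3, zero_add, dotProduct_single_one] at h2
    exact h2
  have hs : a.s = 0 := by
    have h3 := congrFun h0 0
    rw [ht, Pi.smul_apply, dl_apply, if_pos rfl, smul_eq_mul, mul_one, eps_eq_one_iff,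
      dotProduct_zero, add_zero] at h3
    exact h3
  exact cm_ext a 1 ht hc hs

/-- the intertwining pairs -/
def Pairs (n : ℕ) : Subgroup ((Module.End (ZMod 3) (Vf n))ˣ × MulAut (CMp n)) where
  carrier := {p | ∀ x, (p.1 : Module.End (ZMod 3) (Vf n)) * rho x =
    rho (p.2 x) * (p.1 : Module.End (ZMod 3) (Vf n))}
  mul_mem' := by
    intro p p' hp hp' x
    show ((p.1 * p'.1 : (Module.End (ZMod 3) (Vf n))ˣ) : Module.End (ZMod 3) (Vf n)) * rho x =
      rho ((p.2 * p'.2) x) * ((p.1 * p'.1 : (Module.End (ZMod 3) (Vf n))ˣ) : Module.End (ZMod 3) (Vf n))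
    rw [Units.val_mul, mul_assoc, hp' x, ← mul_assoc, hp (p'.2 x), mul_assoc]
    rfl
  one_mem' := by
    intro x
    show ((1 : (Module.End (ZMod 3) (Vf n))ˣ) : Module.End (ZMod 3) (Vf n)) * rho x =
      rho x * ((1 : (Module.End (ZMod 3) (Vf n))ˣ) : Module.End (ZMod 3) (Vf n))
    rw [Units.val_one, one_mul, mul_one]
  inv_mem' := by
    intro p hp x
    show ((p.1⁻¹ : (Module.End (ZMod 3) (Vf n))ˣ) : Module.End (ZMod 3) (Vf n)) * rho x =
      rho (p.2⁻¹ x) * ((p.1⁻¹ : (Module.End (ZMod 3) (Vf n))ˣ) : Module.End (ZMod 3) (Vf n))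
    have h1 := hp (p.2⁻¹ x)
    rw [MulAut.apply_inv_self] at h1
    rw [Units.inv_mul_eq_iff_eq_mul, ← mul_assoc, h1, mul_assoc, Units.mul_inv, mul_one]

theorem mem_Pairs (p : (Module.End (ZMod 3) (Vf n))ˣ × MulAut (CMp n)) :
    p ∈ Pairs n ↔ ∀ x, (p.1 : Module.End (ZMod 3) (Vf n)) * rho x =
      rho (p.2 x) * (p.1 : Module.End (ZMod 3) (Vf n)) := Iff.rfl

/-- the automorphism part -/
def prA : Pairs n →* MulAut (CMp n) := (MonoidHom.snd _ _).comp (Pairs n).subtype

/-- the standard form -/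
abbrev Qp (n : ℕ) : (Fin n ⊕ Fin n → ZMod 2) → ZMod 2 := Cfsg.quadFormPlus n (ZMod 2)

/-- the isometry part -/
noncomputable def prI : Pairs n →* Cfsg.isometryGroup (ZMod 2) (Qp n) :=
  (CM.isoHom (bPlus_nd n) (Qp n) (quadFormPlus_eq n)).comp prA

theorem prI_surjective : Function.Surjective (prI (n := n)) := by
  intro g
  obtain ⟨α, hα⟩ := CM.isoHom_surjective (bPlus_nd n) (Qp n) (quadFormPlus_eq n) g
  obtain ⟨T, hT⟩ := exists_intertwiner α
  exact ⟨⟨(T, α), hT⟩, hα⟩

/-- the embedding of the group -/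
def jP : CMp n →* Pairs n where
  toFun c := ⟨(rhoU c, MulAut.conj c), by
    intro x
    show ((rhoU c : (Module.End (ZMod 3) (Vf n))ˣ) : Module.End (ZMod 3) (Vf n)) * rho x =
      rho (MulAut.conj c x) * ((rhoU c : (Module.End (ZMod 3) (Vf n))ˣ) : Module.End (ZMod 3) (Vf n))
    rw [rhoU_coe, MulAut.conj_apply, ← rho_mul, ← rho_mul, inv_mul_cancel_right]⟩
  map_one' := by
    apply Subtype.ext
    show (rhoU (1 : CMp n), MulAut.conj (1 : CMp n)) = 1
    rw [map_one, map_one]; rfl
  map_mul' c c' := by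
    apply Subtype.ext
    show (rhoU (c * c'), MulAut.conj (c * c')) = (rhoU c, MulAut.conj c) * (rhoU c', MulAut.conj c')
    rw [map_mul, map_mul]; rfl

theorem jP_fst (c : CMp n) : ((jP c : Pairs n) : (Module.End (ZMod 3) (Vf n))ˣ × MulAut (CMp n)).1 = rhoU c := rfl
theorem jP_snd (c : CMp n) : ((jP c : Pairs n) : (Module.End (ZMod 3) (Vf n))ˣ × MulAut (CMp n)).2 = MulAut.conj c := rfl

theorem jP_injective : Function.Injective (jP (n := n)) := by
  rw [injective_iff_map_eq_one]
  intro c hc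
  apply rho_faithful
  have h1 : rhoU c = 1 := by
    rw [← jP_fst, hc]; rfl
  rw [← rhoU_coe, h1]; rfl

theorem conj_jP (r : Pairs n) (c : CMp n) : r * jP c * r⁻¹ = jP (prA r c) := by
  apply Subtype.ext
  obtain ⟨⟨T, α⟩, hr⟩ := r
  show (T, α) * (rhoU c, MulAut.conj c) * (T, α)⁻¹ = (rhoU (α c), MulAut.conj (α c))
  apply Prod.ext
  · show T * rhoU c * T⁻¹ = rhoU (α c)
    rw [mul_inv_eq_iff_eq_mul]
    apply Units.ext
    rw [Units.val_mul, Units.val_mul, rhoU_coe, rhoU_coe]
    exact hr c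
  · show α * MulAut.conj c * α⁻¹ = MulAut.conj (α c)
    apply MulEquiv.ext
    intro x
    rw [MulAut.mul_apply, MulAut.mul_apply, MulAut.conj_apply, MulAut.conj_apply, map_mul, map_mul,
      MulAut.apply_inv_self, map_inv]

variable [NeZero n]

instance : Nonempty (Fin n ⊕ Fin n) := ⟨Sum.inl ⟨0, Nat.pos_of_ne_zero (NeZero.ne n)⟩⟩

theorem prI_jP (c : CMp n) : prI (jP c) = 1 := by
  have h1 : MulAut.conj c ∈ (CM.isoHom (bPlus_nd n) (Qp n) (quadFormPlus_eq n)).ker := by
    rw [CM.isoHom_ker]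
    exact ⟨c, rfl⟩
  exact h1

theorem zc_central : (CM.zc : CMp n) ∈ Subgroup.center (CMp n) := CM.mem_center_of_v _ rfl

theorem neg_one_smul_end (g : Module.End (ZMod 3) (Vf n)) : (-1 : ZMod 3) • g = -g :=
  neg_one_smul (ZMod 3) g

theorem mul_neg_one_end (g : Module.End (ZMod 3) (Vf n)) : g * -1 = -g :=
  mul_neg_one g

theorem rho_zc : rho (CM.zc : CMp n) = -1 := by
  have : (CM.zc : CMp n) = ⟨0, 1⟩ := rfl
  rw [this, rho_central, eps_one, neg_one_smul_end]

theorem ker_prI_le : (prI (n := n)).ker ≤ (jP (n := n)).range := by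
  rintro ⟨⟨T, α⟩, hr⟩ hker
  have h1 : α ∈ (CM.isoHom (bPlus_nd n) (Qp n) (quadFormPlus_eq n)).ker := hker
  rw [CM.isoHom_ker] at h1
  obtain ⟨c, rfl⟩ := h1
  -- `rho c⁻¹ * T` commutes with everything
  have hcomm : ∀ a, (rho c⁻¹ * (T : Module.End (ZMod 3) (Vf n))) * rho a =
      rho a * (rho c⁻¹ * (T : Module.End (ZMod 3) (Vf n))) := by
    intro a
    have h2 := hr a
    simp only [MulAut.conj_apply] at h2
    have e1 : rho a * (rho c⁻¹ * (T : Module.End (ZMod 3) (Vf n))) =
        rho (a * c⁻¹) * (T : Module.End (ZMod 3) (Vf n)) := by rw [rho_mul a c⁻¹, mul_assoc (rho a)]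
    have e2 : rho c⁻¹ * (rho (c * a * c⁻¹) * (T : Module.End (ZMod 3) (Vf n))) =
        rho (c⁻¹ * (c * a * c⁻¹)) * (T : Module.End (ZMod 3) (Vf n)) := by
      rw [rho_mul c⁻¹ (c * a * c⁻¹), mul_assoc (rho c⁻¹)]
    rw [mul_assoc, h2, e1, e2]
    congr 2
    group
  obtain ⟨lam, hlam⟩ := central_scalar _ hcomm
  have hT : (T : Module.End (ZMod 3) (Vf n)) = lam • rho c := by
    have : (T : Module.End (ZMod 3) (Vf n)) = rho c * (rho c⁻¹ * (T : Module.End (ZMod 3) (Vf n))) := by
      rw [← mul_assoc, ← rho_mul, mul_inv_cancel, rho_one, one_mul]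
    rw [this, hlam, mul_smul_comm, mul_one]
  have hl0 : lam ≠ 0 := by
    intro h0
    rw [h0, zero_smul] at hT
    have := T.isUnit
    rw [hT] at this
    exact not_isUnit_zero this
  have hl : lam = 1 ∨ lam = -1 := by
    have : ∀ t : ZMod 3, t ≠ 0 → t = 1 ∨ t = -1 := by decide
    exact this _ hl0
  rcases hl with hl | hl
  · refine ⟨c, ?_⟩
    apply Subtype.ext
    show (rhoU c, MulAut.conj c) = (T, MulAut.conj c)
    congr 1
    apply Units.ext
    rw [rhoU_coe, hT, hl, one_smul]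
  · refine ⟨c * CM.zc, ?_⟩
    apply Subtype.ext
    show (rhoU (c * CM.zc), MulAut.conj (c * CM.zc)) = (T, MulAut.conj c)
    apply Prod.ext
    · apply Units.ext
      show ((rhoU (c * CM.zc) : (Module.End (ZMod 3) (Vf n))ˣ) : Module.End (ZMod 3) (Vf n)) = T
      rw [rhoU_coe, hT, hl, rho_mul, rho_zc, mul_neg_one_end, neg_one_smul_end]
    · show MulAut.conj (c * CM.zc) = MulAut.conj c
      have hz1 : MulAut.conj (CM.zc : CMp n) = 1 := by
        apply MulEquiv.ext
        intro x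
        rw [MulAut.conj_apply, MulAut.one_apply, mul_inv_eq_iff_eq_mul]
        exact (Subgroup.mem_center_iff.1 zc_central x).symm
      rw [map_mul, hz1, mul_one]

theorem ker_prI : (prI (n := n)).ker = (jP (n := n)).range := by
  apply le_antisymm ker_prI_le
  rintro _ ⟨c, rfl⟩
  exact prI_jP c

theorem prA_v (r : Pairs n) (c : CMp n) :
    (prA r c).v = (((prI r : Cfsg.isometryGroup (ZMod 2) (Qp n)) : GL (Fin n ⊕ Fin n) (ZMod 2)) :
      Matrix (Fin n ⊕ Fin n) (Fin n ⊕ Fin n) (ZMod 2)) *ᵥ c.v := by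
  show _ = ((CM.GLHom (bPlus_nd n) (prA r) : GL (Fin n ⊕ Fin n) (ZMod 2)) :
      Matrix (Fin n ⊕ Fin n) (Fin n ⊕ Fin n) (ZMod 2)) *ᵥ c.v
  rw [CM.GLHom_coe, CM.Mx_mulVec, CM.aut_v (bPlus_nd n)]
  rfl

/-- **the extension realising a group of isometries** -/
theorem exists_extension {Γ : Type*} [Group Γ] (κ : Γ →* Cfsg.isometryGroup (ZMod 2) (Qp n))
    (hκ : Function.Injective κ) :
    ∃ (R : Type) (_ : Group R) (_ : Finite R) (Q : Subgroup R) (_ : Q.Normal) (e : R ⧸ Q ≃* Γ)
      (j : CMp n ≃* ↥Q), ∀ (r : R) (c : CMp n), ∃ c' : CMp n,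
        r * (j c : R) * r⁻¹ = (j c' : R) ∧
        c'.v = (((κ (e (r : R ⧸ Q)) : Cfsg.isometryGroup (ZMod 2) (Qp n)) :
          GL (Fin n ⊕ Fin n) (ZMod 2)) : Matrix (Fin n ⊕ Fin n) (Fin n ⊕ Fin n) (ZMod 2)) *ᵥ c.v := by
  classical
  let R : Subgroup (Pairs n) := κ.range.comap prI
  let φ₀ : R →* κ.range := prI.subgroupComap κ.range
  have hφ₀ : Function.Surjective φ₀ :=
    MonoidHom.subgroupComap_surjective_of_surjective _ _ prI_surjective
  let φ : R →* Γ := (MonoidHom.ofInjective hκ).symm.toMonoidHom.comp φ₀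
  have hφ : Function.Surjective φ := (MonoidHom.ofInjective hκ).symm.surjective.comp hφ₀
  have hκφ : ∀ r : R, κ (φ r) = prI (r : Pairs n) := by
    intro r
    show κ ((MonoidHom.ofInjective hκ).symm (φ₀ r)) = _
    rw [MonoidHom.apply_ofInjective_symm]
    rfl
  have hker : ∀ r : R, r ∈ φ.ker ↔ prI (r : Pairs n) = 1 := by
    intro r
    rw [MonoidHom.mem_ker, ← hκφ]
    constructor
    · intro h; rw [h, map_one]
    · intro h; apply hκ; rw [h, map_one]
  -- the embedding
  let j₁ : CMp n →* R := (jP (n := n)).codRestrict R (fun c => by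
    show prI (jP c) ∈ κ.range
    rw [prI_jP]; exact one_mem _)
  let j₂ : CMp n →* φ.ker := j₁.codRestrict φ.ker (fun c => by
    rw [hker]
    exact prI_jP c)
  have hj₂inj : Function.Injective j₂ := by
    intro c c' h
    apply jP_injective
    have := congrArg (fun q : φ.ker => ((q : R) : Pairs n)) h
    exact this
  have hj₂surj : Function.Surjective j₂ := by
    rintro ⟨r, hr⟩
    have h1 : (r : Pairs n) ∈ (prI (n := n)).ker := (hker r).1 hr
    rw [ker_prI] at h1
    obtain ⟨c, hc⟩ := h1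
    refine ⟨c, ?_⟩
    apply Subtype.ext
    apply Subtype.ext
    exact hc
  refine ⟨R, inferInstance, inferInstance, φ.ker, inferInstance,
    QuotientGroup.quotientKerEquivOfSurjective φ hφ, MulEquiv.ofBijective j₂ ⟨hj₂inj, hj₂surj⟩, ?_⟩
  intro r c
  refine ⟨prA (r : Pairs n) c, ?_, ?_⟩
  · apply Subtype.ext
    exact conj_jP (r : Pairs n) c
  · rw [prA_v]
    have : (QuotientGroup.quotientKerEquivOfSurjective φ hφ) (r : R ⧸ φ.ker) = φ r := rfl
    rw [this, hκφ]

end Schro

end Cfsg.Agent.Lib.Helper29
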