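import Mathlib

/-!
# An involution normalising a fixed-point-free element of order 5 on `2^4`

`A` is a group of order 16 and exponent 2, `t`, `f` are automorphisms, `t` an involution,
`f` of order 5, and `t` normalises `⟨f⟩`.  Then `C_A(t) = [A, t]` has order 4.
-/

namespace Cfsg.Agent.Lib.Helper29

section

variable {A : Type*} [Group A]

theorem comm_of_sq (hsq : ∀ a : A, a * a = 1) (x y : A) : x * y = y * x := by
  have hx : x⁻¹ = x := inv_eq_of_mul_eq_one_right (hsq x)
  have hy : y⁻¹ = y := inv_eq_of_mul_eq_one_right (hsq y)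
  have hxy : (x * y)⁻¹ = x * y := inv_eq_of_mul_eq_one_right (hsq (x * y))
  rw [mul_inv_rev, hx, hy] at hxy
  exact hxy.symm

/-- `w ↦ t(w) * w` -/
def deltaHom (hsq : ∀ a : A, a * a = 1) (t : MulAut A) : A →* A :=
  MonoidHom.mk' (fun w => t w * w) (by
    intro a b
    have hc := comm_of_sq hsq (t b) a
    calc t (a * b) * (a * b) = t a * (t b * a) * b := by rw [map_mul]; group
      _ = t a * (a * t b) * b := by rw [hc]
      _ = t a * a * (t b * b) := by group)

theorem deltaHom_apply (hsq : ∀ a : A, a * a = 1) (t : MulAut A) (w : A) :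
    deltaHom hsq t w = t w * w := rfl

theorem mem_ker_deltaHom (hsq : ∀ a : A, a * a = 1) (t : MulAut A) (w : A) :
    w ∈ (deltaHom hsq t).ker ↔ t w = w := by
  rw [MonoidHom.mem_ker, deltaHom_apply]
  constructor
  · intro h
    have : t w = w⁻¹ := eq_inv_of_mul_eq_one_left h
    rw [this]
    exact inv_eq_of_mul_eq_one_right (hsq w)
  · intro h
    rw [h]
    exact hsq w

/-- fixed points of an automorphism -/
def fixSub (f : MulAut A) : Subgroup A where
  carrier := {a | f a = a}
  mul_mem' := by
    intro a b ha hb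
    simp only [Set.mem_ofPred_eq] at *
    rw [map_mul, ha, hb]
  one_mem' := map_one f
  inv_mem' := by
    intro a ha
    simp only [Set.mem_ofPred_eq] at *
    rw [map_inv, ha]

theorem mem_fixSub (f : MulAut A) (a : A) : a ∈ fixSub f ↔ f a = a := Iff.rfl

theorem eq_of_card_le_two (S : Subgroup A) [Finite S] (h : Nat.card S ≤ 2) {x y : A}
    (hx : x ∈ S) (hy : y ∈ S) (hx1 : x ≠ 1) (hy1 : y ≠ 1) : x = y := by
  by_contra hxy
  have h3 : 3 ≤ Nat.card S := by
    have hinj : Function.Injective (![⟨1, S.one_mem⟩, ⟨x, hx⟩, ⟨y, hy⟩] : Fin 3 → S) := by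
      intro i j hij
      fin_cases i <;> fin_cases j <;> simp_all
    simpa using Nat.card_le_card_of_injective _ hinj
  omega

theorem fix_trivial_of_pow_five [Finite A] (hA : Nat.card A = 16) (f : MulAut A)
    (hf5 : f ^ 5 = 1) (hf1 : f ≠ 1) : ∀ a, f a = a → a = 1 := by
  classical
  have : Fintype A := Fintype.ofFinite A
  have : Fact (Nat.Prime 5) := ⟨by norm_num⟩
  let g : Function.End A := ⇑f
  have hg : g ^ 5 ^ 1 = 1 := by
    rw [pow_one]
    have e : g ^ 5 = g * g * g * g * g := by simp [pow_succ]
    rw [e]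
    funext x
    have := DFunLike.congr_fun hf5 x
    simp only [pow_succ, pow_zero, one_mul, MulAut.mul_apply, MulAut.one_apply] at this
    exact this
  have hmod := Equiv.Perm.card_fixedPoints_modEq (f := g) (p := 5) (n := 1) hg
  have hcard : Nat.card (fixSub f) = Fintype.card (Function.fixedPoints g) := by
    rw [← Nat.card_eq_fintype_card]
    exact Nat.card_congr (Equiv.subtypeEquivRight (fun x => Iff.rfl))
  have hdvd : Nat.card (fixSub f) ∣ 16 := hA ▸ Subgroup.card_subgroup_dvd_card (fixSub f)
  rw [← Nat.card_eq_fintype_card, hA, ← hcard] at hmod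
  have hle : Nat.card (fixSub f) ≤ 16 := Nat.le_of_dvd (by norm_num) hdvd
  have hcases : Nat.card (fixSub f) = 1 ∨ Nat.card (fixSub f) = 16 := by
    unfold Nat.ModEq at hmod
    generalize Nat.card (fixSub f) = n at *
    interval_cases n <;> omega
  rcases hcases with h1 | h16
  · intro a ha
    have hbot : fixSub f = ⊥ := Subgroup.card_eq_one.1 h1
    have : a ∈ fixSub f := ha
    rw [hbot] at this
    exact Subgroup.mem_bot.1 this
  · exfalso
    apply hf1
    have htop : fixSub f = ⊤ := (Subgroup.card_eq_iff_eq_top _).1 (h16.trans hA.symm)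
    ext a
    have : a ∈ fixSub f := by rw [htop]; exact Subgroup.mem_top a
    exact this

theorem fix_invol_of_frob [Finite A] (hA : Nat.card A = 16) (hsq : ∀ a : A, a * a = 1)
    (t f : MulAut A) (ht2 : t * t = 1) (ht1 : t ≠ 1) (hf5 : f ^ 5 = 1) (hf1 : f ≠ 1)
    (hn : t * f * t⁻¹ ∈ Subgroup.zpowers f) :
    Nat.card (deltaHom hsq t).ker = 4 ∧ (deltaHom hsq t).range = (deltaHom hsq t).ker := by
  have hfix := fix_trivial_of_pow_five hA f hf5 hf1
  have htt : ∀ w, t (t w) = w := fun w => by
    have := DFunLike.congr_fun ht2 w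
    simpa [MulAut.mul_apply] using this
  have htinv : t⁻¹ = t := inv_eq_of_mul_eq_one_right ht2
  have hDK : (deltaHom hsq t).range ≤ (deltaHom hsq t).ker := by
    rintro _ ⟨w, rfl⟩
    rw [mem_ker_deltaHom, deltaHom_apply, map_mul, htt]
    exact comm_of_sq hsq _ _
  have hmul : Nat.card (deltaHom hsq t).ker * Nat.card (deltaHom hsq t).range = 16 := by
    rw [← Subgroup.index_ker, Subgroup.card_mul_index, hA]
  have hle : Nat.card (deltaHom hsq t).range ≤ Nat.card (deltaHom hsq t).ker :=
    Subgroup.card_le_of_le hDK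
  have h2 : 2 < Nat.card (deltaHom hsq t).range := by
    by_contra hcon
    push Not at hcon
    by_cases hc : t * f * t⁻¹ * f⁻¹ = 1
    · have hcomm : ∀ w, t (f w) = f (t w) := by
        intro w
        have e : t * f = f * t := by
          have := mul_inv_eq_one.1 hc
          rw [mul_inv_eq_iff_eq_mul] at this
          exact this
        have := DFunLike.congr_fun e w
        simpa [MulAut.mul_apply] using this
      obtain ⟨w, hw⟩ : ∃ w, t w ≠ w := by
        by_contra hall
        push Not at hall
        apply ht1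
        ext a
        exact hall a
      have hd1 : deltaHom hsq t w ≠ 1 := by
        intro e
        apply hw
        exact (mem_ker_deltaHom hsq t w).1 e
      have hfd : f (deltaHom hsq t w) = deltaHom hsq t (f w) := by
        rw [deltaHom_apply, deltaHom_apply, map_mul, hcomm]
      have hfd1 : f (deltaHom hsq t w) ≠ 1 := by
        intro e
        apply hd1
        exact (EmbeddingLike.map_eq_one_iff (f := f)).1 e
      have := eq_of_card_le_two (deltaHom hsq t).range hcon ⟨w, rfl⟩ ⟨f w, hfd.symm⟩ hd1 hfd1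
      exact hd1 (hfix _ this.symm)
    · have hcmem : t * f * t⁻¹ * f⁻¹ ∈ Subgroup.zpowers f :=
        Subgroup.mul_mem _ hn (Subgroup.inv_mem _ (Subgroup.mem_zpowers f))
      have : Fact (Nat.Prime 5) := ⟨by norm_num⟩
      have hford : orderOf f = 5 := orderOf_eq_prime hf5 hf1
      have hcardz : Nat.card (Subgroup.zpowers f) = 5 := by rw [Nat.card_zpowers, hford]
      have hgen : Subgroup.zpowers (⟨t * f * t⁻¹ * f⁻¹, hcmem⟩ : Subgroup.zpowers f) = ⊤ :=
        zpowers_eq_top_of_prime_card hcardz (fun e => hc (congrArg Subtype.val e))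
      have hfmem : (⟨f, Subgroup.mem_zpowers f⟩ : Subgroup.zpowers f) ∈
          Subgroup.zpowers (⟨t * f * t⁻¹ * f⁻¹, hcmem⟩ : Subgroup.zpowers f) := by
        rw [hgen]; exact Subgroup.mem_top _
      obtain ⟨k, hk⟩ := Subgroup.mem_zpowers_iff.1 hfmem
      have hk' : (t * f * t⁻¹ * f⁻¹) ^ k = f := by
        have := congrArg Subtype.val hk
        simpa using this
      have hcfix : ∀ a, (t * f * t⁻¹ * f⁻¹) a = a → a = 1 := by
        intro a ha
        apply hfix
        have h1 : (t * f * t⁻¹ * f⁻¹) ∈ MulAction.stabilizer (MulAut A) a := by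
          rw [MulAction.mem_stabilizer_iff]; exact ha
        have h2 := Subgroup.zpow_mem _ h1 k
        rw [hk', MulAction.mem_stabilizer_iff] at h2
        exact h2
      have hinj : Function.Injective (deltaHom hsq (t * f * t⁻¹ * f⁻¹)) := by
        rw [injective_iff_map_eq_one]
        intro a ha
        exact hcfix a ((mem_ker_deltaHom hsq _ a).1 ha)
      have hsurj : Function.Surjective (deltaHom hsq (t * f * t⁻¹ * f⁻¹)) :=
        Finite.injective_iff_surjective.1 hinj
      have hsurj2 : Function.Surjective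
          (fun p : (deltaHom hsq t).range × (deltaHom hsq t).range => (p.1 : A) * f (p.2 : A)) := by
        intro b
        obtain ⟨a, ha⟩ := hsurj b
        have hfu : f (f⁻¹ a) = a := MulAut.apply_inv_self A f a
        refine ⟨(⟨deltaHom hsq t (f (t (f⁻¹ a))), ⟨_, rfl⟩⟩, ⟨deltaHom hsq t (f⁻¹ a), ⟨_, rfl⟩⟩), ?_⟩
        show deltaHom hsq t (f (t (f⁻¹ a))) * f (deltaHom hsq t (f⁻¹ a)) = b
        rw [← ha]
        simp only [deltaHom_apply, map_mul]
        have hca : (t * f * t⁻¹ * f⁻¹) a = t (f (t (f⁻¹ a))) := by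
          rw [htinv]
          simp only [MulAut.mul_apply]
        rw [hca, hfu]
        calc t (f (t (f⁻¹ a))) * f (t (f⁻¹ a)) * (f (t (f⁻¹ a)) * a)
            = t (f (t (f⁻¹ a))) * (f (t (f⁻¹ a)) * f (t (f⁻¹ a))) * a := by group
          _ = t (f (t (f⁻¹ a))) * a := by rw [hsq, mul_one]
      have := Nat.card_le_card_of_surjective _ hsurj2
      rw [Nat.card_prod, hA] at this
      nlinarith
  have h4 : Nat.card (deltaHom hsq t).range ≤ 4 := by nlinarith
  have hK4 : Nat.card (deltaHom hsq t).ker = 4 := by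
    generalize Nat.card (deltaHom hsq t).range = d at *
    generalize Nat.card (deltaHom hsq t).ker = k at *
    interval_cases d <;> omega
  have hD4 : Nat.card (deltaHom hsq t).range = 4 := by
    rw [hK4] at hmul
    omega
  exact ⟨hK4, Subgroup.eq_of_le_of_card_ge hDK (by rw [hK4, hD4])⟩

end

end Cfsg.Agent.Lib.Helper29
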