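import Cfsg.Agent.Lib.Helper43.FwDefs

/-! # FW-T0 (helper29, leaf of helper43's Fw hive for S3211): basic properties of `t₀` -/

set_option autoImplicit false

namespace Cfsg.Agent.Lib.Helper43.Fw

variable {G : Type*} [Group G] {L₁ L₂ : Subgroup G} {j n : G}

theorem fwt0_zpowers {x : G} (hj : j * j = 1) (hx : x ∈ Subgroup.zpowers j) : x = 1 ∨ x = j := by
  obtain ⟨k, rfl⟩ := Subgroup.mem_zpowers_iff.mp hx
  have h2 : j ^ (2 : ℤ) = 1 := by rw [zpow_two]; exact hj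
  rcases Int.emod_two_eq_zero_or_one k with h | h
  · left
    have hk : k = 2 * (k / 2) := by omega
    rw [hk, zpow_mul, h2, one_zpow]
  · right
    have hk : k = 2 * (k / 2) + 1 := by omega
    rw [hk, zpow_add, zpow_mul, h2, one_zpow, one_mul, zpow_one]

/-- an element of `L₁ ⊓ L₂` has square `1` -/
theorem fwt0_inter_sq (h : Setup L₁ L₂ j n) {x : G} (h1 : x ∈ L₁) (h2 : x ∈ L₂) : x * x = 1 := by
  have hx : x ∈ L₁ ⊓ L₂ := ⟨h1, h2⟩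
  rw [h.inter] at hx
  rcases fwt0_zpowers h.jsq hx with rfl | rfl
  · exact one_mul 1
  · exact h.jsq

/-- FW-T0: basic properties of `t₀`. -/
theorem t0_props (h : Setup L₁ L₂ j n) (x₁ : G) (hx : x₁ ∈ L₁) (hxx : x₁ * x₁ = j) :
    t0 n x₁ ∈ L₁ ⊔ L₂ ∧ t0 n x₁ * t0 n x₁ = 1 ∧ t0 n x₁ ≠ 1 ∧ t0 n x₁ ≠ j ∧ n * t0 n x₁ = t0 n x₁ * n ∧
      j * t0 n x₁ = t0 n x₁ * j ∧ x₁ * t0 n x₁ = t0 n x₁ * x₁ ∧ (n * x₁ * n⁻¹) * t0 n x₁ = t0 n x₁ * (n * x₁ * n⁻¹) ∧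
      (n * x₁ * n⁻¹) * (n * x₁ * n⁻¹) = j ∧ n * x₁ * n⁻¹ ∈ L₂ := by
  have hx2 : n * x₁ * n⁻¹ ∈ L₂ := (h.swap x₁).mp hx
  set x₂ := n * x₁ * n⁻¹ with hx₂
  have hc : x₁ * x₂ = x₂ * x₁ := h.comm x₁ hx x₂ hx2
  -- `n` and `x₁` commute with `j`
  have hnj : j * n = n * j := by
    have := h.nmem
    rw [Subgroup.mem_centralizer_iff] at this
    exact this j rfl
  have hxj : j * x₁ = x₁ * j := by
    have := h.le (Subgroup.mem_sup_left hx)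
    rw [Subgroup.mem_centralizer_iff] at this
    exact this j rfl
  have hsq2 : x₂ * x₂ = j := by
    calc x₂ * x₂ = n * (x₁ * x₁) * n⁻¹ := by rw [hx₂]; group
      _ = n * j * n⁻¹ := by rw [hxx]
      _ = j * n * n⁻¹ := by rw [hnj]
      _ = j := by group
  have hmem : t0 n x₁ ∈ L₁ ⊔ L₂ :=
    Subgroup.mul_mem _ (Subgroup.mem_sup_left hx) (Subgroup.mem_sup_right hx2)
  have ht : t0 n x₁ = x₁ * x₂ := rfl
  have hjne : j ≠ 1 := h.jne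
  refine ⟨hmem, ?_, ?_, ?_, ?_, ?_, ?_, ?_, hsq2, hx2⟩
  · -- t₀² = 1
    rw [ht]
    calc x₁ * x₂ * (x₁ * x₂) = x₁ * (x₂ * x₁) * x₂ := by group
      _ = x₁ * (x₁ * x₂) * x₂ := by rw [hc]
      _ = (x₁ * x₁) * (x₂ * x₂) := by group
      _ = 1 := by rw [hxx, hsq2, h.jsq]
  · -- t₀ ≠ 1
    rw [ht]
    intro h1
    have hinv : x₂ = x₁⁻¹ := (inv_eq_of_mul_eq_one_right h1).symm
    have hx1L2 : x₁ ∈ L₂ := by
      have := L₂.inv_mem hx2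
      rw [hinv, inv_inv] at this
      exact this
    have := fwt0_inter_sq h hx hx1L2
    rw [hxx] at this
    exact hjne this
  · -- t₀ ≠ j
    rw [ht]
    intro h1
    have h2 : x₂ = x₁ := by
      have : x₁ * x₂ = x₁ * x₁ := by rw [h1, hxx]
      exact mul_left_cancel this
    have hx1L2 : x₁ ∈ L₂ := by rw [← h2]; exact hx2
    have := fwt0_inter_sq h hx hx1L2
    rw [hxx] at this
    exact hjne this
  · -- n t₀ = t₀ n
    rw [ht]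
    have h5 : n * x₂ * n⁻¹ = x₁ := by
      calc n * x₂ * n⁻¹ = (n * n) * x₁ * (n * n)⁻¹ := by rw [hx₂]; group
        _ = j * x₁ * j⁻¹ := by rw [h.nsq]
        _ = x₁ * j * j⁻¹ := by rw [hxj]
        _ = x₁ := by group
    have h6 : n * (x₁ * x₂) * n⁻¹ = x₁ * x₂ := by
      calc n * (x₁ * x₂) * n⁻¹ = (n * x₁ * n⁻¹) * (n * x₂ * n⁻¹) := by group
        _ = x₂ * x₁ := by rw [h5]
        _ = x₁ * x₂ := hc.symm
    calc n * (x₁ * x₂) = (n * (x₁ * x₂) * n⁻¹) * n := by group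
      _ = x₁ * x₂ * n := by rw [h6]
  · -- j t₀ = t₀ j
    have := h.le hmem
    rw [Subgroup.mem_centralizer_iff] at this
    exact this j rfl
  · -- x₁ t₀ = t₀ x₁
    rw [ht]
    calc x₁ * (x₁ * x₂) = x₁ * (x₂ * x₁) := by rw [hc]
      _ = x₁ * x₂ * x₁ := by group
  · -- x₂ t₀ = t₀ x₂
    rw [ht]
    calc x₂ * (x₁ * x₂) = (x₂ * x₁) * x₂ := by group
      _ = x₁ * x₂ * x₂ := by rw [hc]

end Cfsg.Agent.Lib.Helper43.Fw
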