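import Mathlib
import Cfsg.Agent.Lib.Helper29.ClassTwo
import Cfsg.Agent.Lib.Helper87.SL2Trick

set_option autoImplicit false
set_option linter.unusedSectionVars false
set_option linter.style.haveILetI false

/-!
Generalized extraspecial `p`-groups `G` (`G' = Φ(G)` of order `p`) having a non-central element
`z₁` whose centralizer is elementary abelian: normal forms, complements, product decompositions.
-/

namespace Cfsg.Agent.Lib.Helper29.GenExtra

open Cfsg.Agent.Lib.Helper29 Cfsg.Agent.Lib.Helper87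

/-- the situation: class two with derived group of order `p` containing the `p`-th powers, and a
non-central element `z₁` with elementary abelian centralizer -/
structure Core (p : ℕ) (G : Type*) [Group G] (z₁ : G) : Prop where
  hle : commutator G ≤ Subgroup.center G
  card : Nat.card (commutator G) = p
  pow : ∀ x : G, x ^ p ∈ commutator G
  nc : ∃ g : G, cm g z₁ ≠ 1
  abel : ∀ a b : G, cm a z₁ = 1 → cm b z₁ = 1 → a * b = b * a
  expo : ∀ a : G, cm a z₁ = 1 → a ^ p = 1

/-- complements in finite elementary abelian groups -/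
theorem exists_compl {p : ℕ} [hp : Fact p.Prime] {H : Type*} [instH : Group H] [Finite H]
    (hcH : ∀ a b : H, a * b = b * a)
    (hexp : ∀ x : H, x ^ p = 1) (K : Subgroup H) :
    ∃ A : Subgroup H, A ⊓ K = ⊥ ∧ A ⊔ K = ⊤ := by
  letI : CommGroup H := { instH with mul_comm := hcH }
  obtain ⟨A, -, hA⟩ := Finite.exists_le_maximal (p := fun A : Subgroup H => A ⊓ K = ⊥)
    (a := ⊥) (bot_inf_eq K)
  refine ⟨A, hA.prop, ?_⟩
  rw [eq_top_iff]
  intro c _
  by_contra hc
  have hA' : (A ⊔ Subgroup.zpowers c) ⊓ K = ⊥ := by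
    rw [eq_bot_iff]
    rintro x ⟨hx1, hx2⟩
    obtain ⟨a, ha, y, hy, rfl⟩ := Subgroup.mem_sup.mp hx1
    obtain ⟨k, rfl⟩ := Subgroup.mem_zpowers_iff.mp hy
    by_cases hck : c ^ k = 1
    · rw [hck, mul_one] at hx2 ⊢
      have : a ∈ A ⊓ K := ⟨ha, hx2⟩
      rw [hA.prop] at this
      exact this
    · exfalso
      apply hc
      have hck' : c ^ k ∈ A ⊔ K := by
        have e : c ^ k = a⁻¹ * (a * c ^ k) := by group
        rw [e]
        exact Subgroup.mul_mem _ (Subgroup.mem_sup_left (A.inv_mem ha))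
          (Subgroup.mem_sup_right hx2)
      have hnd : ¬ ((p : ℤ) ∣ k) := by
        rintro ⟨q, hq⟩
        apply hck
        rw [hq, zpow_mul, zpow_natCast, hexp, one_zpow]
      have hcop : IsCoprime (p : ℤ) k :=
        (Nat.prime_iff_prime_int.mp hp.out).coprime_iff_not_dvd.mpr hnd
      obtain ⟨a', b', hab⟩ := hcop
      have e : c = (c ^ k) ^ b' := by
        have e1 : c = c ^ (a' * (p : ℤ) + b' * k) := by rw [hab, zpow_one]
        rw [zpow_add, zpow_mul' c a', zpow_natCast, hexp, one_zpow, one_mul, zpow_mul' c b'] at e1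
        exact e1
      rw [e]
      exact Subgroup.zpow_mem _ hck' b'
  have hle : A ≤ A ⊔ Subgroup.zpowers c := le_sup_left
  have := hA.le_of_ge hA' hle
  exact hc (Subgroup.mem_sup_left (this (Subgroup.mem_sup_right (Subgroup.mem_zpowers c))))

/-- copies of finite groups in `Type` -/
theorem exists_copy_group (H : Type*) [Group H] [Finite H] :
    ∃ (E : Type) (_ : Group E), Nonempty (E ≃* H) := by
  obtain ⟨n, ⟨e⟩⟩ := Finite.exists_equiv_fin H
  exact ⟨Fin n, e.symm.group, ⟨e.symm.mulEquiv⟩⟩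

theorem exists_copy_commGroup (H : Type*) [instH : Group H] [Finite H]
    (hcH : ∀ a b : H, a * b = b * a) :
    ∃ (E : Type) (_ : CommGroup E), Nonempty (E ≃* H) := by
  letI : CommGroup H := { instH with mul_comm := hcH }
  obtain ⟨n, ⟨e⟩⟩ := Finite.exists_equiv_fin H
  exact ⟨Fin n, e.symm.commGroup, ⟨e.symm.mulEquiv⟩⟩

variable {G : Type*} [Group G]

/-- elements of the subgroup generated by `u` and `z₁` modulo the commutator subgroup -/
theorem closure_form (u z₁ : G) {e : G} (he : e ∈ Subgroup.closure {u, z₁}) :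
    ∃ m n : ℤ, ∃ w ∈ commutator G, e = u ^ m * z₁ ^ n * w := by
  have h1 : Abelianization.of e ∈ (Subgroup.closure {u, z₁}).map Abelianization.of :=
    ⟨e, he, rfl⟩
  rw [MonoidHom.map_closure, Set.image_pair, Subgroup.mem_closure_pair] at h1
  obtain ⟨m, n, hmn⟩ := h1
  refine ⟨m, n, (u ^ m * z₁ ^ n)⁻¹ * e, ?_, by group⟩
  rw [← Abelianization.ker_of, MonoidHom.mem_ker, map_mul, map_inv, map_mul, map_zpow, map_zpow,
    hmn, inv_mul_cancel]

/-- a product decomposition with a central factor -/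
theorem prod_equiv {H : Type*} [Group H] (f : H →* G) (hf : Function.Injective f)
    (A : Subgroup (Subgroup.center G))
    (hdisj : ∀ a ∈ A, ((a : Subgroup.center G) : G) ∈ f.range → a = 1)
    (hgen : ∀ g : G, ∃ h : H, ∃ a ∈ A, g = f h * ((a : Subgroup.center G) : G)) :
    Nonempty (G ≃* H × A) := by
  let g : A →* G := (Subgroup.center G).subtype.comp A.subtype
  have hcomm : ∀ (m : H) (n : A), Commute (f m) (g n) := by
    intro m n
    exact ((Subgroup.mem_center_iff.mp (n : Subgroup.center G).2) (f m))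
  let φ : H × A →* G := MonoidHom.noncommCoprod f g hcomm
  have hφ : ∀ (m : H) (n : A), φ (m, n) = f m * ((n : Subgroup.center G) : G) := fun m n => rfl
  have hinj : Function.Injective φ := by
    rw [injective_iff_map_eq_one]
    rintro ⟨m, n⟩ hmn
    rw [hφ] at hmn
    have h1 : (((n : Subgroup.center G) : G)) ∈ f.range := by
      refine ⟨m⁻¹, ?_⟩
      rw [map_inv]
      exact inv_eq_of_mul_eq_one_right hmn
    have h2 : (n : Subgroup.center G) = 1 := hdisj _ n.2 h1
    rw [h2] at hmn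
    have h3 : f m = 1 := by simpa using hmn
    have h4 : m = 1 := hf (by rw [h3, map_one])
    have h5 : n = 1 := Subtype.ext h2
    rw [h4, h5]
    rfl
  have hsurj : Function.Surjective φ := by
    intro x
    obtain ⟨m, a, ha, rfl⟩ := hgen x
    exact ⟨(m, ⟨a, ha⟩), rfl⟩
  exact ⟨(MulEquiv.ofBijective φ ⟨hinj, hsurj⟩).symm⟩

variable {p : ℕ} [hp : Fact p.Prime] {z₁ : G}

namespace Core

variable (h : Core p G z₁)
include h

theorem cm_pow_p (a b : G) : (cm a b) ^ p = 1 := by
  have hmem := cm_mem_commutator a b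
  have h1 : (⟨cm a b, hmem⟩ : commutator G) ^ p = 1 := by
    rw [← h.card]
    exact pow_card_eq_one'
  exact congrArg Subtype.val h1

theorem gen {w v : G} (hw : w ∈ commutator G) (hw1 : w ≠ 1) (hv : v ∈ commutator G) :
    ∃ i : ℕ, w ^ i = v :=
  exists_pow_eq_of_prime_card (commutator G) h.card hw hw1 hv

theorem cm_zpow_left (q x : G) (n : ℤ) : cm (q ^ n) x = (cm q x) ^ n := by
  have := map_zpow (pairHom h.hle x) q n
  exact congrArg Subtype.val this

theorem cm_mul3 (a b c x : G) : cm (a * b * c) x = cm a x * cm b x * cm c x := by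
  have := map_mul (pairHom h.hle x) (a * b) c
  have h2 := map_mul (pairHom h.hle x) a b
  rw [h2] at this
  exact congrArg Subtype.val this

/-- every `y` is `x ^ i * b` with `b` commuting with `w`, as soon as `x` does not commute
with `w` -/
theorem decomp {x w : G} (hx : cm x w ≠ 1) (y : G) :
    ∃ i : ℕ, ∃ b : G, y = x ^ i * b ∧ cm b w = 1 := by
  obtain ⟨i, hi⟩ := h.gen (cm_mem_commutator x w) hx (cm_mem_commutator y w)
  refine ⟨i, (x ^ i)⁻¹ * y, by group, ?_⟩
  rw [cm_mul_left _ _ _ (fun g => cm_comm h.hle y w g), cm_inv_left h.hle, cm_pow_left h.hle, hi,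
    inv_mul_cancel]

theorem z₁_pow : z₁ ^ p = 1 := h.expo z₁ (cm_self z₁)

theorem central_of {u : G} (hu : cm u z₁ ≠ 1) {c : G} (hc1 : cm c z₁ = 1) (hcu : cm c u = 1) :
    c ∈ Subgroup.center G := by
  rw [Subgroup.mem_center_iff]
  intro g
  obtain ⟨i, b, rfl, hb⟩ := h.decomp hu g
  have h1 : Commute c u := (cm_eq_one_iff c u).1 hcu
  have h2 : c * b = b * c := h.abel c b hc1 hb
  have h3 : c * u ^ i = u ^ i * c := h1.pow_right i
  calc u ^ i * b * c = u ^ i * (b * c) := by group
    _ = u ^ i * (c * b) := by rw [h2]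
    _ = (u ^ i * c) * b := by group
    _ = c * u ^ i * b := by rw [h3]
    _ = c * (u ^ i * b) := by group

theorem swap_ne {u : G} (hu : cm u z₁ ≠ 1) : cm z₁ u ≠ 1 := by
  intro h1
  apply hu
  rw [← cm_inv_swap, h1, inv_one]

/-- normal form `u ^ i * (z₁ ^ j * c)` with `c` central -/
theorem normal_form {u : G} (hu : cm u z₁ ≠ 1) (g : G) :
    ∃ i j : ℕ, ∃ c ∈ Subgroup.center G, g = u ^ i * (z₁ ^ j * c) := by
  obtain ⟨i, b, rfl, hb⟩ := h.decomp hu g
  obtain ⟨j, c, rfl, hc⟩ := h.decomp (h.swap_ne hu) b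
  refine ⟨i, j, c, h.central_of hu ?_ hc, rfl⟩
  have h1 := hb
  rw [cm_mul_left _ _ _ (fun g => cm_comm h.hle c z₁ g), cm_pow_left h.hle, cm_self, one_pow,
    one_mul] at h1
  exact h1

theorem center_pow {c : G} (hc : c ∈ Subgroup.center G) : c ^ p = 1 := by
  apply h.expo
  rw [cm_eq_one_iff]
  exact (Subgroup.mem_center_iff.mp hc z₁).symm

theorem cm_of_center {c : G} (hc : c ∈ Subgroup.center G) (x : G) : cm c x = 1 := by
  rw [cm_eq_one_iff]
  exact (Subgroup.mem_center_iff.mp hc x).symm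

/-- central elements of the form `u ^ m * z₁ ^ n * w` -/
theorem central_form {u : G} (hu : cm u z₁ ≠ 1) (hup : u ^ p = 1) {m n : ℤ} {w : G}
    (hw : w ∈ commutator G) (hc : u ^ m * z₁ ^ n * w ∈ Subgroup.center G) :
    u ^ m = 1 ∧ z₁ ^ n = 1 := by
  have hwc : w ∈ Subgroup.center G := h.hle hw
  have key : ∀ {a : G} (k : ℤ), a ^ p = 1 → ∀ {v : G}, v ≠ 1 → v ^ p = 1 → v ^ k = 1 →
      a ^ k = 1 := by
    intro a k ha v hv1 hvp hvk
    have ho : orderOf v = p := orderOf_eq_prime hvp hv1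
    have hd : ((orderOf v : ℕ) : ℤ) ∣ k := orderOf_dvd_iff_zpow_eq_one.mpr hvk
    rw [ho] at hd
    obtain ⟨q, rfl⟩ := hd
    rw [zpow_mul, zpow_natCast, ha, one_zpow]
  constructor
  · have h1 : cm (u ^ m * z₁ ^ n * w) z₁ = 1 := h.cm_of_center hc z₁
    rw [h.cm_mul3, h.cm_zpow_left, h.cm_zpow_left, cm_self, one_zpow, mul_one,
      h.cm_of_center hwc, mul_one] at h1
    exact key m hup hu (h.cm_pow_p u z₁) h1
  · have h1 : cm (u ^ m * z₁ ^ n * w) u = 1 := h.cm_of_center hc u
    rw [h.cm_mul3, h.cm_zpow_left, h.cm_zpow_left, cm_self, one_zpow, one_mul,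
      h.cm_of_center hwc, mul_one] at h1
    exact key n h.z₁_pow (h.swap_ne hu) (h.cm_pow_p z₁ u) h1

end Core

end Cfsg.Agent.Lib.Helper29.GenExtra
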