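import Mathlib
import Cfsg.Agent.Lib.Helper87.Chain

set_option autoImplicit false
set_option linter.unusedSectionVars false

/-!
Automorphisms of a finite `p`-group stabilizing chains: the group they generate is a `p`-group;
conjugates of such automorphisms; restriction to an invariant subgroup.
-/

namespace Cfsg.Agent.Lib.Helper29.GenExtraAut

open Cfsg.Agent.Lib.Helper87

variable {R : Type*} [Group R]

/-- automorphisms stabilizing a descending chain generate a `p`-group -/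
theorem isPGroup_closure_of_chain [Finite R] {p : ℕ} [Fact p.Prime] (hR : IsPGroup p R) (k : ℕ)
    (C : ℕ → Subgroup R) (h0 : C 0 = ⊤) (hk : C k = ⊥) (hanti : ∀ i, C (i + 1) ≤ C i)
    (s : Set (MulAut R)) (hs : ∀ β ∈ s, ∀ i < k, ∀ x ∈ C i, x⁻¹ * β x ∈ C (i + 1)) :
    IsPGroup p (Subgroup.closure s) := by
  have hinvar : ∀ β : MulAut R, (∀ i < k, ∀ x ∈ C i, x⁻¹ * β x ∈ C (i + 1)) →
      ∀ j ≤ k, ∀ x ∈ C j, β x ∈ C j := by
    intro β hβ j hj x hx
    rcases Nat.lt_or_eq_of_le hj with hlt | rfl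
    · have e : β x = x * (x⁻¹ * β x) := by group
      rw [e]
      exact (C j).mul_mem hx (hanti j (hβ j hlt x hx))
    · rw [hk, Subgroup.mem_bot] at hx
      rw [hx, map_one]
      exact Subgroup.one_mem _
  have hgood' : ∀ β ∈ Submonoid.closure s, ∀ i < k, ∀ x ∈ C i, x⁻¹ * β x ∈ C (i + 1) := by
    intro β hβ'
    induction hβ' using Submonoid.closure_induction with
    | mem β hβ => exact hs β hβ
    | one =>
      intro i _ x _
      simp
    | mul β γ _ _ ihβ ihγ =>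
      intro i hi x hx
      have e : x⁻¹ * (β * γ) x = (x⁻¹ * β x) * β (x⁻¹ * γ x) := by
        rw [MulAut.mul_apply, map_mul, map_inv]; group
      rw [e]
      exact (C (i + 1)).mul_mem (ihβ i hi x hx) (hinvar β ihβ (i + 1) hi _ (ihγ i hi x hx))
  have hgood : ∀ β ∈ Subgroup.closure s, ∀ i < k, ∀ x ∈ C i, x⁻¹ * β x ∈ C (i + 1) := by
    intro β hβ
    have hβ' : β ∈ (Subgroup.closure s).toSubmonoid := hβ
    rw [Subgroup.closure_toSubmonoid_of_finite] at hβ'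
    exact hgood' β hβ'
  rintro ⟨β, hβ⟩
  have hpos : 0 < orderOf β := orderOf_pos β
  obtain ⟨a, m, hm, hord⟩ :=
    Nat.exists_eq_pow_mul_and_not_dvd hpos.ne' p (Nat.Prime.ne_one Fact.out)
  have hcop : m.Coprime p := by
    rw [Nat.coprime_comm]
    exact (Nat.Prime.coprime_iff_not_dvd Fact.out).mpr hm
  have h1 : (β ^ (p ^ a)) ^ m = 1 := by
    rw [← pow_mul, ← hord, pow_orderOf_eq_one]
  have hpK : β ^ (p ^ a) ∈ Subgroup.closure s := Subgroup.pow_mem _ hβ _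
  have h2 := aut_eq_one_of_chain hR (β ^ (p ^ a)) m hcop h1 k C h0 hk (hgood _ hpK)
  exact ⟨a, Subtype.ext h2⟩

/-- a chain of length four -/
def chain4 (Q ZE E : Subgroup R) : ℕ → Subgroup R
  | 0 => ⊤
  | 1 => Q
  | 2 => ZE
  | 3 => E
  | _ => ⊥

/-- fixed points of an automorphism -/
def fixSub (t : MulAut R) : Subgroup R := MonoidHom.eqLocus t.toMonoidHom (MonoidHom.id R)

theorem mem_fixSub (t : MulAut R) (x : R) : x ∈ fixSub t ↔ t x = x := Iff.rfl

/-- two "transvection-like" automorphisms one of which fixes the centre of the other generate a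
`p`-group -/
theorem isPGroup_pair [Finite R] {p : ℕ} [Fact p.Prime] (hR : IsPGroup p R)
    (Q Z E : Subgroup R) (hZQ : Z ≤ Q) (hEQ : E ≤ Q) {t t' : MulAut R}
    (ta : ∀ x, x⁻¹ * t x ∈ Q) (tb : ∀ x ∈ Q, x⁻¹ * t x ∈ Z) (tc : ∀ x ∈ Z, t x = x)
    (t'a : ∀ x, x⁻¹ * t' x ∈ Q) (t'b : ∀ x ∈ Q, x⁻¹ * t' x ∈ E) (t'c : ∀ x ∈ E, t' x = x)
    (hfix : ∀ x ∈ E, t x = x) :
    IsPGroup p (Subgroup.closure ({t, t'} : Set (MulAut R))) := by
  apply isPGroup_closure_of_chain hR 4 (chain4 Q (Z ⊔ E) E) rfl rfl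
  · intro i
    rcases i with _ | _ | _ | _ | i
    · exact le_top
    · exact sup_le hZQ hEQ
    · exact le_sup_right
    · exact bot_le
    · exact le_rfl
  · intro β hβ i hi x hx
    have hfixsup : ∀ y ∈ Z ⊔ E, t y = y := by
      intro y hy
      have hle : Z ⊔ E ≤ fixSub t := sup_le (fun y hy => tc y hy) (fun y hy => hfix y hy)
      exact hle hy
    rcases hβ with hβ | hβ
    · rw [hβ]
      interval_cases i
      · exact ta x
      · exact (le_sup_left : Z ≤ Z ⊔ E) (tb x hx)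
      · show x⁻¹ * t x ∈ E
        rw [hfixsup x hx, inv_mul_cancel]
        exact E.one_mem
      · show x⁻¹ * t x ∈ (⊥ : Subgroup R)
        rw [hfix x hx, inv_mul_cancel]
        exact Subgroup.one_mem _
    · rw [Set.mem_singleton_iff] at hβ
      rw [hβ]
      interval_cases i
      · exact t'a x
      · exact (le_sup_right : E ≤ Z ⊔ E) (t'b x hx)
      · exact t'b x (sup_le hZQ hEQ hx)
      · show x⁻¹ * t' x ∈ (⊥ : Subgroup R)
        rw [t'c x hx, inv_mul_cancel]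
        exact Subgroup.one_mem _

/-- the step condition for a conjugate automorphism -/
theorem conj_step (g t : MulAut R) (C D : Subgroup R) (h : ∀ x ∈ C, x⁻¹ * t x ∈ D) (x : R)
    (hx : g⁻¹ x ∈ C) : x⁻¹ * (g * t * g⁻¹) x ∈ D.map g.toMonoidHom := by
  refine ⟨(g⁻¹ x)⁻¹ * t (g⁻¹ x), h _ hx, ?_⟩
  show g ((g⁻¹ x)⁻¹ * t (g⁻¹ x)) = x⁻¹ * g (t (g⁻¹ x))
  rw [map_mul, map_inv, MulAut.apply_inv_self]

theorem conj_fix (g t : MulAut R) (Z : Subgroup R) (h : ∀ x ∈ Z, t x = x) (x : R)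
    (hx : x ∈ Z.map g.toMonoidHom) : (g * t * g⁻¹) x = x := by
  obtain ⟨z, hz, rfl⟩ := hx
  show g (t (g⁻¹ (g z))) = g z
  rw [MulAut.inv_apply_self, h z hz]

theorem top_inv (t : MulAut R) (Q : Subgroup R) (h : ∀ x, x⁻¹ * t x ∈ Q) (x : R) :
    x⁻¹ * t⁻¹ x ∈ Q := by
  have h1 := Q.inv_mem (h (t⁻¹ x))
  rw [MulAut.apply_inv_self] at h1
  have e : ((t⁻¹ x)⁻¹ * x)⁻¹ = x⁻¹ * t⁻¹ x := by group
  rwa [e] at h1

theorem top_mul (β γ : MulAut R) (Q : Subgroup R) (hβ : ∀ x, x⁻¹ * β x ∈ Q)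
    (hγ : ∀ x, x⁻¹ * γ x ∈ Q) (hβQ : ∀ x ∈ Q, β x ∈ Q) (x : R) : x⁻¹ * (β * γ) x ∈ Q := by
  have e : x⁻¹ * (β * γ) x = (x⁻¹ * β x) * β (x⁻¹ * γ x) := by
    rw [MulAut.mul_apply, map_mul, map_inv]; group
  rw [e]
  exact Q.mul_mem (hβ x) (hβQ _ (hγ x))

/-- restriction of automorphisms to an invariant subgroup -/
def resAutHom (𝔄 : Subgroup (MulAut R)) (Q : Subgroup R)
    (hinv : ∀ α ∈ 𝔄, ∀ x ∈ Q, α x ∈ Q) : 𝔄 →* MulAut Q where
  toFun α :=
    { toFun := fun q => ⟨α.1 q, hinv α.1 α.2 q q.2⟩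
      invFun := fun q => ⟨α.1⁻¹ q, hinv α.1⁻¹ (𝔄.inv_mem α.2) q q.2⟩
      left_inv := fun q => Subtype.ext (MulAut.inv_apply_self _ _ _)
      right_inv := fun q => Subtype.ext (MulAut.apply_inv_self _ _ _)
      map_mul' := fun a b => Subtype.ext (map_mul α.1 (a : R) (b : R)) }
  map_one' := by
    ext q
    rfl
  map_mul' := fun α β => by
    ext q
    rfl

theorem resAutHom_apply (𝔄 : Subgroup (MulAut R)) (Q : Subgroup R)
    (hinv : ∀ α ∈ 𝔄, ∀ x ∈ Q, α x ∈ Q) (α : 𝔄) (q : Q) :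
    ((resAutHom 𝔄 Q hinv α q : Q) : R) = α.1 q := rfl

end Cfsg.Agent.Lib.Helper29.GenExtraAut
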