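import Mathlib
import Cfsg.Agent.Lib.Helper29.GenExtraA
import Cfsg.Agent.Lib.Helper61.DihedralLift
import Cfsg.Agent.Lib.Helper86.OrderPCube

set_option autoImplicit false
set_option linter.unusedSectionVars false
set_option linter.style.haveILetI false

/-!
Generalized extraspecial groups with a non-central element having elementary abelian centralizer:
the decompositions `D₈ × A` and `p^{1+2}_+ × A`, and the facts used in the remaining case.
-/

namespace Cfsg.Agent.Lib.Helper29.GenExtra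

open Cfsg.Agent.Lib.Helper29 Cfsg.Agent.Lib.Helper87 Cfsg.Agent.Lib.Helper61

variable {G : Type*} [Group G] {p : ℕ} [hp : Fact p.Prime] {z₁ : G}

namespace Core

theorem comm_pow_p (h : Core p G z₁) {w : G} (hw : w ∈ commutator G) : w ^ p = 1 := by
  have h1 : (⟨w, hw⟩ : commutator G) ^ p = 1 := by
    rw [← h.card]
    exact pow_card_eq_one'
  exact congrArg Subtype.val h1

/-- the main decomposition -/
theorem decomp_main (h : Core p G z₁) [Finite G] {u : G} (hu : cm u z₁ ≠ 1) (hup : u ^ p = 1)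
    {H : Type*} [Group H] (f : H →* G) (hf : Function.Injective f) (hfu : u ∈ f.range)
    (hfz : z₁ ∈ f.range) (hfle : f.range ≤ Subgroup.closure {u, z₁}) :
    ∃ A : Subgroup (Subgroup.center G), ((∀ a b : A, a * b = b * a) ∧ ∀ a : A, a ^ p = 1) ∧
      Nonempty (G ≃* H × A) := by
  have hexp : ∀ x : Subgroup.center G, x ^ p = 1 := fun x =>
    Subtype.ext (by simpa using h.center_pow x.2)
  have hcZ : ∀ a b : Subgroup.center G, a * b = b * a := fun a b =>
    Subtype.ext ((Subgroup.mem_center_iff.mp a.2 (b : G)).symm)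
  obtain ⟨A, hA1, hA2⟩ := exists_compl hcZ hexp ((commutator G).subgroupOf (Subgroup.center G))
  refine ⟨A, ⟨fun a b => Subtype.ext (hcZ a b), fun a => Subtype.ext (hexp a)⟩, ?_⟩
  apply prod_equiv f hf A
  · intro a ha har
    obtain ⟨m, n, w, hw, he⟩ := closure_form u z₁ (hfle har)
    have hc : u ^ m * z₁ ^ n * w ∈ Subgroup.center G := he ▸ a.2
    obtain ⟨h1, h2⟩ := h.central_form hu hup hw hc
    rw [h1, h2, one_mul, one_mul] at he
    have h3 : a ∈ A ⊓ (commutator G).subgroupOf (Subgroup.center G) :=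
      ⟨ha, Subgroup.mem_subgroupOf.mpr (by rw [he]; exact hw)⟩
    rw [hA1] at h3
    exact h3
  · intro g
    obtain ⟨i, j, c, hc, rfl⟩ := h.normal_form hu g
    have hc' : (⟨c, hc⟩ : Subgroup.center G) ∈
        A ⊔ (commutator G).subgroupOf (Subgroup.center G) := by
      rw [hA2]; trivial
    obtain ⟨a, ha, k, hk, hak⟩ : ∃ a ∈ A, ∃ k ∈ (commutator G).subgroupOf (Subgroup.center G),
        a * k = (⟨c, hc⟩ : Subgroup.center G) := by
      letI : CommGroup (Subgroup.center G) :=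
        { (inferInstance : Group (Subgroup.center G)) with mul_comm := hcZ }
      exact Subgroup.mem_sup.mp hc'
    have hkr : (k : G) ∈ f.range := by
      have hz' : cm u z₁ ∈ f.range := by
        unfold cm
        exact mul_mem (mul_mem (mul_mem hfu hfz) (inv_mem hfu)) (inv_mem hfz)
      obtain ⟨i', hi'⟩ := h.gen (cm_mem_commutator u z₁) hu (Subgroup.mem_subgroupOf.mp hk)
      rw [← hi']
      exact pow_mem hz' i'
    have hr : u ^ i * (z₁ ^ j * k) ∈ f.range :=
      mul_mem (pow_mem hfu i) (mul_mem (pow_mem hfz j) hkr)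
    obtain ⟨x, hx⟩ := hr
    refine ⟨x, a, ha, ?_⟩
    rw [hx]
    have e1 : c = (a : G) * (k : G) := by
      have := congrArg Subtype.val hak
      simpa using this.symm
    have hcomm : ∀ y : G, y * (a : G) = (a : G) * y := Subgroup.mem_center_iff.mp a.2
    rw [e1, ← hcomm (k : G)]
    group

/-- two nontrivial elements of the commutator subgroup coincide when `p = 2` -/
theorem eq_of_two (h : Core 2 G z₁) {w v : G} (hw : w ∈ commutator G) (hw1 : w ≠ 1)
    (hv : v ∈ commutator G) (hv1 : v ≠ 1) : w = v := by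
  obtain ⟨i, hi⟩ := h.gen hw hw1 hv
  have hw2 : w ^ 2 = 1 := h.comm_pow_p hw
  rcases Nat.even_or_odd' i with ⟨k, rfl | rfl⟩
  · exfalso
    apply hv1
    rw [← hi, pow_mul, hw2, one_pow]
  · rw [← hi, pow_succ, pow_mul, hw2, one_pow, one_mul]

/-- the case `p = 2`: the group is `D₈ × A` -/
theorem case_two (h : Core 2 G z₁) [Finite G] :
    ∃ (A : Type) (_ : CommGroup A), (∀ a : A, a ^ 2 = 1) ∧
      Nonempty (G ≃* DihedralGroup 4 × A) := by
  obtain ⟨u₀, hu₀⟩ := h.nc
  have hz₁ : z₁ ^ 2 = 1 := h.z₁_pow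
  obtain ⟨u, hu, huu⟩ : ∃ u, cm u z₁ ≠ 1 ∧ u ^ 2 = 1 := by
    by_cases h0 : u₀ ^ 2 = 1
    · exact ⟨u₀, hu₀, h0⟩
    · refine ⟨u₀ * z₁, ?_, ?_⟩
      · rw [cm_mul_left _ _ _ (fun g => cm_comm h.hle z₁ z₁ g), cm_self, mul_one]
        exact hu₀
      · rw [mul_pow_classTwo h.hle, hz₁, mul_one, Nat.choose_self, pow_one]
        have e := h.eq_of_two (h.pow u₀) h0 (cm_mem_commutator z₁ u₀) (h.swap_ne hu₀)
        rw [← e, ← pow_two, ← pow_mul]
        have : (u₀ ^ 2) ^ 2 = 1 := h.comm_pow_p (h.pow u₀)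
        rw [← pow_mul] at this
        exact this
  have hs : u * u = 1 := by rw [← pow_two]; exact huu
  have hzz : z₁ * z₁ = 1 := by rw [← pow_two]; exact hz₁
  have hui : u⁻¹ = u := inv_eq_of_mul_eq_one_right hs
  have hzi : z₁⁻¹ = z₁ := inv_eq_of_mul_eq_one_right hzz
  have hz'2 : cm u z₁ * cm u z₁ = 1 := by
    rw [← pow_two]; exact h.cm_pow_p u z₁
  have hx2 : (u * z₁) * (u * z₁) = cm u z₁ := by
    show u * z₁ * (u * z₁) = u * z₁ * u⁻¹ * z₁⁻¹
    rw [hui, hzi]
    group
  have hsx : u * (u * z₁) * u = (u * z₁)⁻¹ := by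
    rw [mul_inv_rev, hui, hzi, ← mul_assoc, hs, one_mul]
  have hx4 : (u * z₁) ^ 4 = 1 := by
    have e : (u * z₁) ^ 4 = ((u * z₁) * (u * z₁)) * ((u * z₁) * (u * z₁)) := by
      have e4 : 4 = 2 + 2 := by norm_num
      rw [e4, pow_add, pow_two]
    rw [e, hx2, hz'2]
  have hord : orderOf (u * z₁) = 4 := by
    have h1 : ¬ (u * z₁) ^ 2 ^ 1 = 1 := by
      rw [pow_one, pow_two, hx2]; exact hu
    have h2 : (u * z₁) ^ 2 ^ (1 + 1) = 1 := by
      have : 2 ^ (1 + 1) = 4 := by norm_num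
      rw [this]; exact hx4
    have := orderOf_eq_prime_pow h1 h2
    rw [this]
    norm_num
  have hxy : u * z₁ ≠ z₁ * u := fun e => hu ((cm_eq_one_iff u z₁).2 e)
  have hns : u ∉ Subgroup.zpowers (u * z₁) := by
    intro hmem
    obtain ⟨k, hk⟩ := Subgroup.mem_zpowers_iff.mp hmem
    have hc : Commute (u * z₁) u := by
      have hc' : Commute (u * z₁) ((u * z₁) ^ k) := (Commute.refl (u * z₁)).zpow_right k
      rw [hk] at hc'
      exact hc'
    apply hxy
    have e : u * (z₁ * u) = u * (u * z₁) := by rw [← mul_assoc, hc.eq]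
    exact (mul_left_cancel e).symm
  have key : ∀ (n : ℕ) (_ : orderOf (u * z₁) = n) (hr : (u * z₁) ^ n = 1),
      Function.Injective (dihedralLift u (u * z₁) n hs hsx hr) := by
    intro n hn hr
    subst hn
    exact dihedralLift_injective u (u * z₁) hs hsx hns
  have hf := key 4 hord hx4
  set f := dihedralLift u (u * z₁) 4 hs hsx hx4 with hfdef
  have hfu : u ∈ f.range := by
    refine ⟨DihedralGroup.sr 0, ?_⟩
    rw [hfdef, dihedralLift_sr]
    simp
  have hfx : u * z₁ ∈ f.range := by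
    refine ⟨DihedralGroup.r 1, ?_⟩
    rw [hfdef, dihedralLift_r]
    have : (u * z₁) ^ (((1 : ZMod 4).cast : ℤ)) = (u * z₁) ^ (1 : ℤ) := by
      apply zpow_eq_of_cast_eq hx4
      simp
    rw [this, zpow_one]
  have hfz : z₁ ∈ f.range := by
    have e : z₁ = u⁻¹ * (u * z₁) := by group
    rw [e]
    exact mul_mem (inv_mem hfu) hfx
  have hucl : u ∈ Subgroup.closure ({u, z₁} : Set G) := Subgroup.subset_closure (by simp)
  have hzcl : z₁ ∈ Subgroup.closure ({u, z₁} : Set G) := Subgroup.subset_closure (by simp)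
  have hfle : f.range ≤ Subgroup.closure {u, z₁} := by
    rintro _ ⟨d, rfl⟩
    rcases d with i | i
    · rw [hfdef, dihedralLift_r]
      exact Subgroup.zpow_mem _ (mul_mem hucl hzcl) _
    · rw [hfdef, dihedralLift_sr]
      exact mul_mem hucl (Subgroup.zpow_mem _ (mul_mem hucl hzcl) _)
  obtain ⟨A₀, ⟨hA₀c, hA₀⟩, ⟨e₁⟩⟩ := h.decomp_main hu huu f hf hfu hfz hfle
  obtain ⟨A, instA, ⟨e₂⟩⟩ := exists_copy_commGroup A₀ hA₀c
  refine ⟨A, instA, fun a => ?_, ⟨e₁.trans (MulEquiv.prodCongr (MulEquiv.refl _) e₂.symm)⟩⟩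
  apply e₂.injective
  rw [map_pow, hA₀, map_one]

/-- small groups are commutative -/
theorem comm_of_card_le {E : Type*} [Group E] [Finite E] {k : ℕ} (hk : k ≤ 2)
    (hE : Nat.card E = p ^ k) : ∀ a b : E, a * b = b * a := by
  interval_cases k
  · rw [pow_zero] at hE
    have : Subsingleton E := (Nat.card_eq_one_iff_unique.mp hE).1
    intro a b
    exact Subsingleton.elim _ _
  · rw [pow_one] at hE
    have : IsCyclic E := isCyclic_of_prime_card hE
    intro a b
    obtain ⟨g, hg⟩ := IsCyclic.exists_generator (α := E)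
    obtain ⟨m, rfl⟩ := Subgroup.mem_zpowers_iff.mp (hg a)
    obtain ⟨n, rfl⟩ := Subgroup.mem_zpowers_iff.mp (hg b)
    rw [← zpow_add, ← zpow_add, add_comm]
  · intro a b
    exact (IsPGroup.isMulCommutative_of_card_eq_prime_sq hE).is_comm.comm a b

/-- the case `p` odd, exponent `p`: the group is `p^{1+2}_+ × A` -/
theorem case_odd (h : Core p G z₁) [Finite G] (hexp : ∀ x : G, x ^ p = 1) :
    ∃ (E : Type) (_ : Group E) (A : Type) (_ : CommGroup A), Cfsg.IsExtraspecial p E ∧
      Nat.card E = p ^ 3 ∧ Monoid.exponent E = p ∧ (∀ a : A, a ^ p = 1) ∧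
      Nonempty (G ≃* E × A) := by
  have hpp : p.Prime := hp.out
  obtain ⟨u, hu⟩ := h.nc
  have hucl : u ∈ Subgroup.closure ({u, z₁} : Set G) := Subgroup.subset_closure (by simp)
  have hzcl : z₁ ∈ Subgroup.closure ({u, z₁} : Set G) := Subgroup.subset_closure (by simp)
  have hrange : (Subgroup.closure ({u, z₁} : Set G)).subtype.range = Subgroup.closure {u, z₁} :=
    Subgroup.range_subtype _
  obtain ⟨A₀, ⟨hA₀c, hA₀⟩, ⟨e₁⟩⟩ := h.decomp_main hu (hexp u) (Subgroup.closure ({u, z₁} : Set G)).subtype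
    (Subgroup.subtype_injective _) (by rw [hrange]; exact hucl) (by rw [hrange]; exact hzcl)
    (by rw [hrange])
  -- the order of `E₀`
  have hform : ∀ e : Subgroup.closure ({u, z₁} : Set G),
      ∃ t : Fin p × Fin p × commutator G,
        (e : G) = u ^ (t.1 : ℕ) * z₁ ^ (t.2.1 : ℕ) * (t.2.2 : G) := by
    intro e
    obtain ⟨m, n, w, hw, he⟩ := closure_form u z₁ e.2
    have hpos : (0 : ℤ) < (p : ℤ) := by exact_mod_cast hpp.pos
    have red : ∀ (a : G), a ^ p = 1 → ∀ k : ℤ, ∃ i : Fin p, a ^ k = a ^ (i : ℕ) := by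
      intro a ha k
      have h1 : 0 ≤ k % (p : ℤ) := Int.emod_nonneg _ hpos.ne'
      have h2 : k % (p : ℤ) < p := Int.emod_lt_of_pos _ hpos
      refine ⟨⟨(k % (p : ℤ)).toNat, by omega⟩, ?_⟩
      rw [zpow_eq_zpow_emod' k ha]
      show a ^ (k % (p : ℤ)) = a ^ (k % (p : ℤ)).toNat
      rw [← zpow_natCast, Int.toNat_of_nonneg h1]
    obtain ⟨i, hi⟩ := red u (hexp u) m
    obtain ⟨j, hj⟩ := red z₁ (hexp z₁) n
    exact ⟨(i, j, ⟨w, hw⟩), by rw [he, hi, hj]⟩
  choose φ hφ using hform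
  have hφinj : Function.Injective φ := by
    intro e e' hee
    apply Subtype.ext
    rw [hφ e, hφ e', hee]
  have hfinC : Finite (commutator G) := inferInstance
  have hle3 : Nat.card (Subgroup.closure ({u, z₁} : Set G)) ≤ p ^ 3 := by
    have h1 := Nat.card_le_card_of_injective φ hφinj
    rw [Nat.card_prod, Nat.card_prod, Nat.card_fin, h.card] at h1
    calc _ ≤ p * (p * p) := h1
      _ = p ^ 3 := by ring
  have hEp : IsPGroup p (Subgroup.closure ({u, z₁} : Set G)) := by
    intro g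
    refine ⟨1, ?_⟩
    rw [pow_one]
    exact Subtype.ext (by simpa using hexp (g : G))
  obtain ⟨k, hk⟩ := IsPGroup.iff_card.mp hEp
  have hna : ¬ ∀ a b : Subgroup.closure ({u, z₁} : Set G), a * b = b * a := by
    intro hc
    apply hu
    rw [cm_eq_one_iff]
    have := hc ⟨u, hucl⟩ ⟨z₁, hzcl⟩
    exact congrArg Subtype.val this
  have hk3 : k = 3 := by
    have h1 : k ≤ 3 := by
      rw [hk] at hle3
      exact (Nat.pow_le_pow_iff_right hpp.one_lt).mp hle3
    have h2 : ¬ k ≤ 2 := fun h2 => hna (comm_of_card_le h2 hk)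
    omega
  rw [hk3] at hk
  obtain ⟨E, instE, ⟨e₃⟩⟩ := exists_copy_group (Subgroup.closure ({u, z₁} : Set G))
  obtain ⟨A, instA, ⟨e₂⟩⟩ := exists_copy_commGroup A₀ hA₀c
  have hcardE : Nat.card E = p ^ 3 := by
    rw [Nat.card_congr e₃.toEquiv, hk]
  have hfinE : Finite E := Nat.finite_of_card_ne_zero (by rw [hcardE]; exact pow_ne_zero 3 hpp.ne_zero)
  have hexpE : ∀ x : E, x ^ p = 1 := by
    intro x
    apply e₃.injective
    rw [map_pow, map_one]
    exact Subtype.ext (by simpa using hexp ((e₃ x : Subgroup.closure ({u, z₁} : Set G)) : G))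
  have hnaE : ¬ ∀ a b : E, a * b = b * a := by
    intro hc
    apply hna
    intro a b
    have := hc (e₃.symm a) (e₃.symm b)
    have h2 := congrArg e₃ this
    simpa using h2
  have hntE : Nontrivial E := by
    rw [← Finite.one_lt_card_iff_nontrivial, hcardE]
    exact Nat.one_lt_pow (by norm_num) hpp.one_lt
  refine ⟨E, instE, A, instA, Cfsg.Agent.Lib.Helper86.extraspecial_of_exponent p hcardE hnaE hexpE,
    hcardE, ?_, fun a => ?_, ⟨e₁.trans (MulEquiv.prodCongr e₃.symm e₂.symm)⟩⟩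
  · rw [Monoid.exponent_eq_prime_iff hpp]
    intro g hg
    exact orderOf_eq_prime (hexpE g) hg
  · apply e₂.injective
    rw [map_pow, hA₀, map_one]

/-- the remaining case: `p` odd and some element of order `p²` -/
theorem minus_facts (h : Core p G z₁) (hp2 : p ≠ 2) {u₀ : G} (hu₀ : u₀ ^ p ≠ 1) :
    (∀ x : G, x ^ p = 1 → cm x z₁ = 1) ∧ (∀ b u : G, b ^ p = 1 → (b * u) ^ p = u ^ p) := by
  constructor
  · intro x hx
    by_contra hne
    obtain ⟨i, b, hub, hb⟩ := h.decomp hne u₀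
    apply hu₀
    rw [hub, mul_pow_prime_classTwo h.hle hp.out hp2 _ _ (h.cm_pow_p _ _), ← pow_mul, mul_comm i p,
      pow_mul, hx, one_pow, one_mul, h.expo b hb]
  · intro b u hb
    rw [mul_pow_prime_classTwo h.hle hp.out hp2 _ _ (h.cm_pow_p _ _), hb, one_mul]

end Core

end Cfsg.Agent.Lib.Helper29.GenExtra
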