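import Mathlib
import Cfsg.Agent.Lib.Helper87.Chain
import Cfsg.Agent.Lib.Helper87.Essential
import Cfsg.Agent.Lib.Helper87.Lemma26
import Cfsg.Agent.Lib.Helper87.SL2Trick
import Cfsg.Agent.Lib.Helper84.FusionBasic

set_option autoImplicit false
set_option linter.unusedSectionVars false

/-!
Strongly closed generalized extraspecial subgroups of a saturated fusion system: if such a subgroup
`P` is not contained in an essential subgroup `R`, then some non-central element of `P` has an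
elementary abelian centralizer in `P`.
-/

namespace Cfsg.Agent.Lib.Helper29.GenExtraFus

open Cfsg Cfsg.FusionSystem Cfsg.Agent.Lib.Helper87

variable {Ω : Type*} [Group Ω] {S : Subgroup Ω}

/-- the data of a generalized extraspecial normal subgroup `P` of `S` with `Z₀ = P' = Φ(P)` -/
structure PData (p : ℕ) (S P Z₀ : Subgroup Ω) : Prop where
  hPS : P ≤ S
  hnorm : ∀ s ∈ S, ∀ x ∈ P, s * x * s⁻¹ ∈ P
  hZP : Z₀ ≤ P
  hcard : Nat.card Z₀ = p
  hcomm : ∀ x ∈ P, ∀ y ∈ P, x * y * x⁻¹ * y⁻¹ ∈ Z₀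
  hpow : ∀ x ∈ P, x ^ p ∈ Z₀
  hcent : ∀ z ∈ Z₀, ∀ s ∈ S, s * z = z * s

theorem PData.le_normalizer {p : ℕ} {P Z₀ : Subgroup Ω} (d : PData p S P Z₀) :
    S ≤ Subgroup.normalizer (P : Set Ω) := by
  intro s hs
  rw [Subgroup.mem_normalizer_iff]
  intro x
  constructor
  · exact d.hnorm s hs x
  · intro hx
    have := d.hnorm s⁻¹ (S.inv_mem hs) _ hx
    have e : s⁻¹ * (s * x * s⁻¹) * s⁻¹⁻¹ = x := by group
    rwa [e] at this

/-- chains of length two and three -/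
def chain2 {R : Type*} [Group R] (A : Subgroup R) : ℕ → Subgroup R
  | 0 => ⊤
  | 1 => A
  | _ => ⊥

def chain3 {R : Type*} [Group R] (A B : Subgroup R) : ℕ → Subgroup R
  | 0 => ⊤
  | 1 => A
  | 2 => B
  | _ => ⊥

/-- an element of `N_S(R)` whose conjugation stabilizes an invariant chain lies in `R` -/
theorem mem_of_chain [Finite S] {p : ℕ} [Fact p.Prime] (hS : IsPGroup p S) (F : FusionSystem S)
    {R : Subgroup Ω} (hRS : R ≤ S) (hrad : F.IsRadical p R) (hcen : centralizerIn S R ≤ R)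
    (k : ℕ) (C : ℕ → Subgroup R) (h0 : C 0 = ⊤) (hk : C k = ⊥)
    (hinv : ∀ γ ∈ F.autGroup R, ∀ i, ∀ x ∈ C i, γ x ∈ C i)
    {x : Ω} (hxS : x ∈ S) (hxN : x ∈ Subgroup.normalizer (R : Set Ω))
    (hx : ∀ i < k, ∀ y ∈ C i, y⁻¹ * conjAut R x hxN y ∈ C (i + 1)) : x ∈ R := by
  by_contra hxR
  have h1 : conjAut R x hxN ∈ F.autGroup R :=
    autInducedBy_le_autGroup F hRS (conjAut_mem_autInducedBy hxS hxN)
  have h2 := stabilizer_le_inn hS F hRS hrad k C h0 hk hinv h1 hx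
  exact not_mem_inn_of_conj hRS hcen hxS hxR (fun y => conjAut_coe R x hxN y) h2

/-- automorphisms in `Aut_F(R)` preserve a strongly closed subgroup -/
theorem aut_mem_of_stronglyClosed (F : FusionSystem S) {P : Subgroup Ω} (hP : F.StronglyClosed P)
    {R : Subgroup Ω} (hRS : R ≤ S) {α : MulAut R} (hα : α ∈ F.autGroup R) (x : R)
    (hx : (x : Ω) ∈ P) : ((α x : R) : Ω) ∈ P := by
  have hα' := (mem_autGroup_iff F hRS α).mp hα
  have h1 := restrict_mem F hα' (inf_le_right : P ⊓ R ≤ R)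
  exact hP.2 (P ⊓ R) inf_le_left _ h1 ⟨x, ⟨hx, x.2⟩⟩

theorem aut_mem_subgroupOf (F : FusionSystem S) {P : Subgroup Ω} (hP : F.StronglyClosed P)
    {R : Subgroup Ω} (hRS : R ≤ S) {α : MulAut R} (hα : α ∈ F.autGroup R) (x : R)
    (hx : x ∈ P.subgroupOf R) : α x ∈ P.subgroupOf R :=
  Subgroup.mem_subgroupOf.mpr
    (aut_mem_of_stronglyClosed F hP hRS hα x (Subgroup.mem_subgroupOf.mp hx))

/-- the first step of conjugation by an element of `P` normalizing `R` -/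
theorem conj_step_top {p : ℕ} {P Z₀ : Subgroup Ω} (d : PData p S P Z₀) {R : Subgroup Ω}
    (hRS : R ≤ S) {x : Ω} (hxP : x ∈ P) (hxN : x ∈ Subgroup.normalizer (R : Set Ω)) (y : R) :
    y⁻¹ * conjAut R x hxN y ∈ P.subgroupOf R := by
  rw [Subgroup.mem_subgroupOf]
  show (y : Ω)⁻¹ * (x * y * x⁻¹) ∈ P
  have h1 := d.hnorm (y : Ω)⁻¹ (S.inv_mem (hRS y.2)) x hxP
  have e : (y : Ω)⁻¹ * (x * y * x⁻¹) = ((y : Ω)⁻¹ * x * (y : Ω)⁻¹⁻¹) * x⁻¹ := by group
  rw [e]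
  exact P.mul_mem h1 (P.inv_mem hxP)

/-- some `Aut_F(R)`-conjugate of an element of `Z₀` is not central in `P` -/
theorem exists_noncentral [Finite S] {p : ℕ} [Fact p.Prime] (hS : IsPGroup p S)
    (F : FusionSystem S) {P Z₀ : Subgroup Ω} (hP : F.StronglyClosed P) (d : PData p S P Z₀)
    {R : Subgroup Ω} (hRS : R ≤ S) (hrad : F.IsRadical p R) (hcen : centralizerIn S R ≤ R)
    (hPR : ¬ P ≤ R) :
    ∃ α ∈ F.autGroup R, ∃ z : R, (z : Ω) ∈ Z₀ ∧
      ∃ x ∈ P, x * ((α z : R) : Ω) ≠ ((α z : R) : Ω) * x := by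
  by_contra hcon
  push Not at hcon
  apply hPR
  let W : Subgroup R := Subgroup.closure {w | ∃ α ∈ F.autGroup R, ∃ z : R, (z : Ω) ∈ Z₀ ∧ w = α z}
  have hWc : ∀ w ∈ W, ∀ x ∈ P, x * (w : Ω) = (w : Ω) * x := by
    intro w hw x hx
    induction hw using Subgroup.closure_induction with
    | mem w hw =>
      obtain ⟨α, hα, z, hz, rfl⟩ := hw
      exact hcon α hα z hz x hx
    | one => simp
    | mul a b _ _ ha hb =>
      show x * ((a : Ω) * (b : Ω)) = (a : Ω) * (b : Ω) * x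
      rw [← mul_assoc, ha, mul_assoc, hb, mul_assoc]
    | inv a _ ha =>
      show x * (a : Ω)⁻¹ = (a : Ω)⁻¹ * x
      calc x * (a : Ω)⁻¹ = (a : Ω)⁻¹ * ((a : Ω) * x) * (a : Ω)⁻¹ := by group
        _ = (a : Ω)⁻¹ * (x * (a : Ω)) * (a : Ω)⁻¹ := by rw [ha]
        _ = (a : Ω)⁻¹ * x := by group
  have hWinv : ∀ γ ∈ F.autGroup R, ∀ w ∈ W, γ w ∈ W := by
    intro γ hγ w hw
    induction hw using Subgroup.closure_induction with
    | mem w hw =>
      obtain ⟨α, hα, z, hz, rfl⟩ := hw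
      exact Subgroup.subset_closure ⟨γ * α, (F.autGroup R).mul_mem hγ hα, z, hz, rfl⟩
    | one => rw [map_one]; exact W.one_mem
    | mul a b _ _ ha hb => rw [map_mul]; exact W.mul_mem ha hb
    | inv a _ ha => rw [map_inv]; exact W.inv_mem ha
  have hZW : ∀ z : R, (z : Ω) ∈ Z₀ → z ∈ W := fun z hz =>
    Subgroup.subset_closure ⟨1, (F.autGroup R).one_mem, z, hz, rfl⟩
  apply le_of_normalizer_inf_le hS hRS d.hPS d.le_normalizer
  rintro x ⟨hxP, hxN⟩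
  apply mem_of_chain hS F hRS hrad hcen 3 (chain3 (P.subgroupOf R) W) rfl rfl ?_ (d.hPS hxP) hxN
  · intro i hi y hy
    interval_cases i
    · exact conj_step_top d hRS hxP hxN y
    · apply hZW
      show (y : Ω)⁻¹ * (x * y * x⁻¹) ∈ Z₀
      have hyP : (y : Ω) ∈ P := Subgroup.mem_subgroupOf.mp hy
      have h1 := d.hcomm (y : Ω)⁻¹ (P.inv_mem hyP) x hxP
      have e : (y : Ω)⁻¹ * (x * y * x⁻¹) = (y : Ω)⁻¹ * x * (y : Ω)⁻¹⁻¹ * x⁻¹ := by group
      rw [e]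
      exact h1
    · show y⁻¹ * conjAut R x hxN y ∈ (⊥ : Subgroup R)
      rw [Subgroup.mem_bot]
      apply Subtype.ext
      show (y : Ω)⁻¹ * (x * y * x⁻¹) = 1
      rw [hWc y hy x hxP]
      group
  · intro γ hγ i y hy
    rcases i with _ | _ | _ | i
    · exact Subgroup.mem_top _
    · exact aut_mem_subgroupOf F hP hRS hγ y hy
    · exact hWinv γ hγ y hy
    · have : y = 1 := hy
      rw [this, map_one]
      exact Subgroup.one_mem _

/-- the central subgroup `Z₀` is fully centralized, hence receptive -/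
theorem receptive_Z₀ [Finite S] {p : ℕ} [Fact p.Prime] (hS : IsPGroup p S)
    (F : FusionSystem S) (hF : F.IsSaturated p) {P Z₀ : Subgroup Ω} (d : PData p S P Z₀) :
    F.IsReceptive Z₀ := by
  apply receptive_of_fullyCentralized hS F hF
  refine ⟨d.hZP.trans d.hPS, fun Q _ => ?_⟩
  have hle : centralizerIn S Q ≤ centralizerIn S Z₀ := by
    intro x hx
    refine ⟨hx.1, Subgroup.mem_centralizer_iff.mpr ?_⟩
    intro z hz
    exact (d.hcent z hz x hx.1).symm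
  have hfin : Finite (centralizerIn S Z₀) := finite_of_le (centralizerIn_le S Z₀)
  exact Subgroup.card_le_of_le hle

/-- the main output of this file -/
theorem exists_elt [Finite S] {p : ℕ} [Fact p.Prime] (hS : IsPGroup p S)
    (F : FusionSystem S) (hF : F.IsSaturated p) {P Z₀ : Subgroup Ω} (hP : F.StronglyClosed P)
    (d : PData p S P Z₀) {R : Subgroup Ω} (hRS : R ≤ S) (hrad : F.IsRadical p R)
    (hcen : centralizerIn S R ≤ R) (hPR : ¬ P ≤ R) :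
    ∃ z₁ : Ω, z₁ ∈ P ∧ z₁ ∈ R ∧ (∀ r ∈ R, r * z₁ = z₁ * r) ∧ (∃ x ∈ P, x * z₁ ≠ z₁ * x) ∧
      (∀ a ∈ P, ∀ b ∈ P, a * z₁ = z₁ * a → b * z₁ = z₁ * b → a * b = b * a) ∧
      (∀ a ∈ P, a * z₁ = z₁ * a → a ^ p = 1) := by
  obtain ⟨α, hα, z, hz, x₀, hx₀P, hx₀⟩ := exists_noncentral hS F hP d hRS hrad hcen hPR
  obtain ⟨z₁, hz₁def⟩ : ∃ z₁ : Ω, z₁ = ((α z : R) : Ω) := ⟨_, rfl⟩
  rw [← hz₁def] at hx₀
  have hz₁R : z₁ ∈ R := hz₁def ▸ (α z).2
  have hz₁P : z₁ ∈ P := hz₁def ▸ aut_mem_of_stronglyClosed F hP hRS hα z (d.hZP hz)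
  have hz₁Z : z₁ ∉ Z₀ := fun hmem => hx₀ (d.hcent z₁ hmem x₀ (d.hPS hx₀P))
  -- `z₁` is central in `R`
  have hz₁c : ∀ r ∈ R, r * z₁ = z₁ * r := by
    intro r hr
    have h1 : (α⁻¹ ⟨r, hr⟩ : R) * z = z * (α⁻¹ ⟨r, hr⟩ : R) :=
      Subtype.ext (d.hcent (z : Ω) hz _ (hRS (α⁻¹ ⟨r, hr⟩ : R).2))
    have h2 := congrArg α h1
    rw [map_mul, map_mul, MulAut.apply_inv_self] at h2
    have h3 := congrArg Subtype.val h2
    rw [hz₁def]
    exact h3
  have hz1 : (z : Ω) ≠ 1 := by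
    intro h1
    apply hx₀
    have : z = 1 := Subtype.ext h1
    rw [hz₁def, this, map_one]
    simp
  -- the map from `⟨z₁⟩` to `Z₀`
  have hTR : Subgroup.zpowers z₁ ≤ R := by
    rw [Subgroup.zpowers_le]; exact hz₁R
  have hαi := (mem_autGroup_iff F hRS α⁻¹).mp ((F.autGroup R).inv_mem hα)
  have hφ₁ := restrict_mem F hαi hTR
  set φ₁ := (R.subtype.comp (α⁻¹).toMonoidHom).comp (Subgroup.inclusion hTR) with hφ₁def
  have hφ₁z : φ₁ ⟨z₁, Subgroup.mem_zpowers z₁⟩ = (z : Ω) := by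
    show ((α⁻¹ (Subgroup.inclusion hTR ⟨z₁, Subgroup.mem_zpowers z₁⟩) : R) : Ω) = z
    have e : Subgroup.inclusion hTR ⟨z₁, Subgroup.mem_zpowers z₁⟩ = α z :=
      Subtype.ext hz₁def
    rw [e, MulAut.inv_apply_self]
  have hrange : φ₁.range = Z₀ := by
    apply le_antisymm
    · rintro _ ⟨⟨t, ht⟩, rfl⟩
      obtain ⟨k, hk⟩ := Subgroup.mem_zpowers_iff.mp ht
      have e : (⟨t, ht⟩ : Subgroup.zpowers z₁) = ⟨z₁, Subgroup.mem_zpowers z₁⟩ ^ k :=
        Subtype.ext (by rw [Subgroup.coe_zpow]; exact hk.symm)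
      rw [e, map_zpow, hφ₁z]
      exact Z₀.zpow_mem hz k
    · intro y hy
      obtain ⟨m, hm⟩ := exists_pow_eq_of_prime_card Z₀ d.hcard hz hz1 hy
      refine ⟨⟨z₁, Subgroup.mem_zpowers z₁⟩ ^ m, ?_⟩
      rw [map_pow, hφ₁z, hm]
  have hrec := receptive_Z₀ hS F hF d
  obtain ⟨ψ, hψ, hψe⟩ := hrec.2 _ φ₁ hφ₁ hrange
  -- the centralizer of `z₁` in `P`
  have hB : P ⊓ Subgroup.centralizer (Subgroup.zpowers z₁ : Set Ω) ≤
      extender S (Subgroup.zpowers z₁) φ₁ := fun b hb =>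
    Cfsg.Agent.Lib.Helper84.centralizerIn_le_extender (Subgroup.zpowers z₁) φ₁ ⟨d.hPS hb.1, hb.2⟩
  have hφ := restrict_mem F hψ hB
  set φ := ψ.comp (Subgroup.inclusion hB) with hφdef
  have hmemB : ∀ a ∈ P, a * z₁ = z₁ * a →
      a ∈ P ⊓ Subgroup.centralizer (Subgroup.zpowers z₁ : Set Ω) := by
    intro a ha hc
    refine ⟨ha, Subgroup.mem_centralizer_iff.mpr ?_⟩
    intro t ht
    obtain ⟨k, rfl⟩ := Subgroup.mem_zpowers_iff.mp ht
    have : Commute z₁ a := hc.symm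
    exact (this.zpow_left k).eq
  have hz₁B : z₁ ∈ P ⊓ Subgroup.centralizer (Subgroup.zpowers z₁ : Set Ω) := hmemB z₁ hz₁P rfl
  have hφz : φ ⟨z₁, hz₁B⟩ = (z : Ω) := by
    show ψ (Subgroup.inclusion hB ⟨z₁, hz₁B⟩) = z
    have := hψe z₁ (Subgroup.mem_zpowers z₁) (hB hz₁B)
    rw [← hφ₁z, ← this]
    rfl
  have hφP : ∀ b : ↥(P ⊓ Subgroup.centralizer (Subgroup.zpowers z₁ : Set Ω)), φ b ∈ P :=
    hP.2 _ inf_le_left φ hφ
  have hφinj := F.injective_of_mem hφ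
  -- the key vanishing
  have key : ∀ c (hc : c ∈ P ⊓ Subgroup.centralizer (Subgroup.zpowers z₁ : Set Ω)), c ∈ Z₀ →
      φ ⟨c, hc⟩ ∈ Z₀ → c = 1 := by
    intro c hc hcZ hφc
    by_contra hc1
    have hφc1 : φ ⟨c, hc⟩ ≠ 1 := by
      intro h1
      apply hc1
      have : (⟨c, hc⟩ : ↥(P ⊓ Subgroup.centralizer (Subgroup.zpowers z₁ : Set Ω))) = 1 :=
        hφinj (by rw [h1, map_one])
      exact congrArg Subtype.val this
    obtain ⟨m, hm⟩ := exists_pow_eq_of_prime_card Z₀ d.hcard hφc hφc1 hz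
    have h2 : φ (⟨c, hc⟩ ^ m) = φ ⟨z₁, hz₁B⟩ := by rw [map_pow, hm, hφz]
    have h3 := congrArg Subtype.val (hφinj h2)
    apply hz₁Z
    have h4 : z₁ = c ^ m := h3.symm
    rw [h4]
    exact Z₀.pow_mem hcZ m
  refine ⟨z₁, hz₁P, hz₁R, hz₁c, ⟨x₀, hx₀P, hx₀⟩, ?_, ?_⟩
  · intro a ha b hb hac hbc
    have haB := hmemB a ha hac
    have hbB := hmemB b hb hbc
    have hcB : a * b * a⁻¹ * b⁻¹ ∈ P ⊓ Subgroup.centralizer (Subgroup.zpowers z₁ : Set Ω) :=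
      Subgroup.mul_mem _ (Subgroup.mul_mem _ (Subgroup.mul_mem _ haB hbB)
        (Subgroup.inv_mem _ haB)) (Subgroup.inv_mem _ hbB)
    have h1 : a * b * a⁻¹ * b⁻¹ = 1 := by
      apply key _ hcB (d.hcomm a ha b hb)
      have e : (⟨a * b * a⁻¹ * b⁻¹, hcB⟩ :
          ↥(P ⊓ Subgroup.centralizer (Subgroup.zpowers z₁ : Set Ω))) =
          ⟨a, haB⟩ * ⟨b, hbB⟩ * ⟨a, haB⟩⁻¹ * ⟨b, hbB⟩⁻¹ := rfl
      rw [e, map_mul, map_mul, map_mul, map_inv, map_inv]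
      exact d.hcomm _ (hφP _) _ (hφP _)
    calc a * b = (a * b * a⁻¹ * b⁻¹) * (b * a) := by group
      _ = b * a := by rw [h1, one_mul]
  · intro a ha hac
    have haB := hmemB a ha hac
    have hcB : a ^ p ∈ P ⊓ Subgroup.centralizer (Subgroup.zpowers z₁ : Set Ω) :=
      Subgroup.pow_mem _ haB p
    apply key _ hcB (d.hpow a ha)
    have e : (⟨a ^ p, hcB⟩ : ↥(P ⊓ Subgroup.centralizer (Subgroup.zpowers z₁ : Set Ω))) =
        ⟨a, haB⟩ ^ p := rfl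
    rw [e, map_pow]
    exact d.hpow _ (hφP _)

end Cfsg.Agent.Lib.Helper29.GenExtraFus
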