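import Mathlib
import Cfsg.Agent.Lib.Helper29.GenExtraFus
import Cfsg.Agent.Lib.Helper29.GenExtraAut
import Cfsg.Agent.Lib.Helper87.PCore
import Cfsg.Agent.Lib.Helper91.Baer

set_option autoImplicit false
set_option linter.unusedSectionVars false
set_option maxHeartbeats 800000

/-!
The remaining case for strongly closed generalized extraspecial subgroups: `p` odd, `Ω₁(P)`
elementary abelian of index `p`.  An essential subgroup not containing `P` leads to a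
contradiction (Baer–Suzuki plus the `SL₂(p)` trick).
-/

namespace Cfsg.Agent.Lib.Helper29.GenExtraMinus

open Cfsg Cfsg.FusionSystem Cfsg.Agent.Lib.Helper87 Cfsg.Agent.Lib.Helper29.GenExtraFus
  Cfsg.Agent.Lib.Helper29.GenExtraAut

variable {Ω : Type*} [Group Ω] {S : Subgroup Ω}

theorem minus_contra [Finite S] {p : ℕ} [Fact p.Prime] (hS : IsPGroup p S) (F : FusionSystem S)
    (hF : F.IsSaturated p) {P Z₀ : Subgroup Ω} (hP : F.StronglyClosed P) (d : PData p S P Z₀)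
    (hp2 : p ≠ 2) {R : Subgroup Ω} (hRS : R ≤ S) (hrad : F.IsRadical p R)
    (hcen : centralizerIn S R ≤ R) (hfn : F.IsFullyNormalized R) (hPR : ¬ P ≤ R)
    (hMa : ∀ x ∈ P, x ^ p = 1 → ∀ q ∈ P, q ∈ R → x * q = q * x)
    (hMb : ∀ q ∈ P, q ∈ R → q ^ p = 1)
    (hMc : ∀ b ∈ P, ∀ u ∈ P, b ^ p = 1 → (b * u) ^ p = u ^ p) : False := by
  have hpp : p.Prime := Fact.out
  have hfinR : Finite R := finite_of_le hRS
  have hRp : IsPGroup p R := hS.to_le hRS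
  set Q' : Subgroup R := P.subgroupOf R with hQ'
  have hQinv : ∀ γ ∈ F.autGroup R, ∀ x ∈ Q', γ x ∈ Q' := fun γ hγ x hx =>
    aut_mem_subgroupOf F hP hRS hγ x hx
  have hchain2inv : ∀ γ ∈ F.autGroup R, ∀ i, ∀ x ∈ chain2 Q' i, γ x ∈ chain2 Q' i := by
    intro γ hγ i y hy
    rcases i with _ | _ | i
    · exact Subgroup.mem_top _
    · exact hQinv γ hγ y hy
    · have : y = 1 := hy
      rw [this, map_one]
      exact Subgroup.one_mem _
  -- Step 1: an element `u` of order `p²` normalizing `R`, outside `R`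
  obtain ⟨u, huP, huN, huR, hup⟩ : ∃ u ∈ P, ∃ (_ : u ∈ Subgroup.normalizer (R : Set Ω)),
      u ∉ R ∧ u ^ p ≠ 1 := by
    by_contra hcon
    push Not at hcon
    apply hPR
    apply le_of_normalizer_inf_le hS hRS d.hPS d.le_normalizer
    rintro x ⟨hxP, hxN⟩
    by_contra hxR
    have hxp := hcon x hxP hxN hxR
    apply hxR
    apply mem_of_chain hS F hRS hrad hcen 2 (chain2 Q') rfl rfl hchain2inv (d.hPS hxP) hxN
    intro i hi y hy
    interval_cases i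
    · exact conj_step_top d hRS hxP hxN y
    · show y⁻¹ * conjAut R x hxN y ∈ (⊥ : Subgroup R)
      rw [Subgroup.mem_bot]
      apply Subtype.ext
      show (y : Ω)⁻¹ * (x * y * x⁻¹) = 1
      rw [hMa x hxP hxp y (Subgroup.mem_subgroupOf.mp hy) y.2]
      group
  -- Step 2: the automorphism `t` induced by `u`
  have huS : u ∈ S := d.hPS huP
  obtain ⟨t, htdef⟩ : ∃ t : MulAut R, t = conjAut R u huN := ⟨_, rfl⟩
  have htcoe : ∀ x : R, ((t x : R) : Ω) = u * x * u⁻¹ := fun x => by rw [htdef]; rfl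
  have htA : t ∈ F.autGroup R := by
    rw [htdef]
    exact autInducedBy_le_autGroup F hRS (conjAut_mem_autInducedBy huS huN)
  have htInn : t ∉ Inn R := not_mem_inn_of_conj hRS hcen huS huR htcoe
  set Z' : Subgroup R := Z₀.subgroupOf R with hZ'
  have hZR : Z₀ ≤ R := fun z hz =>
    hcen ⟨d.hPS (d.hZP hz), Subgroup.mem_centralizer_iff.mpr (fun r hr => d.hcent z hz r (hRS hr))⟩
  have hZQ : Z' ≤ Q' := fun x hx =>
    Subgroup.mem_subgroupOf.mpr (d.hZP (Subgroup.mem_subgroupOf.mp hx))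
  have ta : ∀ x : R, x⁻¹ * t x ∈ Q' := fun x => by
    rw [htdef]; exact conj_step_top d hRS huP huN x
  have tb : ∀ x ∈ Q', x⁻¹ * t x ∈ Z' := by
    intro x hx
    rw [Subgroup.mem_subgroupOf]
    show (x : Ω)⁻¹ * ((t x : R) : Ω) ∈ Z₀
    rw [htcoe]
    have hxP : (x : Ω) ∈ P := Subgroup.mem_subgroupOf.mp hx
    have h1 := d.hcomm (x : Ω)⁻¹ (P.inv_mem hxP) u huP
    have e : (x : Ω)⁻¹ * (u * x * u⁻¹) = (x : Ω)⁻¹ * u * (x : Ω)⁻¹⁻¹ * u⁻¹ := by group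
    rw [e]
    exact h1
  have tc : ∀ x ∈ Z', t x = x := by
    intro x hx
    apply Subtype.ext
    rw [htcoe, d.hcent (x : Ω) (Subgroup.mem_subgroupOf.mp hx) u huS]
    group
  -- Baer–Suzuki
  have hfinA : Finite (F.autGroup R) := inferInstance
  obtain ⟨g, hg⟩ : ∃ g : F.autGroup R,
      ¬ IsPGroup p ↥(Subgroup.zpowers (⟨t, htA⟩ : F.autGroup R) ⊔
        (Subgroup.zpowers (⟨t, htA⟩ : F.autGroup R)).map (MulAut.conj g).toMonoidHom) := by
    by_contra hcon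
    push Not at hcon
    obtain ⟨N, hN, hNp, hXN⟩ := Cfsg.Agent.Lib.Helper91.baer_suzuki
      (Subgroup.zpowers (⟨t, htA⟩ : F.autGroup R)) hcon
    have h3 : N ≤ pCore p (F.autGroup R) := le_pCore hN hNp
    have h4 : t ∈ (pCore p (F.autGroup R)).map (F.autGroup R).subtype :=
      ⟨⟨t, htA⟩, h3 (hXN (Subgroup.mem_zpowers _)), rfl⟩
    rw [hrad.2] at h4
    exact htInn h4
  -- Step 3: the conjugate `t'`
  obtain ⟨t', ht'def⟩ : ∃ t' : MulAut R, t' = g.1 * t * g.1⁻¹ := ⟨_, rfl⟩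
  have hgA : g.1 ∈ F.autGroup R := g.2
  have hgiA : g.1⁻¹ ∈ F.autGroup R := (F.autGroup R).inv_mem g.2
  have ht'A : t' ∈ F.autGroup R := by
    rw [ht'def]; exact mul_mem (mul_mem hgA htA) hgiA
  set E' : Subgroup R := Z'.map g.1.toMonoidHom with hE'
  have hEQ : E' ≤ Q' := by
    rintro _ ⟨z, hz, rfl⟩
    exact hQinv g.1 hgA z (hZQ hz)
  have hQmap : ∀ γ ∈ F.autGroup R, Q'.map γ.toMonoidHom ≤ Q' := by
    rintro γ hγ _ ⟨q, hq, rfl⟩
    exact hQinv γ hγ q hq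
  have t'a : ∀ x : R, x⁻¹ * t' x ∈ Q' := fun x => by
    rw [ht'def]
    exact hQmap g.1 hgA (conj_step g.1 t ⊤ Q' (fun x _ => ta x) x (Subgroup.mem_top _))
  have t'b : ∀ x ∈ Q', x⁻¹ * t' x ∈ E' := fun x hx => by
    rw [ht'def]
    exact conj_step g.1 t Q' Z' tb x (hQinv _ hgiA x hx)
  have t'c : ∀ x ∈ E', t' x = x := fun x hx => by
    rw [ht'def]
    exact conj_fix g.1 t Z' tc x hx
  have hpg : IsPGroup p (Subgroup.closure ({t, t'} : Set (MulAut R))) → False := by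
    intro hcl
    apply hg
    have h1 : IsPGroup p ((Subgroup.closure ({t, t'} : Set (MulAut R))).comap
        (F.autGroup R).subtype) := hcl.comap_of_injective _ (Subgroup.subtype_injective _)
    apply h1.to_le
    apply sup_le
    · rw [Subgroup.zpowers_le]
      exact Subgroup.subset_closure (by simp : t ∈ ({t, t'} : Set (MulAut R)))
    · rw [Subgroup.map_le_iff_le_comap, Subgroup.zpowers_le]
      show g.1 * t * g.1⁻¹ ∈ Subgroup.closure ({t, t'} : Set (MulAut R))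
      rw [← ht'def]
      exact Subgroup.subset_closure (by simp : t' ∈ ({t, t'} : Set (MulAut R)))
  have h5 : ∃ e ∈ E', t e ≠ e := by
    by_contra hcon
    push Not at hcon
    exact hpg (isPGroup_pair hRp Q' Z' E' hZQ hEQ ta tb tc t'a t'b t'c hcon)
  have h6 : ∃ f ∈ Z', t' f ≠ f := by
    by_contra hcon
    push Not at hcon
    apply hpg
    have := isPGroup_pair hRp Q' E' Z' hEQ hZQ t'a t'b t'c ta tb tc hcon
    rwa [Set.pair_comm] at this
  -- Step 4: the `SL₂` trick on `Q'`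
  have hQc : ∀ a b : Q', a * b = b * a := by
    intro a b
    apply Subtype.ext
    apply Subtype.ext
    have haP := Subgroup.mem_subgroupOf.mp a.2
    have hbP := Subgroup.mem_subgroupOf.mp b.2
    exact hMa _ haP (hMb _ haP a.1.2) _ hbP b.1.2
  obtain ⟨ρ, hρdef⟩ : ∃ ρ : F.autGroup R →* MulAut Q', ρ = resAutHom (F.autGroup R) Q' hQinv :=
    ⟨_, rfl⟩
  have hρcoe : ∀ (α : F.autGroup R) (q : Q'), ((ρ α q : Q') : R) = α.1 q := fun α q => by
    rw [hρdef]; rfl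
  set Z'' : Subgroup Q' := Z'.subgroupOf Q' with hZ''
  set E'' : Subgroup Q' := E'.subgroupOf Q' with hE''
  have hcardZ' : Nat.card Z' = p := by
    rw [Nat.card_congr (Subgroup.subgroupOfEquivOfLe hZR).toEquiv, d.hcard]
  have hcardZ'' : Nat.card Z'' = p := by
    rw [Nat.card_congr (Subgroup.subgroupOfEquivOfLe hZQ).toEquiv, hcardZ']
  have hcardE'' : Nat.card E'' = p := by
    rw [Nat.card_congr (Subgroup.subgroupOfEquivOfLe hEQ).toEquiv,
      Subgroup.card_map_of_injective (MulEquiv.injective g.1), hcardZ']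
  have h1 : ∀ y : Q', ρ ⟨t, htA⟩ y * y⁻¹ ∈ Z'' := by
    intro y
    rw [hQc, Subgroup.mem_subgroupOf]
    show (y : R)⁻¹ * ((ρ ⟨t, htA⟩ y : Q') : R) ∈ Z'
    rw [hρcoe]
    exact tb y y.2
  have h2 : ∀ y : Q', ρ ⟨t', ht'A⟩ y * y⁻¹ ∈ E'' := by
    intro y
    rw [hQc, Subgroup.mem_subgroupOf]
    show (y : R)⁻¹ * ((ρ ⟨t', ht'A⟩ y : Q') : R) ∈ E'
    rw [hρcoe]
    exact t'b y y.2
  have h3 : ∀ y ∈ Z'', ρ ⟨t, htA⟩ y = y := by
    intro y hy
    apply Subtype.ext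
    rw [hρcoe]
    exact tc y (Subgroup.mem_subgroupOf.mp hy)
  have h4 : ∀ y ∈ E'', ρ ⟨t', ht'A⟩ y = y := by
    intro y hy
    apply Subtype.ext
    rw [hρcoe]
    exact t'c y (Subgroup.mem_subgroupOf.mp hy)
  have h5' : ∃ e ∈ E'', ρ ⟨t, htA⟩ e ≠ e := by
    obtain ⟨e, he, hne⟩ := h5
    refine ⟨⟨e, hEQ he⟩, Subgroup.mem_subgroupOf.mpr he, fun h => hne ?_⟩
    have := congrArg Subtype.val h
    rw [hρcoe] at this
    exact this
  have h6' : ∃ f ∈ Z'', ρ ⟨t', ht'A⟩ f ≠ f := by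
    obtain ⟨f, hf, hne⟩ := h6
    refine ⟨⟨f, hZQ hf⟩, Subgroup.mem_subgroupOf.mpr hf, fun h => hne ?_⟩
    have := congrArg Subtype.val h
    rw [hρcoe] at this
    exact this
  obtain ⟨τ, hτcl, -, hτinv, -, hτcomm⟩ := sl2_trick hQc hcardZ'' hcardE'' h1 h2 h3 h4 h5' h6'
  have hτt : τ * ρ ⟨t, htA⟩ = ρ ⟨t, htA⟩ * τ := hτcomm (ρ ⟨t, htA⟩) h1 (fun z hz => hz)
  have hτmap : τ ∈ (Subgroup.closure
      ({⟨t, htA⟩, ⟨t', ht'A⟩} : Set (F.autGroup R))).map ρ := by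
    rw [MonoidHom.map_closure, Set.image_pair]
    exact hτcl
  obtain ⟨dd, -, hdτ⟩ := hτmap
  -- Step 5: `dd t dd⁻¹ t⁻¹` is inner
  have hddiA : dd.1⁻¹ ∈ F.autGroup R := (F.autGroup R).inv_mem dd.2
  have hconjA : dd.1 * t * dd.1⁻¹ ∈ F.autGroup R := mul_mem (mul_mem dd.2 htA) hddiA
  obtain ⟨cc, hccdef⟩ : ∃ cc : MulAut R, cc = dd.1 * t * dd.1⁻¹ * t⁻¹ := ⟨_, rfl⟩
  have hccA : cc ∈ F.autGroup R := by
    rw [hccdef]; exact mul_mem hconjA (inv_mem htA)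
  have hccQ : ∀ x ∈ Q', cc x = x := by
    intro x hx
    have e1 : ρ ⟨cc, hccA⟩ = 1 := by
      have e0 : (⟨cc, hccA⟩ : F.autGroup R) = dd * ⟨t, htA⟩ * dd⁻¹ * ⟨t, htA⟩⁻¹ :=
        Subtype.ext hccdef
      rw [e0, map_mul, map_mul, map_mul, map_inv, map_inv, hdτ, hτt]
      group
    have e2 : ((ρ ⟨cc, hccA⟩ ⟨x, hx⟩ : Q') : R) = x := by rw [e1]; rfl
    rw [hρcoe] at e2
    exact e2
  have hccInn : cc ∈ Inn R := by
    apply stabilizer_le_inn hS F hRS hrad 2 (chain2 Q') rfl rfl hchain2inv hccA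
    intro i hi x hx
    interval_cases i
    · have hβ : ∀ x, x⁻¹ * (dd.1 * t * dd.1⁻¹) x ∈ Q' := fun x =>
        hQmap dd.1 dd.2 (conj_step dd.1 t ⊤ Q' (fun x _ => ta x) x (Subgroup.mem_top _))
      have hβQ : ∀ x ∈ Q', (dd.1 * t * dd.1⁻¹) x ∈ Q' := fun x hx => hQinv _ hconjA x hx
      rw [hccdef]
      exact top_mul _ _ Q' hβ (top_inv t Q' ta) hβQ x
    · show x⁻¹ * cc x ∈ (⊥ : Subgroup R)
      rw [hccQ x hx, inv_mul_cancel]
      exact Subgroup.one_mem _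
  obtain ⟨r, hr⟩ := hccInn
  have hrel : ∀ x : R, dd.1 (t x) = r * t (dd.1 x) * r⁻¹ := by
    intro x
    have h1 : (MulAut.conj r) (t (dd.1 x)) = cc (t (dd.1 x)) := by rw [hr]
    rw [MulAut.conj_apply] at h1
    rw [h1, hccdef]
    show dd.1 (t x) = dd.1 (t (dd.1⁻¹ (t⁻¹ (t (dd.1 x)))))
    rw [MulAut.inv_apply_self, MulAut.inv_apply_self]
  -- Step 6: extend `dd` over `u`
  have hφd := (mem_autGroup_iff F hRS dd.1).mp dd.2
  have hrange : (R.subtype.comp dd.1.toMonoidHom).range = R := by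
    apply le_antisymm
    · rintro _ ⟨x, rfl⟩
      exact (dd.1 x).2
    · intro y hy
      exact ⟨dd.1.symm ⟨y, hy⟩, by simp⟩
  have hrec := receptive_of_fullyNormalized hS F hF hfn
  have huT : u ∈ extender S R (R.subtype.comp dd.1.toMonoidHom) := by
    refine Subgroup.subset_closure ⟨huS, huN, (r : Ω) * u, S.mul_mem (hRS r.2) huS, fun x hx => ?_⟩
    have e : (⟨u * x * u⁻¹, hx⟩ : R) = t x := Subtype.ext (htcoe x).symm
    show ((dd.1 ⟨u * x * u⁻¹, hx⟩ : R) : Ω) = (r : Ω) * u * ((dd.1 x : R) : Ω) * ((r : Ω) * u)⁻¹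
    rw [e, hrel x]
    show (r : Ω) * ((t (dd.1 x) : R) : Ω) * (r : Ω)⁻¹ = _
    rw [htcoe]
    group
  obtain ⟨ψ, hψ, hψe⟩ := hrec.2 R _ hφd hrange
  have hRT : R ≤ extender S R (R.subtype.comp dd.1.toMonoidHom) := self_le_extender F hφd
  have hψR : ∀ (y : R), ψ ⟨y, hRT y.2⟩ = ((dd.1 y : R) : Ω) := fun y => hψe y y.2 (hRT y.2)
  obtain ⟨u', hu'def⟩ : ∃ u' : Ω, u' = ψ ⟨u, huT⟩ := ⟨_, rfl⟩
  have hu'P : u' ∈ P := by
    rw [hu'def]
    exact hP.2 (P ⊓ extender S R (R.subtype.comp dd.1.toMonoidHom)) inf_le_left _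
      (restrict_mem F hψ inf_le_right) ⟨u, ⟨huP, huT⟩⟩
  have hu'S : u' ∈ S := d.hPS hu'P
  -- `u'` acts on `R` like `r u`
  have hact : ∀ y : R, u' * (y : Ω) * u'⁻¹ = (r : Ω) * u * y * ((r : Ω) * u)⁻¹ := by
    intro y
    obtain ⟨x, rfl⟩ : ∃ x : R, dd.1 x = y := ⟨dd.1.symm y, by simp⟩
    have e1 : ψ ⟨((t x : R) : Ω), hRT (t x).2⟩ = u' * ((dd.1 x : R) : Ω) * u'⁻¹ := by
      have e2 : (⟨((t x : R) : Ω), hRT (t x).2⟩ :
          extender S R (R.subtype.comp dd.1.toMonoidHom)) =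
          ⟨u, huT⟩ * ⟨x, hRT x.2⟩ * ⟨u, huT⟩⁻¹ := Subtype.ext (htcoe x)
      rw [e2, map_mul, map_mul, map_inv, hψR, ← hu'def]
    rw [← e1, hψR (t x), hrel x]
    show (r : Ω) * ((t (dd.1 x) : R) : Ω) * (r : Ω)⁻¹ = _
    rw [htcoe]
    group
  have hw : ((r : Ω) * u)⁻¹ * u' ∈ R := by
    apply hcen
    refine ⟨S.mul_mem (S.inv_mem (S.mul_mem (hRS r.2) huS)) hu'S,
      Subgroup.mem_centralizer_iff.mpr fun y hy => ?_⟩
    have := hact ⟨y, hy⟩
    calc y * (((r : Ω) * u)⁻¹ * u') = ((r : Ω) * u)⁻¹ * (((r : Ω) * u) * y * ((r : Ω) * u)⁻¹) * u' := by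
          group
      _ = ((r : Ω) * u)⁻¹ * (u' * y * u'⁻¹) * u' := by rw [this]
      _ = ((r : Ω) * u)⁻¹ * u' * y := by group
  have hbR : u' * u⁻¹ ∈ R := by
    have h1 : u * (((r : Ω) * u)⁻¹ * u') * u⁻¹ ∈ R :=
      (Subgroup.mem_normalizer_iff.mp huN _).mp hw
    have e : u' * u⁻¹ = (r : Ω) * (u * (((r : Ω) * u)⁻¹ * u') * u⁻¹) := by group
    rw [e]
    exact R.mul_mem r.2 h1
  have hbP : u' * u⁻¹ ∈ P := P.mul_mem hu'P (P.inv_mem huP)
  have hbp : (u' * u⁻¹) ^ p = 1 := hMb _ hbP hbR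
  have hpow1 : u' ^ p = u ^ p := by
    have := hMc _ hbP u huP hbp
    rwa [inv_mul_cancel_right] at this
  -- on the other hand `u' ^ p = (u ^ p)⁻¹`
  have hupZ : u ^ p ∈ Z₀ := d.hpow u huP
  have hupR : u ^ p ∈ R := hZR hupZ
  have hpow2 : u' ^ p = (u ^ p)⁻¹ := by
    have e1 : u' ^ p = ψ ⟨u ^ p, hRT hupR⟩ := by
      rw [hu'def, ← map_pow]
      rfl
    have hfQ : (⟨u ^ p, hupR⟩ : R) ∈ Q' := Subgroup.mem_subgroupOf.mpr (d.hZP hupZ)
    have hfZ : (⟨⟨u ^ p, hupR⟩, hfQ⟩ : Q') ∈ Z'' :=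
      Subgroup.mem_subgroupOf.mpr (Subgroup.mem_subgroupOf.mpr hupZ)
    have e2 := hτinv _ hfZ
    rw [← hdτ] at e2
    have e3 := congrArg (fun q : Q' => ((q : R) : Ω)) e2
    simp only [hρcoe] at e3
    rw [e1, hψR ⟨u ^ p, hupR⟩]
    exact e3
  have hsq : (u ^ p) ^ 2 = 1 := by
    have : u ^ p = (u ^ p)⁻¹ := hpow1.symm.trans hpow2
    rw [pow_two]
    nth_rewrite 1 [this]
    exact inv_mul_cancel _
  have hpp' : (u ^ p) ^ p = 1 := by
    have h1 : (⟨u ^ p, hupZ⟩ : Z₀) ^ p = 1 := by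
      have h0 : (⟨u ^ p, hupZ⟩ : Z₀) ^ Nat.card Z₀ = 1 := pow_card_eq_one'
      rw [d.hcard] at h0
      exact h0
    exact congrArg Subtype.val h1
  have hcop : Nat.gcd 2 p = 1 := (Nat.coprime_primes Nat.prime_two hpp).mpr (Ne.symm hp2)
  have hone : (u ^ p) ^ Nat.gcd 2 p = 1 := pow_gcd_eq_one.mpr ⟨hsq, hpp'⟩
  rw [hcop, pow_one] at hone
  exact hup hone

end Cfsg.Agent.Lib.Helper29.GenExtraMinus
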