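import Mathlib.GroupTheory.Commutator.Basic
import Mathlib.GroupTheory.Subgroup.Centralizer
import Mathlib.Algebra.Group.Subgroup.Pointwise
import Mathlib.Tactic.Group

/-!
# Itô's theorem (commutator of a product of two abelian subgroups is abelian)

If `A`, `B` are abelian subgroups of a group with `A ⊔ B = A * B` (as sets), then `⁅A, B⁆`
is abelian.
-/

set_option autoImplicit false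

namespace Cfsg.Agent.Lib.Helper29

open Subgroup
open scoped Pointwise commutatorElement

variable {G : Type*} [Group G]

/-- Conjugating a commutator by an element commuting with the left entry. -/
theorem ito_conj_left {x a b : G} (h : x * a = a * x) :
    x * ⁅a, b⁆ * x⁻¹ = ⁅a, x * b * x⁻¹⁆ := by
  have h1 : x * a * x⁻¹ = a := by rw [h, mul_inv_cancel_right]
  calc x * ⁅a, b⁆ * x⁻¹ = ⁅x * a * x⁻¹, x * b * x⁻¹⁆ := by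
        simp only [commutatorElement_def]; group
    _ = ⁅a, x * b * x⁻¹⁆ := by rw [h1]

/-- Conjugating a commutator by an element commuting with the right entry. -/
theorem ito_conj_right {x a b : G} (h : x * b = b * x) :
    x * ⁅a, b⁆ * x⁻¹ = ⁅x * a * x⁻¹, b⁆ := by
  have h1 : x * b * x⁻¹ = b := by rw [h, mul_inv_cancel_right]
  calc x * ⁅a, b⁆ * x⁻¹ = ⁅x * a * x⁻¹, x * b * x⁻¹⁆ := by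
        simp only [commutatorElement_def]; group
    _ = ⁅x * a * x⁻¹, b⁆ := by rw [h1]

/-- `⁅a, b * a'⁆ = ⁅a, b⁆` when `a` and `a'` commute. -/
theorem ito_drop_right {a a' b : G} (h : a * a' = a' * a) : ⁅a, b * a'⁆ = ⁅a, b⁆ := by
  have h1 : a' * a⁻¹ * a'⁻¹ = a⁻¹ := by
    have : a' * a⁻¹ = a⁻¹ * a' := by
      have h2 : a⁻¹ * (a * a') * a⁻¹ = a⁻¹ * (a' * a) * a⁻¹ := by rw [h]
      simpa [mul_assoc] using h2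
    rw [this, mul_inv_cancel_right]
  calc ⁅a, b * a'⁆ = a * b * (a' * a⁻¹ * a'⁻¹) * b⁻¹ := by
        simp only [commutatorElement_def]; group
    _ = ⁅a, b⁆ := by rw [h1, commutatorElement_def]

/-- `⁅a * b', b⁆ = ⁅a, b⁆` when `b'` and `b` commute. -/
theorem ito_drop_left {a b b' : G} (h : b' * b = b * b') : ⁅a * b', b⁆ = ⁅a, b⁆ := by
  have h1 : b' * b * b'⁻¹ = b := by rw [h, mul_inv_cancel_right]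
  calc ⁅a * b', b⁆ = a * (b' * b * b'⁻¹) * a⁻¹ * b⁻¹ := by
        simp only [commutatorElement_def]; group
    _ = ⁅a, b⁆ := by rw [h1, commutatorElement_def]

/-- The key identity of Itô's proof. -/
theorem ito_key (A B : Subgroup G) (hA : ∀ a ∈ A, ∀ a' ∈ A, a * a' = a' * a)
    (hB : ∀ b ∈ B, ∀ b' ∈ B, b * b' = b' * b)
    (hAB : ((A ⊔ B : Subgroup G) : Set G) = (A : Set G) * (B : Set G))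
    {a a₁ b b₁ : G} (ha : a ∈ A) (ha₁ : a₁ ∈ A) (hb : b ∈ B) (hb₁ : b₁ ∈ B) :
    (a₁ * b₁) * ⁅a, b⁆ * (a₁ * b₁)⁻¹ = (b₁ * a₁) * ⁅a, b⁆ * (b₁ * a₁)⁻¹ := by
  -- decompositions
  have hmemA : ∀ g ∈ A, g ∈ A ⊔ B := fun g hg => (le_sup_left : A ≤ A ⊔ B) hg
  have hmemB : ∀ g ∈ B, g ∈ A ⊔ B := fun g hg => (le_sup_right : B ≤ A ⊔ B) hg
  -- `a₁ * b * a₁⁻¹ = b₂ * a₂`
  have h2 : ∃ b₂ ∈ B, ∃ a₂ ∈ A, a₁ * b * a₁⁻¹ = b₂ * a₂ := by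
    have hmem : (a₁ * b * a₁⁻¹)⁻¹ ∈ A ⊔ B :=
      (A ⊔ B).inv_mem ((A ⊔ B).mul_mem ((A ⊔ B).mul_mem (hmemA _ ha₁) (hmemB _ hb))
        ((A ⊔ B).inv_mem (hmemA _ ha₁)))
    have hmem' : (a₁ * b * a₁⁻¹)⁻¹ ∈ ((A ⊔ B : Subgroup G) : Set G) := hmem
    rw [hAB] at hmem'
    obtain ⟨u, hu, v, hv, huv⟩ := hmem'
    refine ⟨v⁻¹, B.inv_mem hv, u⁻¹, A.inv_mem hu, ?_⟩
    have huv' : u * v = (a₁ * b * a₁⁻¹)⁻¹ := huv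
    have : a₁ * b * a₁⁻¹ = (u * v)⁻¹ := by rw [huv', inv_inv]
    rw [this, mul_inv_rev]
  -- `b₁ * a * b₁⁻¹ = a₃ * b₃`
  have h3 : ∃ a₃ ∈ A, ∃ b₃ ∈ B, b₁ * a * b₁⁻¹ = a₃ * b₃ := by
    have hmem : b₁ * a * b₁⁻¹ ∈ ((A ⊔ B : Subgroup G) : Set G) :=
      (A ⊔ B).mul_mem ((A ⊔ B).mul_mem (hmemB _ hb₁) (hmemA _ ha))
        ((A ⊔ B).inv_mem (hmemB _ hb₁))
    rw [hAB] at hmem
    obtain ⟨u, hu, v, hv, huv⟩ := hmem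
    exact ⟨u, hu, v, hv, huv.symm⟩
  obtain ⟨b₂, hb₂, a₂, ha₂, e2⟩ := h2
  obtain ⟨a₃, ha₃, b₃, hb₃, e3⟩ := h3
  -- both sides equal `⁅a₃, b₂⁆`
  have hL : (a₁ * b₁) * ⁅a, b⁆ * (a₁ * b₁)⁻¹ = ⁅a₃, b₂⁆ := by
    calc (a₁ * b₁) * ⁅a, b⁆ * (a₁ * b₁)⁻¹ = a₁ * (b₁ * ⁅a, b⁆ * b₁⁻¹) * a₁⁻¹ := by group
      _ = a₁ * ⁅b₁ * a * b₁⁻¹, b⁆ * a₁⁻¹ := by rw [ito_conj_right (hB b₁ hb₁ b hb)]
      _ = a₁ * ⁅a₃, b⁆ * a₁⁻¹ := by rw [e3, ito_drop_left (hB b₃ hb₃ b hb)]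
      _ = ⁅a₃, a₁ * b * a₁⁻¹⁆ := ito_conj_left (hA a₁ ha₁ a₃ ha₃)
      _ = ⁅a₃, b₂⁆ := by rw [e2, ito_drop_right (hA a₃ ha₃ a₂ ha₂)]
  have hR : (b₁ * a₁) * ⁅a, b⁆ * (b₁ * a₁)⁻¹ = ⁅a₃, b₂⁆ := by
    calc (b₁ * a₁) * ⁅a, b⁆ * (b₁ * a₁)⁻¹ = b₁ * (a₁ * ⁅a, b⁆ * a₁⁻¹) * b₁⁻¹ := by group
      _ = b₁ * ⁅a, a₁ * b * a₁⁻¹⁆ * b₁⁻¹ := by rw [ito_conj_left (hA a₁ ha₁ a ha)]
      _ = b₁ * ⁅a, b₂⁆ * b₁⁻¹ := by rw [e2, ito_drop_right (hA a ha a₂ ha₂)]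
      _ = ⁅b₁ * a * b₁⁻¹, b₂⁆ := ito_conj_right (hB b₁ hb₁ b₂ hb₂)
      _ = ⁅a₃, b₂⁆ := by rw [e3, ito_drop_left (hB b₃ hb₃ b₂ hb₂)]
  rw [hL, hR]

/-- Generators of `⁅A, B⁆` commute pairwise (Itô). -/
theorem ito_gen_comm (A B : Subgroup G) (hA : ∀ a ∈ A, ∀ a' ∈ A, a * a' = a' * a)
    (hB : ∀ b ∈ B, ∀ b' ∈ B, b * b' = b' * b)
    (hAB : ((A ⊔ B : Subgroup G) : Set G) = (A : Set G) * (B : Set G))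
    {a a₁ b b₁ : G} (ha : a ∈ A) (ha₁ : a₁ ∈ A) (hb : b ∈ B) (hb₁ : b₁ ∈ B) :
    ⁅a, b⁆ * ⁅a₁, b₁⁆ = ⁅a₁, b₁⁆ * ⁅a, b⁆ := by
  have h := ito_key A B hA hB hAB ha (A.inv_mem ha₁) hb (B.inv_mem hb₁)
  -- `(b₁⁻¹ a₁⁻¹)⁻¹ (a₁⁻¹ b₁⁻¹) = a₁ b₁ a₁⁻¹ b₁⁻¹` commutes with `⁅a, b⁆`
  have h' : ⁅a₁, b₁⁆ * ⁅a, b⁆ * ⁅a₁, b₁⁆⁻¹ = ⁅a, b⁆ := by
    have e : ⁅a₁, b₁⁆ = (b₁⁻¹ * a₁⁻¹)⁻¹ * (a₁⁻¹ * b₁⁻¹) := by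
      rw [commutatorElement_def]; group
    rw [e]
    calc (b₁⁻¹ * a₁⁻¹)⁻¹ * (a₁⁻¹ * b₁⁻¹) * ⁅a, b⁆ * ((b₁⁻¹ * a₁⁻¹)⁻¹ * (a₁⁻¹ * b₁⁻¹))⁻¹
        = (b₁⁻¹ * a₁⁻¹)⁻¹ * ((a₁⁻¹ * b₁⁻¹) * ⁅a, b⁆ * (a₁⁻¹ * b₁⁻¹)⁻¹) * (b₁⁻¹ * a₁⁻¹) := by group
      _ = (b₁⁻¹ * a₁⁻¹)⁻¹ * ((b₁⁻¹ * a₁⁻¹) * ⁅a, b⁆ * (b₁⁻¹ * a₁⁻¹)⁻¹) * (b₁⁻¹ * a₁⁻¹) := by rw [h]
      _ = ⁅a, b⁆ := by group
  calc ⁅a, b⁆ * ⁅a₁, b₁⁆ = (⁅a₁, b₁⁆ * ⁅a, b⁆ * ⁅a₁, b₁⁆⁻¹) * ⁅a₁, b₁⁆ := by rw [h']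
    _ = ⁅a₁, b₁⁆ * ⁅a, b⁆ := by group

/-- **Itô's theorem**: if `A`, `B` are abelian subgroups with `A ⊔ B = A * B` as sets, then
`⁅A, B⁆` is abelian. -/
theorem ito_comm (A B : Subgroup G) (hA : IsMulCommutative A) (hB : IsMulCommutative B)
    (hAB : ((A ⊔ B : Subgroup G) : Set G) = (A : Set G) * (B : Set G)) :
    IsMulCommutative ↥⁅A, B⁆ := by
  have hA' : ∀ a ∈ A, ∀ a' ∈ A, a * a' = a' * a := fun a ha a' ha' => setLike_mul_comm ha ha'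
  have hB' : ∀ b ∈ B, ∀ b' ∈ B, b * b' = b' * b := fun b hb b' hb' => setLike_mul_comm hb hb'
  rw [Subgroup.commutator_def]
  apply isMulCommutative_closure
  rintro x ⟨a, ha, b, hb, rfl⟩ y ⟨a₁, ha₁, b₁, hb₁, rfl⟩
  exact ito_gen_comm A B hA' hB' hAB ha ha₁ hb hb₁

end Cfsg.Agent.Lib.Helper29
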