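import Mathlib.GroupTheory.Nilpotent
import Mathlib.GroupTheory.Commutator.Basic
import Mathlib.GroupTheory.Index
import Mathlib.Order.PiLex
import Mathlib.Data.Set.Finite.Lemmas

/-!
# A lexicographic potential on subgroups of a nilpotent group

For a finite nilpotent group `P` and a nonempty family `𝒵` of subgroups, a member `Z` of `𝒵`
maximizing the sequence `(|Z ∩ Z_1(P)|, |Z ∩ Z_2(P)|, …)` (upper central series) lexicographically
is normalized by every `X` for which some `V ∈ 𝒵` contains `⁅Z, X⁆` and the `X`-core of `Z`.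
-/

set_option autoImplicit false

namespace Cfsg.Agent.Lib.Helper29

open Subgroup
open scoped commutatorElement

variable {P : Type*} [Group P]

/-- A subgroup `X` normalizes `H` as soon as it conjugates `H` into itself. -/
theorem lexpot_le_normalizer {X H : Subgroup P} (h : ∀ x ∈ X, ∀ y ∈ H, x * y * x⁻¹ ∈ H) :
    X ≤ normalizer (H : Set P) := by
  intro x hx
  rw [mem_normalizer_iff]
  intro y
  constructor
  · intro hy; exact h x hx y hy
  · intro hy
    have := h x⁻¹ (X.inv_mem hx) _ hy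
    simpa [mul_assoc] using this

/-- The lexicographic potential. -/
noncomputable def lexPot (B : Subgroup P) : Lex (ℕ → ℕ) :=
  toLex (fun j => Nat.card (B ⊓ Subgroup.upperCentralSeries P j : Subgroup P))

theorem lexPot_lt {B V : Subgroup P} (j₀ : ℕ)
    (heq : ∀ j, j < j₀ → Nat.card (B ⊓ Subgroup.upperCentralSeries P j : Subgroup P) =
      Nat.card (V ⊓ Subgroup.upperCentralSeries P j : Subgroup P))
    (hlt : Nat.card (B ⊓ Subgroup.upperCentralSeries P j₀ : Subgroup P) <
      Nat.card (V ⊓ Subgroup.upperCentralSeries P j₀ : Subgroup P)) :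
    lexPot B < lexPot V :=
  ⟨j₀, heq, hlt⟩

theorem exists_lex_max [Finite P] [Group.IsNilpotent P] (𝒵 : Set (Subgroup P))
    (hne : 𝒵.Nonempty) :
    ∃ Z ∈ 𝒵, ∀ (X V : Subgroup P), V ∈ 𝒵 → ⁅Z, X⁆ ≤ V →
      (∀ n : P, (∀ x ∈ X, x * n * x⁻¹ ∈ Z) → n ∈ V) → X ≤ Subgroup.normalizer (Z : Set P) := by
  obtain ⟨Z, hZ, hmax⟩ := Set.exists_max_image 𝒵 lexPot (Set.toFinite 𝒵) hne
  refine ⟨Z, hZ, ?_⟩
  intro X V hV hcomm hcore
  by_contra hnot
  -- the first index where `Z ⊓ Z_i` is not `X`-invariant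
  have hex : ∃ i, ¬ X ≤ normalizer ((Z ⊓ Subgroup.upperCentralSeries P i : Subgroup P) : Set P) := by
    obtain ⟨c, hc⟩ := Group.IsNilpotent.nilpotent' (G := P)
    exact ⟨c, by rw [hc, inf_top_eq]; exact hnot⟩
  classical
  let i := Nat.find hex
  have hi : ¬ X ≤ normalizer ((Z ⊓ Subgroup.upperCentralSeries P i : Subgroup P) : Set P) :=
    Nat.find_spec hex
  have hmin : ∀ j, j < i → X ≤ normalizer ((Z ⊓ Subgroup.upperCentralSeries P j : Subgroup P) : Set P) := by
    intro j hj
    have := Nat.find_min hex hj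
    exact not_not.mp this
  -- below `i`, `Z ⊓ Z_j ≤ V ⊓ Z_j`
  have hle : ∀ j, j < i → (Z ⊓ Subgroup.upperCentralSeries P j : Subgroup P) ≤ V ⊓ Subgroup.upperCentralSeries P j := by
    intro j hj n hn
    refine ⟨hcore n ?_, hn.2⟩
    intro x hx
    have hxN := hmin j hj hx
    rw [mem_normalizer_iff] at hxN
    exact ((hxN n).mp hn).1
  -- an element conjugated out of `Z ⊓ Z_i`
  have hexy : ∃ x ∈ X, ∃ y ∈ (Z ⊓ Subgroup.upperCentralSeries P i : Subgroup P),
      x * y * x⁻¹ ∉ (Z ⊓ Subgroup.upperCentralSeries P i : Subgroup P) := by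
    by_contra hcon
    push Not at hcon
    exact hi (lexpot_le_normalizer hcon)
  obtain ⟨x, hx, y, hy, hxy⟩ := hexy
  -- `i` is a successor
  obtain ⟨k, hk⟩ : ∃ k, i = k + 1 := by
    rcases Nat.eq_zero_or_eq_succ_pred i with h0 | h1
    · exfalso
      rw [h0, Subgroup.upperCentralSeries_zero, inf_bot_eq] at hy hxy
      rw [mem_bot] at hy
      apply hxy
      rw [hy, mul_one, mul_inv_cancel]
      exact one_mem _
    · exact ⟨_, h1⟩
  rw [hk] at hy hxy
  -- the commutator
  have hyZ : y ∈ Z := hy.1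
  have hyU : y ∈ Subgroup.upperCentralSeries P (k + 1) := hy.2
  have hconjU : x * y * x⁻¹ ∈ Subgroup.upperCentralSeries P (k + 1) :=
    (inferInstance : (Subgroup.upperCentralSeries P (k + 1)).Normal).conj_mem y hyU x
  have hconjZ : x * y * x⁻¹ ∉ Z := fun h => hxy ⟨h, hconjU⟩
  have hc1 : ⁅y, x⁆ ∈ V := hcomm (commutator_mem_commutator hyZ hx)
  have hc2 : ⁅y, x⁆ ∈ Subgroup.upperCentralSeries P k := (Subgroup.mem_upperCentralSeries_succ_iff.mp hyU) x
  have hc3 : ⁅y, x⁆ ∉ Z := by
    intro h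
    apply hconjZ
    have e : x * y * x⁻¹ = (⁅y, x⁆)⁻¹ * y := by
      rw [commutatorElement_def]; group
    rw [e]
    exact Z.mul_mem (Z.inv_mem h) hyZ
  -- some strict inequality below `i`
  have hstrict : ∃ j, Nat.card (Z ⊓ Subgroup.upperCentralSeries P j : Subgroup P) <
      Nat.card (V ⊓ Subgroup.upperCentralSeries P j : Subgroup P) := by
    by_contra hcon
    push Not at hcon
    have hkle := hle k (by omega)
    have heq : (Z ⊓ Subgroup.upperCentralSeries P k : Subgroup P) = V ⊓ Subgroup.upperCentralSeries P k :=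
      Subgroup.eq_of_le_of_card_ge hkle (hcon k)
    have : ⁅y, x⁆ ∈ (Z ⊓ Subgroup.upperCentralSeries P k : Subgroup P) := by
      rw [heq]; exact ⟨hc1, hc2⟩
    exact hc3 this.1
  let j₀ := Nat.find hstrict
  have hj₀ : Nat.card (Z ⊓ Subgroup.upperCentralSeries P j₀ : Subgroup P) <
      Nat.card (V ⊓ Subgroup.upperCentralSeries P j₀ : Subgroup P) := Nat.find_spec hstrict
  have hj₀i : j₀ < i := by
    by_contra hge
    push Not at hge
    -- then all indices `< i` have equality, in particular `k`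
    have hkle := hle k (by omega)
    have hnk : ¬ Nat.card (Z ⊓ Subgroup.upperCentralSeries P k : Subgroup P) <
        Nat.card (V ⊓ Subgroup.upperCentralSeries P k : Subgroup P) :=
      Nat.find_min hstrict (show k < j₀ by omega)
    have heq : (Z ⊓ Subgroup.upperCentralSeries P k : Subgroup P) = V ⊓ Subgroup.upperCentralSeries P k :=
      Subgroup.eq_of_le_of_card_ge hkle (not_lt.mp hnk)
    have : ⁅y, x⁆ ∈ (Z ⊓ Subgroup.upperCentralSeries P k : Subgroup P) := by
      rw [heq]; exact ⟨hc1, hc2⟩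
    exact hc3 this.1
  have hlt : lexPot Z < lexPot V := by
    apply lexPot_lt j₀ _ hj₀
    intro j hj
    have h1 : Nat.card (Z ⊓ Subgroup.upperCentralSeries P j : Subgroup P) ≤
        Nat.card (V ⊓ Subgroup.upperCentralSeries P j : Subgroup P) :=
      Subgroup.card_le_of_le (hle j (by omega))
    have h2 : ¬ Nat.card (Z ⊓ Subgroup.upperCentralSeries P j : Subgroup P) <
        Nat.card (V ⊓ Subgroup.upperCentralSeries P j : Subgroup P) := Nat.find_min hstrict hj
    omega
  exact absurd (hmax V hV) (not_le.mpr hlt)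

end Cfsg.Agent.Lib.Helper29
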