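import Mathlib

set_option autoImplicit false

/-!
Lower central series counting for `p`-groups of maximal class:
`|G| = p^n`, class `n-1`, `n ≥ 3`  ⟹  `[G : G'] = p²` and `G/G'` is not cyclic.
-/

namespace Cfsg.Agent.Lib.Helper29

section lcs

open scoped commutatorElement

variable {G : Type*} [Group G]


theorem lcs_stable {i : ℕ} (h : (⊤ : Subgroup G).lowerCentralSeries (i + 1) = (⊤ : Subgroup G).lowerCentralSeries i) : ∀ j, i ≤ j → (⊤ : Subgroup G).lowerCentralSeries j = (⊤ : Subgroup G).lowerCentralSeries i := by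
  intro j hj
  induction j, hj using Nat.le_induction with
  | base => rfl
  | succ j _ ih => rw [Subgroup.lowerCentralSeries_succ, ih, ← Subgroup.lowerCentralSeries_succ, h]

theorem lcs_lt_of_lt_class [hN : Group.IsNilpotent G] {i : ℕ} (hi : i < Group.nilpotencyClass G) :
    (⊤ : Subgroup G).lowerCentralSeries (i + 1) < (⊤ : Subgroup G).lowerCentralSeries i := by
  refine lt_of_le_of_ne (Subgroup.lowerCentralSeries_antitone _ (Nat.le_succ i)) ?_
  intro h
  have h1 := lcs_stable h (Group.nilpotencyClass G) hi.le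
  rw [Subgroup.lowerCentralSeries_nilpotencyClass] at h1
  have := Subgroup.lowerCentralSeries_eq_bot_iff_nilpotencyClass_le.mp h1.symm
  omega

theorem card_mul_le_of_lt [Finite G] {p : ℕ} [hp : Fact p.Prime] (hG : IsPGroup p G)
    {H K : Subgroup G} (h : H < K) : p * Nat.card H ≤ Nat.card K := by
  obtain ⟨a, ha⟩ := IsPGroup.iff_card.mp (hG.to_subgroup H)
  obtain ⟨b, hb⟩ := IsPGroup.iff_card.mp (hG.to_subgroup K)
  have hle : Nat.card H ≤ Nat.card K := Subgroup.card_le_of_le h.le
  have hne : Nat.card H ≠ Nat.card K := by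
    intro he
    exact absurd (Subgroup.eq_of_le_of_card_ge h.le he.ge) h.ne
  rw [ha, hb] at hle hne ⊢
  have hab : a < b := by
    rcases lt_trichotomy a b with h1 | h1 | h1
    · exact h1
    · exact absurd (by rw [h1]) hne
    · exact absurd hle (not_le_of_gt (Nat.pow_lt_pow_right hp.out.one_lt h1))
  rw [← pow_succ']
  exact Nat.pow_le_pow_right hp.out.pos hab

theorem pow_le_card_lcs [Finite G] {p : ℕ} [hp : Fact p.Prime] (hG : IsPGroup p G)
    [Group.IsNilpotent G] (k : ℕ) (hk : k ≤ Group.nilpotencyClass G) :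
    p ^ k ≤ Nat.card ((⊤ : Subgroup G).lowerCentralSeries (Group.nilpotencyClass G - k)) := by
  induction k with
  | zero => simp only [pow_zero]; exact Nat.card_pos
  | succ k ih =>
    have h1 := ih (by omega)
    have hlt : Group.nilpotencyClass G - (k + 1) < Group.nilpotencyClass G := by omega
    have h2 := card_mul_le_of_lt hG (lcs_lt_of_lt_class hlt)
    have h3 : Group.nilpotencyClass G - (k + 1) + 1 = Group.nilpotencyClass G - k := by omega
    rw [h3] at h2
    calc p ^ (k + 1) = p * p ^ k := pow_succ' p k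
      _ ≤ p * Nat.card ((⊤ : Subgroup G).lowerCentralSeries (Group.nilpotencyClass G - k)) := Nat.mul_le_mul_left p h1
      _ ≤ _ := h2

/-- if `G/G'` is cyclic then `(⊤ : Subgroup G).lowerCentralSeries₂ = (⊤ : Subgroup G).lowerCentralSeries₃`. -/
theorem lcs_two_eq_of_cyclic (hc : IsCyclic (G ⧸ commutator G)) : (⊤ : Subgroup G).lowerCentralSeries 2 = (⊤ : Subgroup G).lowerCentralSeries 1 := by
  refine le_antisymm (Subgroup.lowerCentralSeries_antitone _ (show 1 ≤ 2 by omega)) ?_
  have hn2 : ((⊤ : Subgroup G).lowerCentralSeries 2).Normal := inferInstance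
  have hn1 : ((⊤ : Subgroup G).lowerCentralSeries 1).Normal := inferInstance
  have h1 : (⊤ : Subgroup G).lowerCentralSeries 1 = commutator G := rfl
  have hle : (⊤ : Subgroup G).lowerCentralSeries 2 ≤ (commutator G).comap (MonoidHom.id G) := by
    rw [← h1]; exact Subgroup.lowerCentralSeries_antitone _ (show 1 ≤ 2 by omega)
  let f : G ⧸ (⊤ : Subgroup G).lowerCentralSeries 2 →* G ⧸ commutator G := QuotientGroup.map ((⊤ : Subgroup G).lowerCentralSeries 2) (commutator G) (MonoidHom.id G) hle
  have hf : f.ker ≤ Subgroup.center (G ⧸ (⊤ : Subgroup G).lowerCentralSeries 2) := by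
    intro q hq
    induction q using QuotientGroup.induction_on with
    | H u =>
      rw [MonoidHom.mem_ker] at hq
      have hu : u ∈ commutator G := by
        have : f (QuotientGroup.mk u) = QuotientGroup.mk u := rfl
        rw [this] at hq
        exact (QuotientGroup.eq_one_iff u).mp hq
      rw [Subgroup.mem_center_iff]
      intro q'
      induction q' using QuotientGroup.induction_on with
      | H v =>
        rw [← QuotientGroup.mk_mul, ← QuotientGroup.mk_mul, QuotientGroup.eq]
        have : (v * u)⁻¹ * (u * v) = ⁅u⁻¹, v⁻¹⁆ := by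
          rw [commutatorElement_def]; group
        rw [this, Subgroup.lowerCentralSeries_succ]
        exact Subgroup.commutator_mem_commutator ((commutator G).inv_mem hu) (Subgroup.mem_top _)
  have hcomm : ∀ a b : G ⧸ (⊤ : Subgroup G).lowerCentralSeries 2, a * b = b * a :=
    (MonoidHom.isMulCommutative_of_isCyclic_of_ker_le_center f hf).is_comm.comm
  rw [h1, commutator_def, Subgroup.commutator_le]
  intro a _ b _
  rw [← QuotientGroup.eq_one_iff, commutatorElement_def]
  simp only [QuotientGroup.mk_mul, QuotientGroup.mk_inv]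
  rw [hcomm (QuotientGroup.mk a) (QuotientGroup.mk b)]
  group

/-- **maximal class**: `|G| = p^n`, class `n-1`, `n ≥ 3` gives `[G:G'] = p²`, `G/G'` not cyclic. -/
theorem index_commutator_of_maxClass [Finite G] {p : ℕ} [hp : Fact p.Prime] (n : ℕ) (hn : 3 ≤ n)
    (hG : Nat.card G = p ^ n) (hc : Group.nilpotencyClass G = n - 1) :
    (commutator G).index = p ^ 2 ∧ ¬ IsCyclic (G ⧸ commutator G) := by
  have hpp : p.Prime := hp.out
  have hPG : IsPGroup p G := IsPGroup.of_card hG
  have : Group.IsNilpotent G := hPG.isNilpotent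
  have hg1 : (⊤ : Subgroup G).lowerCentralSeries 1 = commutator G := rfl
  -- G/G' not cyclic
  have hncyc : ¬ IsCyclic (G ⧸ commutator G) := by
    intro h
    have h1 := lcs_two_eq_of_cyclic h
    have h2 : (⊤ : Subgroup G).lowerCentralSeries (1 + 1) < (⊤ : Subgroup G).lowerCentralSeries 1 := lcs_lt_of_lt_class (by omega)
    exact absurd h1 h2.ne
  refine ⟨?_, hncyc⟩
  -- lower bound for |G'|
  have h1 := pow_le_card_lcs hPG (n - 2) (by omega)
  have h2 : Group.nilpotencyClass G - (n - 2) = 1 := by omega
  rw [h2, hg1] at h1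
  have hmul : Nat.card (commutator G) * (commutator G).index = p ^ n := by
    rw [← hG]; exact Subgroup.card_mul_index _
  obtain ⟨j, hj, hj2⟩ := (Nat.dvd_prime_pow hpp).mp ⟨_, hmul.symm.trans (mul_comm _ _)⟩
  -- index = p^j, j ≤ 2
  have hj_le : j ≤ 2 := by
    by_contra hlt
    push Not at hlt
    have h3 : p ^ 3 ≤ (commutator G).index := by
      rw [hj2]; exact Nat.pow_le_pow_right hpp.pos hlt
    have h4 : p ^ (n - 2) * p ^ 3 ≤ p ^ n := by
      rw [← hmul]; exact Nat.mul_le_mul h1 h3
    rw [← pow_add] at h4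
    have := (Nat.pow_le_pow_iff_right hpp.one_lt).mp h4
    omega
  have hcard : Nat.card (G ⧸ commutator G) = p ^ j := by
    rw [← Subgroup.index_eq_card, hj2]
  interval_cases j
  · exfalso
    apply hncyc
    have : Subsingleton (G ⧸ commutator G) :=
      (Nat.card_eq_one_iff_unique.mp (by rw [hcard, pow_zero])).1
    infer_instance
  · exfalso
    apply hncyc
    exact isCyclic_of_prime_card (p := p) (by rw [hcard, pow_one])
  · exact hj2

end lcs

end Cfsg.Agent.Lib.Helper29
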