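import Mathlib
import Cfsg.Prelude.Def_Balance
import Cfsg.Agent.Lib.Helper23.TwoLayer
import Cfsg.Agent.Lib.Helper22.FStar

/-! # MC-COMMG (helper29, second hand for helper18's Mc hive S1305) -/

set_option autoImplicit false

open Cfsg

namespace Cfsg.Agent.Lib.Helper18.Mc

open Subgroup
open scoped commutatorElement

/-- MC-COMMG.  A component `J` of `C_G(b)` and its conjugate under `a ∈ C_G(b)`, if distinct, commute. -/
theorem comm_conj {G : Type*} [Group G] [Finite G] (a b : G) (hab : a * b = b * a) (J : Subgroup G)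
    (hJb : J ≤ centralizer ({b} : Set G)) (hJ : IsComponent (J.subgroupOf (centralizer ({b} : Set G))))
    (hne : J.map (MulAut.conj a).toMonoidHom ≠ J) :
    ∀ x ∈ J, ∀ y ∈ J, x * (a * y * a⁻¹) = (a * y * a⁻¹) * x := by
  have haC : a ∈ centralizer ({b} : Set G) := by
    rw [mem_centralizer_iff]
    intro g hg
    rw [Set.mem_singleton_iff] at hg
    subst hg
    exact hab.symm
  set C := centralizer ({b} : Set G) with hC
  set a' : ↥C := ⟨a, haC⟩ with ha'
  have hJ' : IsComponent (Cfsg.Agent.Lib.Helper33.cj a' (J.subgroupOf C)) :=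
    Cfsg.Agent.Lib.Helper23.isComponent_cj a' hJ
  have hne' : J.subgroupOf C ≠ Cfsg.Agent.Lib.Helper33.cj a' (J.subgroupOf C) := by
    intro he
    apply hne
    apply le_antisymm
    · rintro _ ⟨y, hy, rfl⟩
      have h1 : (a' * ⟨y, hJb hy⟩ * a'⁻¹ : ↥C) ∈ Cfsg.Agent.Lib.Helper33.cj a' (J.subgroupOf C) :=
        Cfsg.Agent.Lib.Helper33.mem_cj'.mpr ⟨⟨y, hJb hy⟩, by rw [mem_subgroupOf]; exact hy, rfl⟩
      rw [← he, mem_subgroupOf] at h1
      simpa using h1
    · intro x hx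
      have h1 : (⟨x, hJb hx⟩ : ↥C) ∈ J.subgroupOf C := by rw [mem_subgroupOf]; exact hx
      rw [he] at h1
      obtain ⟨y, hy, hyx⟩ := Cfsg.Agent.Lib.Helper33.mem_cj'.mp h1
      rw [mem_subgroupOf] at hy
      refine ⟨(y : G), hy, ?_⟩
      have := congrArg Subtype.val hyx
      simpa using this
  have hcomm := Cfsg.Agent.Lib.Helper22.components_commute hJ hJ' hne'
  intro x hx y hy
  have h1 : (⟨x, hJb hx⟩ : ↥C) ∈ J.subgroupOf C := by rw [mem_subgroupOf]; exact hx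
  have h2 : (a' * ⟨y, hJb hy⟩ * a'⁻¹ : ↥C) ∈ Cfsg.Agent.Lib.Helper33.cj a' (J.subgroupOf C) :=
    Cfsg.Agent.Lib.Helper33.mem_cj'.mpr ⟨⟨y, hJb hy⟩, by rw [mem_subgroupOf]; exact hy, rfl⟩
  have h3 : ⁅(⟨x, hJb hx⟩ : ↥C), a' * ⟨y, hJb hy⟩ * a'⁻¹⁆ ∈
      ⁅J.subgroupOf C, Cfsg.Agent.Lib.Helper33.cj a' (J.subgroupOf C)⁆ :=
    commutator_mem_commutator h1 h2
  rw [hcomm, mem_bot, commutatorElement_eq_one_iff_mul_comm] at h3
  have := congrArg Subtype.val h3
  simpa using this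

end Cfsg.Agent.Lib.Helper18.Mc
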