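import Mathlib
import Cfsg.Agent.Lib.Helper29.Griess

/-!
# Action of automorphisms on `P / Z(P)`
-/

namespace Cfsg.Agent.Lib.Helper29

section

variable {P : Type*} [Group P]

/-- the automorphism induced on `P / Z(P)` -/
noncomputable def quotAut (e : MulAut P) : MulAut (P ⧸ Subgroup.center P) :=
  QuotientGroup.congr (Subgroup.center P) (Subgroup.center P) e
    (Subgroup.characteristic_iff_map_eq.mp inferInstance e)

theorem quotAut_mk (e : MulAut P) (x : P) :
    quotAut e (QuotientGroup.mk x) = QuotientGroup.mk (e x) :=
  QuotientGroup.congr_mk _ _ _ _ _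

/-- `Aut P → Aut (P / Z(P))` -/
noncomputable def quotAutHom : MulAut P →* MulAut (P ⧸ Subgroup.center P) :=
  MonoidHom.mk' quotAut (by
    intro a b
    ext x
    induction x using QuotientGroup.induction_on with
    | H x => rw [MulAut.mul_apply, quotAut_mk, quotAut_mk, quotAut_mk, MulAut.mul_apply])

theorem quotAutHom_mk (e : MulAut P) (x : P) :
    quotAutHom e (QuotientGroup.mk x) = QuotientGroup.mk (e x) :=
  quotAut_mk e x

theorem quotAutHom_conj {z : P} (h : IsE2 P z) (p : P) : quotAutHom (MulAut.conj p) = 1 := by
  ext x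
  induction x using QuotientGroup.induction_on with
  | H x =>
    rw [quotAutHom_mk, MulAut.one_apply, QuotientGroup.eq, MulAut.conj_apply]
    have : (p * x * p⁻¹)⁻¹ * x = cm p x⁻¹ := by simp only [cm]; group
    rw [this]
    exact cm_mem_center h.comm _ _

theorem quotAutHom_eq_one_iff [Finite P] {z : P} (h : IsE2 P z)
    (hcomm : commutator P = Subgroup.center P) (e : MulAut P) :
    quotAutHom e = 1 ↔ ∃ u : P, ∀ x, e x = u * x * u⁻¹ := by
  constructor
  · intro he
    apply h.inner_of_mod_center hcomm e
    intro x
    have h1 := DFunLike.congr_fun he (QuotientGroup.mk x)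
    rw [quotAutHom_mk, MulAut.one_apply] at h1
    rw [← QuotientGroup.eq_one_iff, QuotientGroup.mk_mul, h1, QuotientGroup.mk_inv]
    exact mul_inv_cancel _
  · rintro ⟨u, hu⟩
    have : e = MulAut.conj u := by
      ext x
      rw [hu, MulAut.conj_apply]
    rw [this]
    exact quotAutHom_conj h u

theorem card_quot_center [Finite P] {z : P} (h : IsE2 P z) :
    Nat.card P = Nat.card (P ⧸ Subgroup.center P) * 2 := by
  rw [Subgroup.card_eq_card_quotient_mul_card_subgroup (Subgroup.center P), h.card_center]

theorem quot_center_sq {z : P} (h : IsE2 P z) (a : P ⧸ Subgroup.center P) : a * a = 1 := by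
  induction a using QuotientGroup.induction_on with
  | H x =>
    rw [← QuotientGroup.mk_mul, QuotientGroup.eq_one_iff]
    exact h.sq_mem_center x

end

end Cfsg.Agent.Lib.Helper29
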