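import Mathlib
import Cfsg.Prelude.Def_Transfer
import Cfsg.Agent.Lib.Helper29.QuotAut
import Cfsg.Agent.Lib.Helper29.FrobSixteen
import Cfsg.Agent.Lib.Helper29.ExtraTwoClass

/-!
# `2^{1+4}_- . 10`: the centraliser of an outer involution in the radical
-/

open scoped Pointwise

namespace Cfsg.Agent.Lib.Helper29

theorem card_cent_320 {G : Type*} [Group G] [Finite G] (H : Subgroup G) [hHn : H.Normal]
    (hG : Nat.card G = 320) (h32 : Nat.card H = 32)
    (hcent : Subgroup.centralizer (H : Set G) ≤ H)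
    (hex : Cfsg.IsExtraspecial 2 ↥H)
    (hminus : ∀ A : Subgroup G, A ≤ H → Cfsg.IsElementaryAbelian 2 A → Nat.card ↥A ≤ 4)
    (T : G) (hT : orderOf T = 2) (hTH : T ∉ H)
    (V : Subgroup G) (hV : V ≤ H ⊓ Subgroup.centralizer ({T} : Set G)) (hV4 : Nat.card ↥V = 4) :
    Nat.card ↥(H ⊓ Subgroup.centralizer ({T} : Set G)) = 4 := by
  obtain ⟨z, hz⟩ := IsE2.of_isExtraspecial hex
  have hcomm : commutator ↥H = Subgroup.center ↥H := hex.1.2.2
  let ρ : G →* MulAut (↥H ⧸ Subgroup.center ↥H) := quotAutHom.comp (MulAut.conjNormal (H := H))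
  have hρ_mk : ∀ (g : G) (x : ↥H),
      ρ g (QuotientGroup.mk x) = QuotientGroup.mk (MulAut.conjNormal g x) :=
    fun g x => quotAutHom_mk _ _
  have hρH : ∀ g ∈ H, ρ g = 1 := by
    intro g hg
    have : (MulAut.conjNormal g : MulAut ↥H) = MulAut.conj ⟨g, hg⟩ := by
      ext x
      rw [MulAut.conjNormal_apply, MulAut.conj_apply]
      rfl
    show quotAutHom (MulAut.conjNormal g) = 1
    rw [this]
    exact quotAutHom_conj hz _
  have hρ1 : ∀ g, ρ g = 1 → g ∈ H := by
    intro g hg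
    obtain ⟨u, hu⟩ := (quotAutHom_eq_one_iff hz hcomm _).1 hg
    have hmem : (u : G)⁻¹ * g ∈ Subgroup.centralizer (H : Set G) := by
      rw [Subgroup.mem_centralizer_iff]
      intro x hx
      have h1 := congrArg Subtype.val (hu ⟨x, hx⟩)
      rw [MulAut.conjNormal_apply] at h1
      simp only [Subgroup.coe_mul, Subgroup.coe_inv] at h1
      calc x * ((u : G)⁻¹ * g) = (u : G)⁻¹ * ((u : G) * x * (u : G)⁻¹) * g := by group
        _ = (u : G)⁻¹ * (g * x * g⁻¹) * g := by rw [h1]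
        _ = (u : G)⁻¹ * g * x := by group
    have := hcent hmem
    have h2 : g = (u : G) * ((u : G)⁻¹ * g) := by group
    rw [h2]
    exact H.mul_mem u.2 this
  have : Fact (Nat.Prime 5) := ⟨by norm_num⟩
  have : Fact (Nat.Prime 2) := ⟨Nat.prime_two⟩
  obtain ⟨f, hf⟩ := exists_prime_orderOf_dvd_card' (G := G) 5 (by rw [hG]; norm_num)
  have hfH : f ∉ H := by
    intro hfH
    have h1 : orderOf (⟨f, hfH⟩ : H) = 5 := by
      rw [← Subgroup.orderOf_coe]
      exact hf
    have h2 := orderOf_dvd_natCard (⟨f, hfH⟩ : H)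
    rw [h1, h32] at h2
    norm_num at h2
  have hA : Nat.card (↥H ⧸ Subgroup.center ↥H) = 16 := by
    have := card_quot_center hz
    rw [h32] at this
    omega
  have hsq : ∀ a : ↥H ⧸ Subgroup.center ↥H, a * a = 1 := quot_center_sq hz
  have hTT : T * T = 1 := by
    rw [← pow_two, ← hT]
    exact pow_orderOf_eq_one T
  have ht2 : ρ T * ρ T = 1 := by rw [← map_mul, hTT, map_one]
  have ht1 : ρ T ≠ 1 := fun e => hTH (hρ1 T e)
  have hf5 : ρ f ^ 5 = 1 := by rw [← map_pow, ← hf, pow_orderOf_eq_one, map_one]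
  have hf1 : ρ f ≠ 1 := fun e => hfH (hρ1 f e)
  have hn : ρ T * ρ f * (ρ T)⁻¹ ∈ Subgroup.zpowers (ρ f) := by
    have hKn : (H ⊔ Subgroup.zpowers f).Normal := by
      have h1 : 32 ∣ Nat.card ↥(H ⊔ Subgroup.zpowers f) :=
        h32 ▸ Subgroup.card_dvd_of_le (le_sup_left : H ≤ H ⊔ Subgroup.zpowers f)
      have h2 : 5 ∣ Nat.card ↥(H ⊔ Subgroup.zpowers f) := by
        have := Subgroup.card_dvd_of_le (le_sup_right : Subgroup.zpowers f ≤ H ⊔ Subgroup.zpowers f)
        rwa [Nat.card_zpowers, hf] at this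
      have h3 : 160 ∣ Nat.card ↥(H ⊔ Subgroup.zpowers f) :=
        Nat.Coprime.mul_dvd_of_dvd_of_dvd (by norm_num : Nat.Coprime 32 5) h1 h2
      have h4 := Subgroup.card_mul_index (H ⊔ Subgroup.zpowers f)
      rw [hG] at h4
      obtain ⟨m, hm⟩ := h3
      rw [hm] at h4
      have h5 : m * (H ⊔ Subgroup.zpowers f).index = 2 := by nlinarith
      have h6 : (H ⊔ Subgroup.zpowers f).index ∣ 2 := Dvd.intro_left _ h5
      rcases (Nat.dvd_prime Nat.prime_two).1 h6 with h7 | h7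
      · rw [Subgroup.index_eq_one.1 h7]
        infer_instance
      · exact Subgroup.normal_of_index_eq_two h7
    have hmem : T * f * T⁻¹ ∈ H ⊔ Subgroup.zpowers f :=
      hKn.conj_mem f (Subgroup.mem_sup_right (Subgroup.mem_zpowers f)) T
    have hmem' : T * f * T⁻¹ ∈ (H : Set G) * (Subgroup.zpowers f : Set G) := by
      rw [← Subgroup.normal_mul]
      exact hmem
    obtain ⟨h, hh, y, hy, hhy⟩ := Set.mem_mul.1 hmem'
    obtain ⟨k, rfl⟩ := Subgroup.mem_zpowers_iff.1 hy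
    have : ρ T * ρ f * (ρ T)⁻¹ = ρ f ^ k := by
      rw [← map_inv, ← map_mul, ← map_mul, ← hhy, map_mul, hρH h hh, one_mul, map_zpow]
    rw [this]
    exact Subgroup.zpow_mem_zpowers _ _
  obtain ⟨hK4, hDK⟩ := fix_invol_of_frob hA hsq (ρ T) (ρ f) ht2 ht1 hf5 hf1 hn
  have hCT : ∀ x ∈ H ⊓ Subgroup.centralizer ({T} : Set G), T * x * T⁻¹ = x := by
    intro x hx
    have := Subgroup.mem_centralizer_iff.1 hx.2 T (Set.mem_singleton T)
    rw [this]
    group
  have hCH : H ⊓ Subgroup.centralizer ({T} : Set G) ≤ H := inf_le_left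
  let ψ : ↥(H ⊓ Subgroup.centralizer ({T} : Set G)) →* ↥H ⧸ Subgroup.center ↥H :=
    (QuotientGroup.mk' (Subgroup.center ↥H)).comp (Subgroup.inclusion hCH)
  have hσfix : ∀ x : ↥(H ⊓ Subgroup.centralizer ({T} : Set G)),
      MulAut.conjNormal T (Subgroup.inclusion hCH x) = Subgroup.inclusion hCH x := by
    intro x
    apply Subtype.ext
    rw [MulAut.conjNormal_apply]
    exact hCT x x.2
  have hψker : ∀ x : ↥(H ⊓ Subgroup.centralizer ({T} : Set G)),
      ψ x ∈ (deltaHom hsq (ρ T)).ker := by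
    intro x
    rw [mem_ker_deltaHom]
    show ρ T (QuotientGroup.mk (Subgroup.inclusion hCH x)) =
      QuotientGroup.mk (Subgroup.inclusion hCH x)
    rw [hρ_mk, hσfix]
  have hrange : ψ.range ≤ (deltaHom hsq (ρ T)).ker := by
    rintro _ ⟨x, rfl⟩
    exact hψker x
  have hker2 : Nat.card ψ.ker ≤ 2 := by
    have hmemc : ∀ x : ψ.ker, Subgroup.inclusion hCH (x : ↥(H ⊓ Subgroup.centralizer ({T} : Set G))) ∈
        Subgroup.center ↥H := by
      intro x
      have := x.2
      rw [MonoidHom.mem_ker] at this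
      exact (QuotientGroup.eq_one_iff _).1 this
    have hinj : Function.Injective
        (fun x : ψ.ker => (⟨_, hmemc x⟩ : Subgroup.center ↥H)) := by
      intro x y hxy
      have h1 := congrArg Subtype.val hxy
      have h2 := congrArg Subtype.val h1
      exact Subtype.ext (Subtype.ext h2)
    have := Nat.card_le_card_of_injective _ hinj
    rwa [hz.card_center] at this
  have hC8 : Nat.card ↥(H ⊓ Subgroup.centralizer ({T} : Set G)) ≤ 8 := by
    have h1 := Subgroup.card_mul_index ψ.ker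
    rw [Subgroup.index_ker] at h1
    have h2 : Nat.card ψ.range ≤ 4 := hK4 ▸ Subgroup.card_le_of_le hrange
    calc Nat.card ↥(H ⊓ Subgroup.centralizer ({T} : Set G))
        = Nat.card ψ.ker * Nat.card ψ.range := h1.symm
      _ ≤ 2 * 4 := Nat.mul_le_mul hker2 h2
  have hCdvd : Nat.card ↥(H ⊓ Subgroup.centralizer ({T} : Set G)) ∣ 32 :=
    h32 ▸ Subgroup.card_dvd_of_le hCH
  have hVdvd : 4 ∣ Nat.card ↥(H ⊓ Subgroup.centralizer ({T} : Set G)) :=
    hV4 ▸ Subgroup.card_dvd_of_le hV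
  have hpos : 0 < Nat.card ↥(H ⊓ Subgroup.centralizer ({T} : Set G)) := Nat.card_pos
  have hC48 : Nat.card ↥(H ⊓ Subgroup.centralizer ({T} : Set G)) = 4 ∨
      Nat.card ↥(H ⊓ Subgroup.centralizer ({T} : Set G)) = 8 := by
    generalize Nat.card ↥(H ⊓ Subgroup.centralizer ({T} : Set G)) = n at *
    interval_cases n <;> omega
  rcases hC48 with h4 | h8
  · exact h4
  · exfalso
    have hex2 : ∃ a ∈ H ⊓ Subgroup.centralizer ({T} : Set G), a * a ≠ 1 := by
      by_contra hall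
      push Not at hall
      have hCc : ∀ x y : ↥(H ⊓ Subgroup.centralizer ({T} : Set G)), x * y = y * x :=
        comm_of_sq (fun a => Subtype.ext (hall a a.2))
      have hel : Cfsg.IsElementaryAbelian 2 (H ⊓ Subgroup.centralizer ({T} : Set G)) :=
        ⟨⟨⟨hCc⟩⟩, fun a ha => by rw [pow_two]; exact hall a ha⟩
      have := hminus _ hCH hel
      omega
    obtain ⟨a, haC, haa⟩ := hex2
    have hamem : (QuotientGroup.mk (⟨a, haC.1⟩ : ↥H) : ↥H ⧸ Subgroup.center ↥H) ∈
        (deltaHom hsq (ρ T)).range := by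
      rw [hDK]
      exact hψker ⟨a, haC⟩
    obtain ⟨w, hw⟩ := hamem
    obtain ⟨q, rfl⟩ := QuotientGroup.mk_surjective w
    rw [deltaHom_apply, hρ_mk, ← QuotientGroup.mk_mul, QuotientGroup.eq] at hw
    obtain ⟨σ, hσ⟩ : ∃ σ : MulAut ↥H, σ = MulAut.conjNormal T := ⟨_, rfl⟩
    rw [← hσ] at hw
    obtain ⟨a', ha'⟩ : ∃ a' : ↥H, a' = ⟨a, haC.1⟩ := ⟨_, rfl⟩
    rw [← ha'] at hw
    have hσσ : ∀ x, σ (σ x) = x := by
      intro x
      have : σ * σ = 1 := by rw [hσ, ← map_mul, hTT, map_one]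
      have := DFunLike.congr_fun this x
      simpa [MulAut.mul_apply] using this
    have hσa : σ a' = a' := by
      rw [hσ, ha']
      apply Subtype.ext
      rw [MulAut.conjNormal_apply]
      exact hCT a haC
    have hζ : (σ q * q⁻¹)⁻¹ * a' ∈ Subgroup.center ↥H := by
      have : (σ q * q⁻¹)⁻¹ * a' = (q * q) * ((σ q * q)⁻¹ * a') := by group
      rw [this]
      exact Subgroup.mul_mem _ (hz.sq_mem_center q) hw
    obtain ⟨c, hc⟩ : ∃ c : ↥H, c = σ q * q⁻¹ := ⟨_, rfl⟩
    rw [← hc] at hζ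
    have hσc : σ c = c⁻¹ := by
      rw [hc, map_mul, map_inv, hσσ]
      group
    obtain ⟨ζ, hζdef⟩ : ∃ ζ : ↥H, ζ = c⁻¹ * a' := ⟨_, rfl⟩
    rw [← hζdef] at hζ
    have hac : a' = c * ζ := by rw [hζdef]; group
    have hσζ : σ ζ = ζ := hz.map_center σ hζ
    have h1 : a' = c⁻¹ * ζ := by
      calc a' = σ a' := hσa.symm
        _ = σ (c * ζ) := by rw [← hac]
        _ = c⁻¹ * ζ := by rw [map_mul, hσc, hσζ]
    have h3 : c = c⁻¹ := mul_right_cancel (hac.symm.trans h1)
    have hcc : c * c = 1 := mul_eq_one_iff_eq_inv.2 h3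
    have hζc : c * ζ = ζ * c := (Subgroup.mem_center_iff.1 hζ c)
    have haa' : a' * a' = 1 := by
      calc a' * a' = (c * ζ) * (c * ζ) := by rw [← hac]
        _ = c * (ζ * c) * ζ := by group
        _ = c * (c * ζ) * ζ := by rw [hζc]
        _ = (c * c) * (ζ * ζ) := by group
        _ = 1 := by rw [hcc, hz.center_mul_self hζ, mul_one]
    apply haa
    have := congrArg Subtype.val haa'
    rw [ha'] at this
    exact this

end Cfsg.Agent.Lib.Helper29
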