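import Mathlib
import Cfsg.Statements.S2924
import Cfsg.Agent.Lib.Helper22.CharP2
import Cfsg.Agent.Lib.Helper22.FStar
import Cfsg.Agent.Lib.Helper22.OcDefs
import Cfsg.Agent.Lib.Helper21.Components

/-! # OC3f (helper29, leaf of helper22's Oc hive for S2924): a component and a normal subgroup -/

set_option autoImplicit false
open Cfsg Subgroup
open scoped commutatorElement

namespace Cfsg.Agent.Lib.Helper29.OcOC3f

universe u

/-- OC3f. Dichotomy: a component and a normal subgroup. -/
theorem oc3f {G : Type u} [Group G] [Finite G] (K C : Subgroup G) (hK : IsComponent K) [C.Normal] :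
    K ≤ C ∨ ∀ k ∈ K, ∀ c ∈ C, k * c = c * k := by
  rcases Cfsg.Agent.Lib.Helper21.component_le_or_commutes_normal hK (inferInstance : C.Normal)
    with h | h
  · exact Or.inl h
  · right
    intro k hk c hc
    have h1 : ⁅c, k⁆ ∈ ⁅C, K⁆ := Subgroup.commutator_mem_commutator hc hk
    rw [h, Subgroup.mem_bot] at h1
    exact (commutatorElement_eq_one_iff_mul_comm.mp h1).symm

end Cfsg.Agent.Lib.Helper29.OcOC3f
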