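import Mathlib
import Cfsg.Prelude.Def_Transfer
import Cfsg.Agent.Lib.Helper29.QuotAut
import Cfsg.Agent.Lib.Helper29.FrobSixteen
import Cfsg.Agent.Lib.Helper29.ExtraTwoRank

/-!
# `Out(2^{1+4}_-) ≅ S_5`

The automorphism group acts on the five singular points of `P / Z(P)`; inner automorphisms are the
kernel, and the reflections in the non-singular points give all transpositions.
-/

namespace Cfsg.Agent.Lib.Helper29

section

variable {P : Type*} [Group P] {z : P}

theorem IsE2.sq_eq_of_mk_eq (h : IsE2 P z) {x y : P}
    (e : (QuotientGroup.mk x : P ⧸ Subgroup.center P) = QuotientGroup.mk y) : x * x = y * y := by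
  have hc : x⁻¹ * y ∈ Subgroup.center P := QuotientGroup.eq.1 e
  have hcc := h.center_mul_self hc
  have hcomm := Subgroup.mem_center_iff.1 hc x
  symm
  calc y * y = x * ((x⁻¹ * y) * x) * (x⁻¹ * y) := by group
    _ = x * (x * (x⁻¹ * y)) * (x⁻¹ * y) := by rw [← hcomm]
    _ = x * x * ((x⁻¹ * y) * (x⁻¹ * y)) := by group
    _ = x * x := by rw [hcc, mul_one]

/-- the singular points of `P / Z(P)` -/
def singSet (P : Type*) [Group P] : Set (P ⧸ Subgroup.center P) :=
  {v | v ≠ 1 ∧ ∃ x : P, (QuotientGroup.mk x : P ⧸ Subgroup.center P) = v ∧ x * x = 1}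

theorem mem_singSet_map (e : MulAut P) {v : P ⧸ Subgroup.center P} (hv : v ∈ singSet P) :
    quotAutHom e v ∈ singSet P := by
  obtain ⟨hv1, x, rfl, hx⟩ := hv
  refine ⟨?_, e x, (quotAutHom_mk e x).symm, by rw [← map_mul, hx, map_one]⟩
  intro h1
  apply hv1
  exact (EmbeddingLike.map_eq_one_iff (f := quotAutHom e)).1 h1

/-- the permutation of the singular points induced by an automorphism -/
noncomputable def singPerm (e : MulAut P) : Equiv.Perm (singSet P) where
  toFun ω := ⟨quotAutHom e ω.1, mem_singSet_map e ω.2⟩
  invFun ω := ⟨quotAutHom e⁻¹ ω.1, mem_singSet_map e⁻¹ ω.2⟩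
  left_inv ω := by
    apply Subtype.ext
    show quotAutHom e⁻¹ (quotAutHom e ω.1) = ω.1
    rw [← MulAut.mul_apply, ← map_mul, inv_mul_cancel, map_one, MulAut.one_apply]
  right_inv ω := by
    apply Subtype.ext
    show quotAutHom e (quotAutHom e⁻¹ ω.1) = ω.1
    rw [← MulAut.mul_apply, ← map_mul, mul_inv_cancel, map_one, MulAut.one_apply]

/-- `Aut P → Sym(singular points)` -/
noncomputable def singHom : MulAut P →* Equiv.Perm (singSet P) where
  toFun := singPerm
  map_one' := by
    apply Equiv.ext
    intro ω
    apply Subtype.ext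
    show quotAutHom 1 ω.1 = ω.1
    rw [map_one, MulAut.one_apply]
  map_mul' a b := by
    apply Equiv.ext
    intro ω
    apply Subtype.ext
    show quotAutHom (a * b) ω.1 = quotAutHom a (quotAutHom b ω.1)
    rw [map_mul, MulAut.mul_apply]

theorem singHom_apply (e : MulAut P) (ω : singSet P) :
    ((singHom e ω : singSet P) : P ⧸ Subgroup.center P) = quotAutHom e ω.1 := rfl

theorem card_singSet [Finite P] (h : IsE2 P z) (hs : sqCount P = 12) :
    Nat.card (singSet P) = 5 := by
  classical
  let t : Set (P ⧸ Subgroup.center P) :=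
    {v | ∃ x : P, (QuotientGroup.mk x : P ⧸ Subgroup.center P) = v ∧ x * x = 1}
  have hpre : (QuotientGroup.mk ⁻¹' t : Set P) = {x | x ^ 2 = 1} := by
    ext y
    constructor
    · rintro ⟨x, hx, hxx⟩
      show y ^ 2 = 1
      rw [pow_two, ← h.sq_eq_of_mk_eq hx, hxx]
    · intro hy
      exact ⟨y, rfl, by rw [← pow_two]; exact hy⟩
  have hcard : Nat.card (QuotientGroup.mk ⁻¹' t : Set P) = 2 * Nat.card t := by
    rw [Nat.card_congr (QuotientGroup.preimageMkEquivSubgroupProdSet _ t), Nat.card_prod,
      h.card_center]
  have h6 : Nat.card t = 6 := by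
    rw [hpre] at hcard
    have : Nat.card ({x | x ^ 2 = 1} : Set P) = sqCount P := rfl
    omega
  have ht : t = insert 1 (singSet P) := by
    ext v
    simp only [Set.mem_insert_iff]
    constructor
    · rintro ⟨x, hx, hxx⟩
      by_cases hv : v = 1
      · exact Or.inl hv
      · exact Or.inr ⟨hv, x, hx, hxx⟩
    · rintro (rfl | ⟨-, x, hx, hxx⟩)
      · exact ⟨1, rfl, mul_one 1⟩
      · exact ⟨x, hx, hxx⟩
  have h1 : (1 : P ⧸ Subgroup.center P) ∉ singSet P := fun hh => hh.1 rfl
  have h2 := Set.ncard_insert_of_notMem h1 (Set.toFinite _)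
  rw [← ht, ← Nat.card_coe_set_eq, ← Nat.card_coe_set_eq, h6] at h2
  omega

theorem five_le_card {A : Type*} [Finite A] (a b c d e : A) (hab : a ≠ b) (hac : a ≠ c)
    (had : a ≠ d) (hae : a ≠ e) (hbc : b ≠ c) (hbd : b ≠ d) (hbe : b ≠ e) (hcd : c ≠ d)
    (hce : c ≠ e) (hde : d ≠ e) : 5 ≤ Nat.card A := by
  have hinj : Function.Injective (![a, b, c, d, e] : Fin 5 → A) := by
    intro i j hij
    fin_cases i <;> fin_cases j <;> first | rfl | (exfalso; simp at hij; first | exact hab hij | exact hac hij | exact had hij | exact hae hij | exact hbc hij | exact hbd hij | exact hbe hij | exact hcd hij | exact hce hij | exact hde hij | exact hab hij.symm | exact hac hij.symm | exact had hij.symm | exact hae hij.symm | exact hbc hij.symm | exact hbd hij.symm | exact hbe hij.symm | exact hcd hij.symm | exact hce hij.symm | exact hde hij.symm)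
  simpa using Nat.card_le_card_of_injective _ hinj

theorem IsE2.not_comm_of_minus [Finite P] (h : IsE2 P z)
    (hminus : ∀ A : Subgroup P, Cfsg.IsElementaryAbelian 2 A → Nat.card ↥A ≤ 4)
    {x y : P} (hx : x * x = 1) (hy : y * y = 1) (hxc : x ∉ Subgroup.center P)
    (hyc : y ∉ Subgroup.center P)
    (hne : (QuotientGroup.mk x : P ⧸ Subgroup.center P) ≠ QuotientGroup.mk y) :
    x * y ≠ y * x := by
  intro hxy
  have hS : ∀ a ∈ ({z, x, y} : Set P), ∀ b ∈ ({z, x, y} : Set P), a * b = b * a := by
    intro a ha b hb
    simp only [Set.mem_insert_iff, Set.mem_singleton_iff] at ha hb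
    rcases ha with rfl | rfl | rfl <;> rcases hb with rfl | rfl | rfl
    all_goals first | rfl | exact hxy | exact hxy.symm | exact h.zcomm _ | exact (h.zcomm _).symm
  have hcommA : ∀ a b : Subgroup.closure ({z, x, y} : Set P), a * b = b * a :=
    fun a b => (Subgroup.isMulCommutative_closure hS).is_comm.comm a b
  have hsqA : ∀ a ∈ Subgroup.closure ({z, x, y} : Set P), a * a = 1 := by
    intro a ha
    induction ha using Subgroup.closure_induction with
    | mem a ha =>
      simp only [Set.mem_insert_iff, Set.mem_singleton_iff] at ha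
      rcases ha with rfl | rfl | rfl
      · exact h.sq
      · exact hx
      · exact hy
    | one => exact mul_one 1
    | mul a b ha hb iha ihb =>
      have : a * b = b * a := congrArg Subtype.val (hcommA ⟨a, ha⟩ ⟨b, hb⟩)
      calc a * b * (a * b) = a * (b * a) * b := by group
        _ = a * (a * b) * b := by rw [this]
        _ = (a * a) * (b * b) := by group
        _ = 1 := by rw [iha, ihb, mul_one]
    | inv a ha iha =>
      calc a⁻¹ * a⁻¹ = (a * a)⁻¹ := by group
        _ = 1 := by rw [iha, inv_one]
  have hel : Cfsg.IsElementaryAbelian 2 (Subgroup.closure ({z, x, y} : Set P)) :=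
    ⟨⟨⟨hcommA⟩⟩, fun a ha => by rw [pow_two]; exact hsqA a ha⟩
  have hle := hminus _ hel
  have hzA : z ∈ Subgroup.closure ({z, x, y} : Set P) := Subgroup.subset_closure (by simp)
  have hxA : x ∈ Subgroup.closure ({z, x, y} : Set P) := Subgroup.subset_closure (by simp)
  have hyA : y ∈ Subgroup.closure ({z, x, y} : Set P) := Subgroup.subset_closure (by simp)
  have hx1 : x ≠ 1 := fun e => hxc (e ▸ Subgroup.one_mem _)
  have hxz : x ≠ z := fun e => hxc (e ▸ h.mem)
  have hy1 : y ≠ 1 := fun e => hyc (e ▸ Subgroup.one_mem _)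
  have hyz : y ≠ z := fun e => hyc (e ▸ h.mem)
  have hyx : y ≠ x := fun e => hne (by rw [e])
  have hyxz : y ≠ x * z := by
    intro e
    apply hne
    rw [QuotientGroup.eq, e]
    have : x⁻¹ * (x * z) = z := by group
    rw [this]
    exact h.mem
  have h5 := five_le_card (A := Subgroup.closure ({z, x, y} : Set P)) 1 ⟨z, hzA⟩ ⟨x, hxA⟩
    ⟨x * z, Subgroup.mul_mem _ hxA hzA⟩ ⟨y, hyA⟩
    (fun e => h.ne (congrArg Subtype.val e).symm)
    (fun e => hx1 (congrArg Subtype.val e).symm)
    (fun e => by
      have e' : (1 : P) = x * z := congrArg Subtype.val e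
      apply hxz
      calc x = (x * z) * z := by rw [mul_assoc, h.sq, mul_one]
        _ = z := by rw [← e', one_mul])
    (fun e => hy1 (congrArg Subtype.val e).symm)
    (fun e => hxz (congrArg Subtype.val e).symm)
    (fun e => by
      have e' : z = x * z := congrArg Subtype.val e
      apply hx1
      calc x = (x * z) * z⁻¹ := by group
        _ = 1 := by rw [← e', mul_inv_cancel])
    (fun e => hyz (congrArg Subtype.val e).symm)
    (fun e => by
      have e' : x = x * z := congrArg Subtype.val e
      apply h.ne
      calc z = x⁻¹ * (x * z) := by group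
        _ = 1 := by rw [← e', inv_mul_cancel])
    (fun e => hyx (congrArg Subtype.val e).symm)
    (fun e => hyxz (congrArg Subtype.val e).symm)
  omega

/-- data of two distinct singular points with chosen representatives -/
theorem exists_reps (ω : singSet P) :
    ∃ x : P, (QuotientGroup.mk x : P ⧸ Subgroup.center P) = ω.1 ∧ x * x = 1 ∧
      x ∉ Subgroup.center P := by
  obtain ⟨h1, x, hx, hxx⟩ := ω.2
  refine ⟨x, hx, hxx, fun hc => h1 ?_⟩
  rw [← hx]
  exact (QuotientGroup.eq_one_iff x).2 hc

/-- an automorphism fixing all singular points is trivial modulo the centre -/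
theorem IsE2.quotAutHom_eq_one_of_singHom [Finite P] (h : IsE2 P z)
    (hminus : ∀ A : Subgroup P, Cfsg.IsElementaryAbelian 2 A → Nat.card ↥A ≤ 4)
    (ω ω' : singSet P) (hω : ω ≠ ω') (e : MulAut P) (he : singHom e = 1) :
    quotAutHom e = 1 := by
  obtain ⟨x, hxω, hxx, hxc⟩ := exists_reps ω
  obtain ⟨x', hxω', hxx', hxc'⟩ := exists_reps ω'
  have hne : (QuotientGroup.mk x : P ⧸ Subgroup.center P) ≠ QuotientGroup.mk x' := by
    rw [hxω, hxω']
    exact fun e => hω (Subtype.ext e)
  have hnc : x * x' ≠ x' * x := h.not_comm_of_minus hminus hxx hxx' hxc hxc' hne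
  have hfix : ∀ η : singSet P, quotAutHom e η.1 = η.1 := by
    intro η
    have := DFunLike.congr_fun he η
    exact congrArg Subtype.val this
  have hfx : quotAutHom e (QuotientGroup.mk x) = QuotientGroup.mk x := by
    rw [hxω]; exact hfix ω
  have hfx' : quotAutHom e (QuotientGroup.mk x') = QuotientGroup.mk x' := by
    rw [hxω']; exact hfix ω'
  have hrot : (x * x') * (x * x') = z := by
    rw [h.mul_sq_of_not_comm hnc, hxx, hxx', mul_one, mul_one]
  -- elements of the centraliser of the pair
  have hfq : ∀ q ∈ pairCent x x', quotAutHom e (QuotientGroup.mk q) = QuotientGroup.mk q := by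
    intro q hq
    obtain ⟨hqx, hqx'⟩ := mem_pairCent.1 hq
    by_cases hqc : q ∈ Subgroup.center P
    · have : (QuotientGroup.mk q : P ⧸ Subgroup.center P) = 1 := (QuotientGroup.eq_one_iff q).2 hqc
      rw [this, map_one]
    · have hqq : q * q = z := by
        rcases h.sq_cases q with h1 | h1
        · exfalso
          have hneq : (QuotientGroup.mk q : P ⧸ Subgroup.center P) ≠ QuotientGroup.mk x' := by
            intro e1
            have hc : q⁻¹ * x' ∈ Subgroup.center P := QuotientGroup.eq.1 e1
            have hcx := Subgroup.mem_center_iff.1 hc x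
            apply hnc
            have e2 : x' = q * (q⁻¹ * x') := by group
            calc x * x' = x * (q * (q⁻¹ * x')) := by rw [← e2]
              _ = (x * q) * (q⁻¹ * x') := by group
              _ = (q * x) * (q⁻¹ * x') := by rw [hqx]
              _ = q * (x * (q⁻¹ * x')) := by group
              _ = q * ((q⁻¹ * x') * x) := by rw [hcx]
              _ = x' * x := by group
          exact h.not_comm_of_minus hminus h1 hxx' hqc hxc' hneq hqx'
        · exact h1
      -- w = x x' q is a non-central involution
      have hcomm : q * (x * x') = (x * x') * q := by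
        rw [← mul_assoc, hqx, mul_assoc, hqx', ← mul_assoc]
      have hww : (x * x' * q) * (x * x' * q) = 1 := by
        calc (x * x' * q) * (x * x' * q) = (x * x') * (q * (x * x')) * q := by group
          _ = (x * x') * ((x * x') * q) * q := by rw [hcomm]
          _ = ((x * x') * (x * x')) * (q * q) := by group
          _ = 1 := by rw [hrot, hqq, h.sq]
      have hwc : x * x' * q ∉ Subgroup.center P := by
        intro hc
        have hcx := Subgroup.mem_center_iff.1 hc x
        apply hnc
        have h1 : x * (x * x' * q) = x' * q := by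
          calc x * (x * x' * q) = (x * x) * x' * q := by group
            _ = x' * q := by rw [hxx, one_mul]
        have h2 : (x * x' * q) * x = x * x' * x * q := by
          calc (x * x' * q) * x = x * x' * (q * x) := by group
            _ = x * x' * (x * q) := by rw [hqx]
            _ = x * x' * x * q := by group
        rw [h1, h2] at hcx
        have h3 : x' = x * x' * x := mul_right_cancel hcx
        calc x * x' = x * (x * x' * x) := by rw [← h3]
          _ = (x * x) * x' * x := by group
          _ = x' * x := by rw [hxx, one_mul]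
      have hmem : (QuotientGroup.mk (x * x' * q) : P ⧸ Subgroup.center P) ∈ singSet P := by
        refine ⟨fun e1 => hwc ((QuotientGroup.eq_one_iff _).1 e1), _, rfl, hww⟩
      have hfw := hfix ⟨_, hmem⟩
      simp only [QuotientGroup.mk_mul, map_mul, hfx, hfx'] at hfw
      exact mul_left_cancel hfw
  ext v
  induction v using QuotientGroup.induction_on with
  | H g =>
    obtain ⟨⟨q, i, j⟩, rfl⟩ := h.decompMap_surjective hnc g
    rw [MulAut.one_apply]
    simp only [decompMap, rep, QuotientGroup.mk_mul, map_mul]
    rw [hfq q.1 q.2]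
    cases i <;> cases j <;>
      simp only [bp_true, bp_false, QuotientGroup.mk_one, map_one, hfx, hfx']

/-- the reflection in `x x'` swaps the two singular points -/
theorem IsE2.singHom_refl [Finite P] [DecidableEq (singSet P)] (h : IsE2 P z)
    (hminus : ∀ A : Subgroup P, Cfsg.IsElementaryAbelian 2 A → Nat.card ↥A ≤ 4)
    (ω ω' : singSet P) (hω : ω ≠ ω') :
    ∃ e : MulAut P, singHom e = Equiv.swap ω ω' := by
  obtain ⟨x, hxω, hxx, hxc⟩ := exists_reps ω
  obtain ⟨x', hxω', hxx', hxc'⟩ := exists_reps ω'
  have hne : (QuotientGroup.mk x : P ⧸ Subgroup.center P) ≠ QuotientGroup.mk x' := by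
    rw [hxω, hxω']
    exact fun e => hω (Subtype.ext e)
  have hnc : x * x' ≠ x' * x := h.not_comm_of_minus hminus hxx hxx' hxc hxc' hne
  have hrot : (x * x') * (x * x') = z := by
    rw [h.mul_sq_of_not_comm hnc, hxx, hxx', mul_one, mul_one]
  refine ⟨h.reflEquiv hrot, ?_⟩
  apply Equiv.ext
  intro η
  apply Subtype.ext
  rw [singHom_apply]
  by_cases h1 : η = ω
  · rw [h1, Equiv.swap_apply_left, ← hxω, quotAutHom_mk, h.reflEquiv_apply]
    have hxa : x * (x * x') ≠ (x * x') * x := by
      intro e1
      apply hnc
      have e2 : x * (x * x') = x * (x' * x) := by rw [e1]; group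
      exact mul_left_cancel e2
    rw [reflFun_of_not_comm hxa, ← mul_assoc, hxx, one_mul, hxω']
  · by_cases h2 : η = ω'
    · rw [h2, Equiv.swap_apply_right, ← hxω', quotAutHom_mk, h.reflEquiv_apply]
      have hxa : x' * (x * x') ≠ (x * x') * x' := by
        intro e1
        apply hnc
        have e2 : x' * x * x' = x * x' * x' := by rw [mul_assoc, e1]
        exact (mul_right_cancel e2).symm
      rw [reflFun_of_not_comm hxa, QuotientGroup.mk_mul, QuotientGroup.mk_mul,
        comm_of_sq (quot_center_sq h) (QuotientGroup.mk x) (QuotientGroup.mk x'), ← mul_assoc,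
        quot_center_sq h, one_mul, hxω]
    · rw [Equiv.swap_apply_of_ne_of_ne h1 h2]
      obtain ⟨y, hyη, hyy, hyc⟩ := exists_reps η
      have hney : (QuotientGroup.mk y : P ⧸ Subgroup.center P) ≠ QuotientGroup.mk x := by
        rw [hyη, hxω]
        exact fun e => h1 (Subtype.ext e)
      have hney' : (QuotientGroup.mk y : P ⧸ Subgroup.center P) ≠ QuotientGroup.mk x' := by
        rw [hyη, hxω']
        exact fun e => h2 (Subtype.ext e)
      have hyx := h.mul_eq_z_mul (h.not_comm_of_minus hminus hyy hxx hyc hxc hney)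
      have hyx' := h.mul_eq_z_mul (h.not_comm_of_minus hminus hyy hxx' hyc hxc' hney')
      have hya : y * (x * x') = (x * x') * y := by
        calc y * (x * x') = (y * x) * x' := by group
          _ = (z * (x * y)) * x' := by rw [hyx]
          _ = z * x * (y * x') := by group
          _ = z * x * (z * (x' * y)) := by rw [hyx']
          _ = z * (x * z) * (x' * y) := by group
          _ = z * (z * x) * (x' * y) := by rw [h.zcomm x]
          _ = (z * z) * (x * x' * y) := by group
          _ = (x * x') * y := by rw [h.sq, one_mul]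
      rw [← hyη, quotAutHom_mk, h.reflEquiv_apply, reflFun_of_comm hya]

theorem out_minus_32 [Finite P] (hex : Cfsg.IsExtraspecial 2 P) (h32 : Nat.card P = 32)
    (hminus : ∀ A : Subgroup P, Cfsg.IsElementaryAbelian 2 A → Nat.card ↥A ≤ 4)
    [hN : (MulAut.conj : P →* MulAut P).range.Normal] :
    Nat.card ↥(MulAut.conj : P →* MulAut P).range = 16 ∧ Nat.card (MulAut P) = 1920 ∧
      Nonempty ((MulAut P ⧸ (MulAut.conj : P →* MulAut P).range) ≃* Equiv.Perm (Fin 5)) := by
  classical
  obtain ⟨z, h⟩ := IsE2.of_isExtraspecial hex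
  have hcomm : commutator P = Subgroup.center P := hex.1.2.2
  have hs : sqCount P = 12 := by
    obtain ⟨A, hA, hcase⟩ := IsE2.rank_lower _ P z h rfl
    have hA4 := hminus A ⟨hA.isMulCommutative, hA.pow_two⟩
    rcases hcase with ⟨c1, c2⟩ | ⟨c1, c2⟩
    · rw [h32] at c1
      exfalso
      nlinarith
    · rw [h32] at c1 c2
      have : Nat.card A = 4 := by nlinarith
      omega
  have h5 : Nat.card (singSet P) = 5 := card_singSet h hs
  have hker : (singHom (P := P)).ker = (MulAut.conj : P →* MulAut P).range := by
    ext e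
    rw [MonoidHom.mem_ker]
    constructor
    · intro he
      obtain ⟨ω, ω', hω⟩ : ∃ ω ω' : singSet P, ω ≠ ω' := by
        have h1 : 1 < Nat.card (singSet P) := by omega
        have := Finite.one_lt_card_iff_nontrivial.1 h1
        exact exists_pair_ne _
      have h1 := h.quotAutHom_eq_one_of_singHom hminus ω ω' hω e he
      obtain ⟨u, hu⟩ := (quotAutHom_eq_one_iff h hcomm e).1 h1
      refine ⟨u, ?_⟩
      ext x
      rw [MulAut.conj_apply, hu]
    · rintro ⟨u, rfl⟩
      apply Equiv.ext
      intro η
      apply Subtype.ext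
      rw [singHom_apply, quotAutHom_conj h u]
      rfl
  have hsurj : Function.Surjective (singHom (P := P)) := by
    rw [← MonoidHom.range_eq_top, eq_top_iff, ← Equiv.Perm.closure_isSwap, Subgroup.closure_le]
    rintro σ ⟨ω, ω', hω, rfl⟩
    exact h.singHom_refl hminus ω ω' hω
  have hinn : Nat.card (MulAut.conj : P →* MulAut P).range = 16 := by
    rw [← Subgroup.index_ker]
    have hk : (MulAut.conj : P →* MulAut P).ker = Subgroup.center P := by
      ext g
      rw [MonoidHom.mem_ker, Subgroup.mem_center_iff]
      constructor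
      · intro hg x
        have := DFunLike.congr_fun hg x
        rw [MulAut.conj_apply, MulAut.one_apply] at this
        calc x * g = (g * x * g⁻¹) * g := by rw [this]
          _ = g * x := by group
      · intro hg
        ext x
        rw [MulAut.conj_apply, MulAut.one_apply, ← hg x]
        group
    rw [hk]
    have := Subgroup.card_mul_index (Subgroup.center P)
    rw [h.card_center, h32] at this
    omega
  have haut : Nat.card (MulAut P) = 1920 := by
    have h1 := Subgroup.card_mul_index (singHom (P := P)).ker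
    rw [Subgroup.index_ker, hker, hinn, MonoidHom.range_eq_top.2 hsurj, Subgroup.card_top,
      Nat.card_perm, h5] at h1
    rw [← h1]
    rfl
  have e1 : MulAut P ⧸ (MulAut.conj : P →* MulAut P).range ≃*
      MulAut P ⧸ (singHom (P := P)).ker := QuotientGroup.quotientMulEquivOfEq hker.symm
  have e2 := QuotientGroup.quotientKerEquivOfSurjective (singHom (P := P)) hsurj
  have e3 : Equiv.Perm (singSet P) ≃* Equiv.Perm (Fin 5) :=
    (Finite.equivFinOfCardEq h5).permCongrHom
  exact ⟨hinn, haut, ⟨(e1.trans e2).trans e3⟩⟩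

end

end Cfsg.Agent.Lib.Helper29
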