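import Cfsg.Agent.Lib.Helper66.S3Defs

/-! # S3-TC core (helper29, leaf of helper66's S3 hive for S4305): `three_comp_false` with the leaves
T, D3, D4, D5, D7, D9 as hypotheses -/

set_option autoImplicit false

namespace Cfsg.Agent.Lib.Helper66.S3

universe u

/-! ### facts about `S₃` -/

theorem tc_f1 : ∀ a : A3, a ≠ 1 → a = sig ∨ a = sig * sig ∨ ∃ b : A3, b * a * b⁻¹ = tau := by decide

theorem tc_g1 : ∀ a c : A3, a ≠ 1 → c ≠ 1 → a ≠ c →
    sig = a ∨ sig = a * a ∨ sig = c ∨ sig = c * c ∨ sig = a * c ∨ sig = c * a := by decide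

theorem tc_cases : ∀ a : A3, a = 1 ∨ a = sig ∨ a = sig * sig ∨ a = tau ∨ a = sig * tau ∨
    a = sig * sig * tau := by decide

theorem tc_tau2 : tau * tau = 1 := by decide

theorem tc_sig3 : sig * sig * sig = 1 := by decide

section decomp

variable {H V : Type u} [Group H] [CommGroup V] [MulDistribMulAction A3 H]
  [MulDistribMulAction A3 V] [MulDistribMulAction H V] {p r : ℕ} {F : Subgroup H}

theorem tc_mem_mapA {a : A3} {C : Subgroup H} {x : H} : x ∈ mapA a C ↔ ∃ c ∈ C, a • c = x := by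
  unfold mapA
  exact Iff.rfl

theorem tc_mapA_mul (a b : A3) (C : Subgroup H) : mapA (a * b) C = mapA a (mapA b C) := by
  ext x
  rw [tc_mem_mapA, tc_mem_mapA]
  constructor
  · rintro ⟨c, hc, rfl⟩
    exact ⟨b • c, tc_mem_mapA.mpr ⟨c, hc, rfl⟩, by rw [mul_smul]⟩
  · rintro ⟨y, hy, rfl⟩
    obtain ⟨c, hc, rfl⟩ := tc_mem_mapA.mp hy
    exact ⟨c, hc, by rw [mul_smul]⟩

theorem tc_mapA_one (C : Subgroup H) : mapA (1 : A3) C = C := by
  ext x
  rw [tc_mem_mapA]
  constructor
  · rintro ⟨c, hc, rfl⟩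
    rwa [one_smul]
  · intro hx
    exact ⟨x, hx, one_smul _ _⟩

/-- the fixed points of `h` on `V` -/
def tcFix (h : H) : Subgroup V where
  carrier := {v | h • v = v}
  one_mem' := smul_one h
  mul_mem' := by
    intro x y hx hy
    show h • (x * y) = x * y
    rw [smul_mul', hx, hy]
  inv_mem' := by
    intro x hx
    show h • x⁻¹ = x⁻¹
    rw [smul_inv', hx]

/-- TC with the leaves T, D3, D4, D5, D7, D9 as hypotheses. -/
theorem tc_core (cfg : Config H V p r F)
    (hT : ∀ D : Subgroup H, D.Normal → (∀ h : H, h⁻¹ * tau • h ∈ D) →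
      (∀ h : H, h ∈ D → sig • h ∈ D → (sig * sig) • h ∈ D → h = 1) → ∀ x y : H, x * y = y * x)
    (hD3 : ∀ (C : Subgroup H) (h : H) (v : V), v ∈ comp F C → h • v ∈ comp F (mapH h C))
    (hD4 : ∀ (C : Subgroup H) (a : A3) (v : V), v ∈ comp F C → a • v ∈ comp F (mapA a C))
    (hD5 : ⨆ C : Subgroup H, comp (V := V) F C = ⊤)
    (hD7 : ∀ C C' : Subgroup H, comp (V := V) F C ≠ ⊥ → comp (V := V) F C' ≠ ⊥ →
      ∃ (a : A3) (h : H), C' = mapA a (mapH h C))
    (hD9 : ∀ C : Subgroup H, comp (V := V) F C ≠ ⊥ → ∃ a : A3, a ≠ 1 ∧ mapA a C = C ∧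
      ∀ v ∈ comp (V := V) F C, (∀ b : A3, mapA b C = C → b • v = v) → v = 1)
    (hfix : ∀ (h : H) (C : Subgroup H), comp (V := V) F C ≠ ⊥ → mapH h C = C)
    (C : Subgroup H) (hC0 : comp (V := V) F C ≠ ⊥) (hCs : mapA sig C ≠ C) : False := by
  obtain ⟨a, ha1, haC, hafpf⟩ := hD9 C hC0
  -- closure properties of the stabilizer
  have hPmul : ∀ x y : A3, mapA x C = C → mapA y C = C → mapA (x * y) C = C := by
    intro x y hx hy
    rw [tc_mapA_mul, hy, hx]
  -- the stabilizer is `{1, a}`
  have hstab : ∀ c : A3, mapA c C = C → c = 1 ∨ c = a := by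
    intro c hc
    by_contra hcon
    push Not at hcon
    obtain ⟨hc1, hca⟩ := hcon
    apply hCs
    rcases tc_g1 a c ha1 hc1 (Ne.symm hca) with h | h | h | h | h | h
    · rw [h]; exact haC
    · rw [h]; exact hPmul a a haC haC
    · rw [h]; exact hc
    · rw [h]; exact hPmul c c hc hc
    · rw [h]; exact hPmul a c haC hc
    · rw [h]; exact hPmul c a hc haC
  -- `a` is conjugate to `tau`
  obtain ⟨b, hb⟩ : ∃ b : A3, b * a * b⁻¹ = tau := by
    rcases tc_f1 a ha1 with h | h | h
    · exact absurd (h ▸ haC) hCs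
    · exfalso
      apply hCs
      have h2 : sig = a * a := by
        rw [h]
        have := tc_sig3
        calc sig = sig * (sig * sig * sig) := by rw [this, mul_one]
          _ = sig * sig * (sig * sig) := by group
      rw [h2]
      exact hPmul a a haC haC
    · exact h
  have hba : tau * b = b * a := by rw [← hb]; group
  -- the component `C₁ = b C`
  set C₁ := mapA b C with hC₁
  have htC₁ : mapA tau C₁ = C₁ := by
    rw [hC₁, ← tc_mapA_mul, hba, tc_mapA_mul, haC]
  have hbinv : mapA b⁻¹ C₁ = C := by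
    rw [hC₁, ← tc_mapA_mul, inv_mul_cancel, tc_mapA_one]
  have hC₁0 : comp (V := V) F C₁ ≠ ⊥ := by
    obtain ⟨v, hv1⟩ := (Subgroup.ne_bot_iff_exists_ne_one).mp hC0
    have hv' : (v : V) ∈ comp F C := v.2
    intro hbot
    have h1 := hD4 C b (v : V) hv'
    rw [← hC₁, hbot, Subgroup.mem_bot] at h1
    apply hv1
    have h2 : b⁻¹ • (b • (v : V)) = b⁻¹ • (1 : V) := by rw [h1]
    rw [smul_one, ← mul_smul, inv_mul_cancel, one_smul] at h2
    exact Subtype.ext h2
  -- `tau` is fixed-point-free on `W₁`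
  have htfpf : ∀ w ∈ comp (V := V) F C₁, tau • w = w → w = 1 := by
    intro w hw htw
    have hv : b⁻¹ • w ∈ comp (V := V) F C := by
      have := hD4 C₁ b⁻¹ w hw
      rwa [hbinv] at this
    have hav : a • (b⁻¹ • w) = b⁻¹ • w := by
      have ha : a = b⁻¹ * tau * b := by rw [← hb]; group
      rw [ha, ← mul_smul, mul_assoc, mul_assoc, mul_inv_cancel, mul_one, mul_smul, htw]
    have h1 := hafpf (b⁻¹ • w) hv (by
      intro c hc
      rcases hstab c hc with rfl | rfl
      · exact one_smul _ _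
      · exact hav)
    have h2 : b • (b⁻¹ • w) = b • (1 : V) := by rw [h1]
    rw [smul_one, ← mul_smul, mul_inv_cancel, one_smul] at h2
    exact h2
  -- `tau` inverts `W₁`
  have htW : ∀ w ∈ comp (V := V) F C₁, tau • w ∈ comp (V := V) F C₁ := by
    intro w hw
    have := hD4 C₁ tau w hw
    rwa [htC₁] at this
  have htinv : ∀ w ∈ comp (V := V) F C₁, tau • w = w⁻¹ := by
    intro w hw
    have hu : w * tau • w ∈ comp (V := V) F C₁ := Subgroup.mul_mem _ hw (htW w hw)
    have hfixu : tau • (w * tau • w) = w * tau • w := by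
      rw [smul_mul', ← mul_smul, tc_tau2, one_smul, mul_comm]
    have := htfpf _ hu hfixu
    exact (inv_eq_of_mul_eq_one_right this).symm
  -- `W₁` is `H`-invariant
  have hHW : ∀ h : H, ∀ w ∈ comp (V := V) F C₁, h • w ∈ comp (V := V) F C₁ := by
    intro h w hw
    have := hD3 C₁ h w hw
    rwa [hfix h C₁ hC₁0] at this
  -- the kernel of `H` on `W₁`
  set D : Subgroup H := kerOn ⊤ (comp (V := V) F C₁) with hD
  have hDmem : ∀ h : H, h ∈ D ↔ ∀ w ∈ comp (V := V) F C₁, h • w = w := by
    intro h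
    constructor
    · intro hh
      exact hh.2
    · intro hh
      exact ⟨Subgroup.mem_top h, hh⟩
  have hDn : D.Normal := by
    constructor
    intro n hn g
    rw [hDmem] at hn ⊢
    intro w hw
    have h1 := hn (g⁻¹ • w) (hHW g⁻¹ w hw)
    rw [mul_smul, mul_smul, h1, ← mul_smul, mul_inv_cancel, one_smul]
  have hDtau : ∀ h : H, h⁻¹ * tau • h ∈ D := by
    intro h
    rw [hDmem]
    intro w hw
    have h1 : (tau • h) • w = h • w := by
      have e1 : w = tau • (tau • w) := by rw [← mul_smul, tc_tau2, one_smul]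
      calc (tau • h) • w = (tau • h) • (tau • (tau • w)) := by rw [← e1]
        _ = tau • (h • (tau • w)) := (cfg.hyp.compat tau h (tau • w)).symm
        _ = tau • (h • w⁻¹) := by rw [htinv w hw]
        _ = tau • (h • w)⁻¹ := by rw [smul_inv']
        _ = ((h • w)⁻¹)⁻¹ := htinv _ (Subgroup.inv_mem _ (hHW h w hw))
        _ = h • w := inv_inv _
    rw [mul_smul, h1, ← mul_smul, inv_mul_cancel, one_smul]
  -- the three components
  have hkey : ∀ (s : A3) (h : H), s • h ∈ D → ∀ v ∈ comp (V := V) F (mapA s⁻¹ C₁), h • v = v := by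
    intro s h hsh v hv
    rw [hDmem] at hsh
    have hsv : s • v ∈ comp (V := V) F C₁ := by
      have := hD4 (mapA s⁻¹ C₁) s v hv
      rwa [← tc_mapA_mul, mul_inv_cancel, tc_mapA_one] at this
    have h1 := hsh (s • v) hsv
    rw [← cfg.hyp.compat s h v] at h1
    have h2 : s⁻¹ • (s • (h • v)) = s⁻¹ • (s • v) := by rw [h1]
    rwa [← mul_smul, ← mul_smul, inv_mul_cancel, one_smul, one_smul] at h2
  have hint : ∀ h : H, h ∈ D → sig • h ∈ D → (sig * sig) • h ∈ D → h = 1 := by
    intro h h0 h1 h2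
    apply cfg.faithful h
    -- `h` fixes the three components pointwise
    have hsiginv : sig⁻¹ = sig * sig := by
      have := tc_sig3
      calc sig⁻¹ = sig⁻¹ * (sig * sig * sig) := by rw [this, mul_one]
        _ = sig * sig := by group
    have hsig2inv : (sig * sig)⁻¹ = sig := by
      rw [← hsiginv, inv_inv]
    have k0 : ∀ v ∈ comp (V := V) F C₁, h • v = v := (hDmem h).mp h0
    have k1 : ∀ v ∈ comp (V := V) F (mapA (sig * sig) C₁), h • v = v := by
      have := hkey sig h h1
      rwa [hsiginv] at this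
    have k2 : ∀ v ∈ comp (V := V) F (mapA sig C₁), h • v = v := by
      have := hkey (sig * sig) h h2
      rwa [hsig2inv] at this
    have hle : ∀ C' : Subgroup H, comp (V := V) F C' ≤ tcFix (V := V) h := by
      intro C'
      by_cases hC' : comp (V := V) F C' = ⊥
      · rw [hC']; exact bot_le
      · obtain ⟨a', h', hC'eq⟩ := hD7 C₁ C' hC₁0 hC'
        rw [hfix h' C₁ hC₁0] at hC'eq
        have hcase : C' = C₁ ∨ C' = mapA sig C₁ ∨ C' = mapA (sig * sig) C₁ := by
          rcases tc_cases a' with rfl | rfl | rfl | rfl | rfl | rfl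
          · left; rw [hC'eq, tc_mapA_one]
          · right; left; exact hC'eq
          · right; right; exact hC'eq
          · left; rw [hC'eq, htC₁]
          · right; left; rw [hC'eq, tc_mapA_mul, htC₁]
          · right; right; rw [hC'eq, tc_mapA_mul, htC₁]
        rcases hcase with rfl | rfl | rfl
        · exact fun v hv => k0 v hv
        · exact fun v hv => k2 v hv
        · exact fun v hv => k1 v hv
    have htop : (⊤ : Subgroup V) ≤ tcFix (V := V) h := by
      rw [← hD5]
      exact iSup_le hle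
    intro v
    exact htop (Subgroup.mem_top v)
  obtain ⟨x, y, hxy⟩ := cfg.nonab
  exact hxy (hT D hDn hDtau hint x y)

end decomp

end Cfsg.Agent.Lib.Helper66.S3
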