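import Mathlib
import Cfsg.Agent.Lib.Helper29.SmallTwoA
import Cfsg.Agent.Lib.Helper1.SmallTwoChi
import Cfsg.Agent.Lib.Helper8.SmallTwoCZ
import Cfsg.Agent.Lib.Helper29.ClassTwo
import Cfsg.Agent.Lib.Helper29.GenExtraAut

/-!
# Finite 2-groups without noncyclic abelian subgroups of order 8 (part B)

Odd-order automorphisms, abelian subgroups of exponent four, and the structure of a small
`2`-group of class at most two with central squares.
-/

set_option autoImplicit false

namespace Cfsg.Agent.Lib.Helper29.SmallTwo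

open scoped commutatorElement

section aut

/-- an automorphism of odd order fixing `x⁻¹ * a x`, a `2`-element, fixes `x` -/
theorem odd_aut_fix {G : Type*} [Group G] (a : MulAut G) {m : ℕ} (hm : Odd m) (ham : a ^ m = 1)
    (x : G) (hn : a (x⁻¹ * a x) = x⁻¹ * a x) {k : ℕ} (hk : (x⁻¹ * a x) ^ 2 ^ k = 1) : a x = x := by
  set n := x⁻¹ * a x with hndef
  have hax : a x = x * n := by rw [hndef]; group
  have hpow : ∀ j : ℕ, (a ^ j) x = x * n ^ j := by
    intro j
    induction j with
    | zero => simp
    | succ j ih =>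
      rw [pow_succ', MulAut.mul_apply, ih, map_mul, map_pow, hn, hax, pow_succ']
      group
  have h1 : n ^ m = 1 := by
    have := hpow m
    rw [ham, MulAut.one_apply] at this
    exact (mul_eq_left.mp this.symm)
  have hcop : Nat.Coprime m (2 ^ k) := by
    apply Nat.Coprime.pow_right
    exact (Nat.coprime_two_right.mpr hm)
  have h2 : orderOf n ∣ 1 := by
    rw [← hcop.gcd_eq_one]
    exact Nat.dvd_gcd (orderOf_dvd_of_pow_eq_one h1) (orderOf_dvd_of_pow_eq_one hk)
  have h3 : n = 1 := orderOf_eq_one_iff.mp (Nat.dvd_one.mp h2)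
  rw [hax, h3, mul_one]

/-- an automorphism of odd order of a cyclic `2`-group is trivial -/
theorem odd_aut_cyclic {C : Type*} [Group C] [Finite C] (hC : IsPGroup 2 C) [IsCyclic C]
    (a : MulAut C) {m : ℕ} (hm : Odd m) (ham : a ^ m = 1) : a = 1 := by
  have : Fact (Nat.Prime 2) := ⟨Nat.prime_two⟩
  obtain ⟨n, hn⟩ := hC.exists_card_eq
  have hcard : ∃ j, Nat.card (MulAut C) = 2 ^ j := by
    rw [IsCyclic.card_mulAut, hn]
    rcases Nat.eq_zero_or_pos n with h0 | h0
    · exact ⟨0, by rw [h0]; simp⟩
    · exact ⟨n - 1, by rw [Nat.totient_prime_pow Nat.prime_two h0]; simp⟩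
  obtain ⟨j, hj⟩ := hcard
  have h1 : a ^ 2 ^ j = 1 := by rw [← hj]; exact pow_card_eq_one'
  have hcop : Nat.Coprime m (2 ^ j) := by
    apply Nat.Coprime.pow_right
    exact (Nat.coprime_two_right.mpr hm)
  have h2 : orderOf a ∣ 1 := by
    rw [← hcop.gcd_eq_one]
    exact Nat.dvd_gcd (orderOf_dvd_of_pow_eq_one ham) (orderOf_dvd_of_pow_eq_one h1)
  exact orderOf_eq_one_iff.mp (Nat.dvd_one.mp h2)

/-- powers of an automorphism preserve an invariant subgroup -/
theorem pow_mem_of_inv {P : Type*} [Group P] (N : Subgroup P) (a : MulAut P)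
    (hinv : ∀ x ∈ N, a x ∈ N) (j : ℕ) : ∀ x ∈ N, (a ^ j) x ∈ N := by
  induction j with
  | zero => intro x hx; simpa using hx
  | succ j ih =>
    intro x hx
    rw [pow_succ', MulAut.mul_apply]
    exact hinv _ (ih x hx)

/-- an automorphism of odd order is trivial on an invariant cyclic `2`-subgroup -/
theorem odd_aut_cyclic_sub {P : Type*} [Group P] [Finite P] (N : Subgroup P) (hN : IsPGroup 2 N)
    (hc : IsCyclic N) (a : MulAut P) (hinv : ∀ x ∈ N, a x ∈ N) {m : ℕ} (hm : Odd m)
    (ham : a ^ m = 1) : ∀ x ∈ N, a x = x := by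
  have hmpos : 0 < m := hm.pos
  have hinv' : ∀ α ∈ Subgroup.zpowers a, ∀ x ∈ N, α x ∈ N := by
    intro α hα x hx
    have hfin : IsOfFinOrder a := isOfFinOrder_iff_pow_eq_one.mpr ⟨m, hmpos, ham⟩
    rw [← hfin.mem_powers_iff_mem_zpowers] at hα
    obtain ⟨j, rfl⟩ := hα
    exact pow_mem_of_inv N a hinv j x hx
  let r := Cfsg.Agent.Lib.Helper29.GenExtraAut.resAutHom (Subgroup.zpowers a) N hinv'
  let a' : Subgroup.zpowers a := ⟨a, Subgroup.mem_zpowers a⟩
  have h1 : (r a') ^ m = 1 := by
    rw [← map_pow]
    have : a' ^ m = 1 := Subtype.ext (by simpa using ham)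
    rw [this, map_one]
  have h2 : r a' = 1 := odd_aut_cyclic hN (r a') hm h1
  intro x hx
  have h3 := Cfsg.Agent.Lib.Helper29.GenExtraAut.resAutHom_apply (Subgroup.zpowers a) N hinv' a' ⟨x, hx⟩
  rw [show Cfsg.Agent.Lib.Helper29.GenExtraAut.resAutHom (Subgroup.zpowers a) N hinv' a' = 1 from h2] at h3
  simpa using h3.symm

end aut

section tools

variable {P : Type*} [Group P]

/-- the subgroup generated by a set of pairwise commuting elements is commutative -/
theorem comm_closure (s : Set P) (hs : ∀ a ∈ s, ∀ b ∈ s, a * b = b * a) :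
    ∀ a ∈ Subgroup.closure s, ∀ b ∈ Subgroup.closure s, a * b = b * a := by
  intro a ha b hb
  have h := Subgroup.isMulCommutative_closure hs
  have := h.is_comm.comm (⟨a, ha⟩ : Subgroup.closure s) ⟨b, hb⟩
  exact congrArg Subtype.val this

/-- the subgroup generated by a central subgroup and one element is commutative -/
theorem comm_sup_zpowers (Z : Subgroup P) (hZ : Z ≤ Subgroup.center P) (x : P) :
    ∀ a ∈ Z ⊔ Subgroup.zpowers x, ∀ b ∈ Z ⊔ Subgroup.zpowers x, a * b = b * a := by
  have h : Z ⊔ Subgroup.zpowers x = Subgroup.closure ((Z : Set P) ∪ {x}) := by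
    rw [Subgroup.closure_union, Subgroup.closure_eq, Subgroup.zpowers_eq_closure]
  rw [h]
  apply comm_closure
  intro a ha b hb
  rcases ha with ha | ha
  · exact (Subgroup.mem_center_iff.mp (hZ ha) b).symm
  · rcases hb with hb | hb
    · exact Subgroup.mem_center_iff.mp (hZ hb) a
    · rw [Set.mem_singleton_iff] at ha hb
      rw [ha, hb]

/-- a commutative subgroup of exponent dividing four of a small `2`-group has order at most
four -/
theorem card_le_four_of_exp [Finite P] (hP : IsPGroup 2 P) (hs : NoAb8 P) (D : Subgroup P)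
    (hD : ∀ a ∈ D, ∀ b ∈ D, a * b = b * a) (h4 : ∀ a ∈ D, a ^ 4 = 1) : Nat.card D ≤ 4 := by
  rcases hs.abelian_sub hP D hD with h | h
  · exact card_le_four_of_cyclic h (fun x => Subtype.ext (by simpa using h4 x x.2))
  · exact h

/-- in a small `2`-group, an element of exponent four commuting with an element `n` of order four
is a power of `n` -/
theorem mem_zpowers_of_commute_of_pow_four [Finite P] (hP : IsPGroup 2 P) (hs : NoAb8 P)
    {n v : P} (hn : orderOf n = 4) (hnv : n * v = v * n) (hv : v ^ 4 = 1) :
    v ∈ Subgroup.zpowers n := by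
  set D := Subgroup.closure ({n, v} : Set P) with hDdef
  have hcomm : ∀ a ∈ ({n, v} : Set P), ∀ b ∈ ({n, v} : Set P), a * b = b * a := by
    intro a ha b hb
    rcases ha with rfl | ha <;> rcases hb with rfl | hb
    · rfl
    · rw [Set.mem_singleton_iff] at hb; rw [hb, hnv]
    · rw [Set.mem_singleton_iff] at ha; rw [ha, hnv]
    · rw [Set.mem_singleton_iff] at ha hb; rw [ha, hb]
  have hDc := comm_closure _ hcomm
  have hn4 : n ^ 4 = 1 := by rw [← hn]; exact pow_orderOf_eq_one n
  have hD4 : ∀ a ∈ D, a ^ 4 = 1 := by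
    intro a ha
    induction ha using Subgroup.closure_induction with
    | mem x hx =>
      rcases hx with rfl | hx
      · exact hn4
      · rw [Set.mem_singleton_iff] at hx; rw [hx]; exact hv
    | one => exact one_pow 4
    | mul x y hx hy ihx ihy =>
      rw [(show Commute x y from hDc x hx y hy).mul_pow, ihx, ihy, one_mul]
    | inv x _ ihx => rw [inv_pow, ihx, inv_one]
  have hle : Subgroup.zpowers n ≤ D := by
    rw [Subgroup.zpowers_le]
    exact Subgroup.subset_closure (Set.mem_insert _ _)
  have hcard : Nat.card D ≤ Nat.card (Subgroup.zpowers n) := by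
    rw [Nat.card_zpowers, hn]
    exact card_le_four_of_exp hP hs D hDc hD4
  have heq : Subgroup.zpowers n = D := Subgroup.eq_of_le_of_card_ge hle hcard
  rw [heq]
  exact Subgroup.subset_closure (Set.mem_insert_of_mem _ rfl)

end tools

section lemmaA

variable {P : Type*} [Group P]

theorem comm_mem_center_of_le (hle : commutator P ≤ Subgroup.center P) (x y : P) :
    ⁅x, y⁆ ∈ Subgroup.center P := by
  apply hle
  rw [commutator_def]
  exact Subgroup.commutator_mem_commutator (Subgroup.mem_top x) (Subgroup.mem_top y)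

theorem card_lt_of_lt [Finite P] {H K : Subgroup P} (h : H < K) : Nat.card H < Nat.card K := by
  by_contra hc
  push Not at hc
  exact (ne_of_lt h) (Subgroup.eq_of_le_of_card_ge (le_of_lt h) hc)

/-- a power of two below four is at most two -/
theorem two_pow_lt_four {j : ℕ} (h : 2 ^ j < 4) : j ≤ 1 := by
  by_contra hj
  push Not at hj
  have : 2 ^ 2 ≤ 2 ^ j := Nat.pow_le_pow_right (by norm_num) hj
  omega

/-- a group of order `2 ^ k` with `k ≤ 2` is commutative -/
theorem comm_of_card_le_four [Finite P] {k : ℕ} (hk : k ≤ 2) (hc : Nat.card P = 2 ^ k) :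
    ∀ x y : P, x * y = y * x := by
  have : Fact (Nat.Prime 2) := ⟨Nat.prime_two⟩
  interval_cases k
  · have : Subsingleton P := by
      rw [← Finite.card_le_one_iff_subsingleton, hc]; norm_num
    intro x y
    rw [Subsingleton.elim x 1, Subsingleton.elim y 1]
  · have hc' : Nat.card P = 2 := by rw [hc]; norm_num
    have := isCyclic_of_prime_card hc'
    intro x y
    obtain ⟨g, hg⟩ := IsCyclic.exists_generator (α := P)
    obtain ⟨i, rfl⟩ := Subgroup.mem_zpowers_iff.mp (hg x)
    obtain ⟨i', rfl⟩ := Subgroup.mem_zpowers_iff.mp (hg y)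
    rw [← zpow_add, ← zpow_add, add_comm]
  · exact (IsPGroup.isMulCommutative_of_card_eq_prime_sq (p := 2) hc).is_comm.comm

/-- **Lemma A**: a small `2`-group of class at most two with central squares is commutative or
has order eight with centre of order two. -/
theorem lemmaA [Finite P] (hP : IsPGroup 2 P) (hs : NoAb8 P)
    (hle : commutator P ≤ Subgroup.center P) (hsq : ∀ x : P, x ^ 2 ∈ Subgroup.center P) :
    (∀ x y : P, x * y = y * x) ∨ (Nat.card P = 8 ∧ Nat.card (Subgroup.center P) = 2) := by
  by_contra hcon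
  push Not at hcon
  obtain ⟨⟨x₀, y₀, hxy⟩, hcard⟩ := hcon
  have : Fact (Nat.Prime 2) := ⟨Nat.prime_two⟩
  have hZab : ∀ a ∈ Subgroup.center P, ∀ b ∈ Subgroup.center P, a * b = b * a :=
    fun a ha b _ => (Subgroup.mem_center_iff.mp ha b).symm
  obtain ⟨j, hj⟩ := (hP.to_subgroup (Subgroup.center P)).exists_card_eq
  have hx₀ : x₀ ∉ Subgroup.center P := fun h => hxy (Subgroup.mem_center_iff.mp h y₀).symm
  by_cases hcyc : IsCyclic (Subgroup.center P)
  · by_cases h4 : 4 ≤ Nat.card (Subgroup.center P)
    · -- an element of order four in the centre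
      have hj2 : 2 ≤ j := by
        by_contra h; push Not at h
        have : 2 ^ j ≤ 2 ^ 1 := Nat.pow_le_pow_right (by norm_num) (by omega)
        omega
      obtain ⟨g, hg⟩ := hcyc.exists_generator
      have hgo : orderOf g = 2 ^ j := by
        rw [← hj]; exact orderOf_eq_card_of_forall_mem_zpowers hg
      have hno : orderOf (g ^ 2 ^ (j - 2)) = 4 := by
        rw [orderOf_pow_of_dvd (by positivity) (by rw [hgo]; exact pow_dvd_pow 2 (by omega)), hgo,
          Nat.pow_div (by omega) (by norm_num)]
        have : j - (j - 2) = 2 := by omega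
        rw [this]
      set n : P := ((g ^ 2 ^ (j - 2) : Subgroup.center P) : P) with hn
      have hnZ : n ∈ Subgroup.center P := (g ^ 2 ^ (j - 2)).2
      have hn4 : orderOf n = 4 := by rw [hn, Subgroup.orderOf_coe, hno]
      apply hxy
      apply Cfsg.Agent.Lib.Helper8.SmallTwoCZ.comm_of_cyclic_center hP (comm_mem_center_of_le hle) hsq hcyc
      intro v hv
      have := mem_zpowers_of_commute_of_pow_four hP hs hn4
        ((Subgroup.mem_center_iff.mp hnZ v).symm) hv
      exact (Subgroup.zpowers_le.mpr hnZ) this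
    · push Not at h4
      rw [hj] at h4
      have hj1 := two_pow_lt_four h4
      have hjne : j ≠ 0 := by
        intro h0
        have : Nontrivial P := ⟨⟨x₀, y₀, fun e => hxy (by rw [e])⟩⟩
        have := hP.center_nontrivial
        rw [h0, pow_zero] at hj
        have h1 := Finite.one_lt_card (α := Subgroup.center P)
        omega
      have hj' : j = 1 := by omega
      have hZ2 : Nat.card (Subgroup.center P) = 2 := by rw [hj, hj']; norm_num
      have hx4 : ∀ x : P, x ^ 4 = 1 := by
        intro x
        have h1 : (⟨x ^ 2, hsq x⟩ : Subgroup.center P) ^ 2 = 1 := by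
          have := pow_card_eq_one' (G := Subgroup.center P) (x := ⟨x ^ 2, hsq x⟩)
          rwa [hZ2] at this
        have h2 := congrArg Subtype.val h1
        simp only [Subgroup.coe_pow, Subgroup.coe_one] at h2
        rw [show (4 : ℕ) = 2 * 2 from rfl, pow_mul]
        exact h2
      have h8 := card_le_eight hP hs hx4
      obtain ⟨k, hk⟩ := hP.exists_card_eq
      have hk3 : k ≤ 3 := by
        by_contra h; push Not at h
        have : 2 ^ 4 ≤ 2 ^ k := Nat.pow_le_pow_right (by norm_num) h
        omega
      rcases Nat.lt_or_ge k 3 with hk2 | hk2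
      · exact hxy (comm_of_card_le_four (by omega) hk x₀ y₀)
      · have hk' : k = 3 := by omega
        exact hcard (by rw [hk, hk']; norm_num) hZ2
  · -- noncyclic centre
    have hD := comm_sup_zpowers (Subgroup.center P) le_rfl x₀
    have hlt : Subgroup.center P < Subgroup.center P ⊔ Subgroup.zpowers x₀ := by
      apply lt_of_le_of_ne le_sup_left
      intro e
      apply hx₀
      rw [e]
      exact (le_sup_right : Subgroup.zpowers x₀ ≤ _) (Subgroup.mem_zpowers x₀)
    rcases hs.abelian_sub hP _ hD with hc | hc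
    · exact hcyc (Subgroup.isCyclic_of_le (le_of_lt hlt))
    · have hlt' : Nat.card (Subgroup.center P) < Nat.card ↥(Subgroup.center P ⊔ Subgroup.zpowers x₀) :=
        card_lt_of_lt hlt
      have h4 : 2 ^ j < 4 := by rw [← hj]; omega
      have hj1 := two_pow_lt_four h4
      apply hcyc
      have hjcases : j = 0 ∨ j = 1 := by omega
      rcases hjcases with h0 | h1
      · have : Subsingleton (Subgroup.center P) := by
          rw [← Finite.card_le_one_iff_subsingleton, hj, h0]; norm_num
        exact isCyclic_of_subsingleton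
      · exact isCyclic_of_prime_card (p := 2) (by rw [hj, h1]; norm_num)

end lemmaA

end Cfsg.Agent.Lib.Helper29.SmallTwo
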