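import Mathlib
import Cfsg.Agent.Lib.Helper29.SmallTwoB
import Cfsg.Agent.Lib.Helper80.SmallTwoQ8D8
import Cfsg.Agent.Lib.Helper49.SmallTwoV4
import Cfsg.Agent.Lib.Helper25.SmallTwoCyc

/-!
# A group with a small self-centralizing normal `2`-subgroup of class at most two

Such a group is a `2`-group or has no noncyclic abelian subgroup of order eight.
-/

set_option autoImplicit false

namespace Cfsg.Agent.Lib.Helper29.SmallTwo

/-- **Lemma B** -/
theorem twoGroup_or_noAb8 {S : Type*} [Group S] [Finite S] (H : Subgroup S) [H.Normal]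
    (hH2 : IsPGroup 2 H) (hC : Subgroup.centralizer (H : Set S) ≤ H)
    (hle : commutator H ≤ Subgroup.center H) (hsq : ∀ x : H, x ^ 2 ∈ Subgroup.center H)
    (hs : NoAb8 H) : IsPGroup 2 S ∨ NoAb8 S := by
  have : Fact (Nat.Prime 2) := ⟨Nat.prime_two⟩
  rcases lemmaA hH2 hs hle hsq with hc | ⟨h8, hZ2⟩
  · by_cases hcyc : IsCyclic H
    · left
      exact Cfsg.Agent.Lib.Helper25.SmallTwo.isPGroup_of_normal_cyclic H hH2 hcyc hC
    · right
      rcases cyclic_or_card_le hH2 hs hc with hcyc' | h4
      · exact absurd hcyc' hcyc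
      · obtain ⟨j, hj⟩ := hH2.exists_card_eq
        have hj2 : j ≤ 2 := by
          by_contra h; push Not at h
          have : 2 ^ 3 ≤ 2 ^ j := Nat.pow_le_pow_right (by norm_num) h
          omega
        have hj' : j = 2 := by
          by_contra hne
          apply hcyc
          have hjcases : j = 0 ∨ j = 1 := by omega
          rcases hjcases with h0 | h1
          · have : Subsingleton H := by
              rw [← Finite.card_le_one_iff_subsingleton, hj, h0]; norm_num
            exact isCyclic_of_subsingleton
          · exact isCyclic_of_prime_card (p := 2) (by rw [hj, h1]; norm_num)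
        have hH4 : Nat.card H = 4 := by rw [hj, hj']; norm_num
        intro A hA hA8
        exact (Cfsg.Agent.Lib.Helper49.SmallTwo.false_of_normal_four H hH4 hC A hA hA8).elim
  · right
    intro A hA hA8
    exact Cfsg.Agent.Lib.Helper80.SmallTwoQ8D8.cyclic_of_normal_nonabelian_eight H h8 hZ2 hC A hA hA8

end Cfsg.Agent.Lib.Helper29.SmallTwo
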