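import Mathlib

/-!
# Maschke via the norm map

An odd-order group acting on a `2`-group `P` whose quotient by a central `⟨z⟩` is elementary
abelian: an invariant "complement" modulo `⟨z⟩` to a subgroup on which the action is trivial
modulo `⟨z⟩`.
-/

set_option autoImplicit false

namespace Cfsg.Agent.Lib.Helper29.SmallTwo

open scoped commutatorElement

theorem exists_invariant_complement {P L : Type*} [Group P] [Finite P] [Group L] [Finite L]
    (hL : Odd (Nat.card L)) (φ : L →* MulAut P) (z : P) (hz : z ∈ Subgroup.center P)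
    (hcomm : ∀ x y : P, ⁅x, y⁆ ∈ Subgroup.zpowers z) (hsq : ∀ x : P, x ^ 2 ∈ Subgroup.zpowers z)
    (hφz : ∀ l, φ l z = z) (Z : Subgroup P)
    (hZ : ∀ u ∈ Z, ∀ l, u⁻¹ * φ l u ∈ Subgroup.zpowers z) :
    ∃ Y : Subgroup P, (∀ l, ∀ x ∈ Y, φ l x ∈ Y) ∧ z ∈ Y ∧ (∀ u ∈ Z, u ∈ Y → u ∈ Subgroup.zpowers z) ∧
      (∀ (l : L) (x : P), x⁻¹ * φ l x ∈ Y) := by
  classical
  have hN : (Subgroup.zpowers z).Normal := by
    refine ⟨fun n hn g => ?_⟩
    have hc : n ∈ Subgroup.center P := (Subgroup.zpowers_le.mpr hz) hn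
    rw [Subgroup.mem_center_iff.mp hc g, mul_inv_cancel_right]
    exact hn
  let V := P ⧸ Subgroup.zpowers z
  let π : P →* V := QuotientGroup.mk' (Subgroup.zpowers z)
  have hπ : ∀ x : P, π x = 1 ↔ x ∈ Subgroup.zpowers z := fun x => QuotientGroup.eq_one_iff x
  let _ : CommGroup V :=
    { (inferInstance : Group V) with
      mul_comm := by
        intro a b
        obtain ⟨x, rfl⟩ := QuotientGroup.mk'_surjective (Subgroup.zpowers z) a
        obtain ⟨y, rfl⟩ := QuotientGroup.mk'_surjective (Subgroup.zpowers z) b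
        have h1 : π ⁅x, y⁆ = 1 := (hπ _).mpr (hcomm x y)
        rw [commutatorElement_def, map_mul, map_mul, map_mul, map_inv, map_inv] at h1
        have : π x * π y = π y * π x := by
          calc π x * π y = (π x * π y * (π x)⁻¹ * (π y)⁻¹) * (π y * π x) := by group
            _ = π y * π x := by rw [h1, one_mul]
        exact this }
  have := Fintype.ofFinite L
  let ν : P →* V := ∏ l : L, π.comp (φ l).toMonoidHom
  have hν : ∀ x : P, ν x = ∏ l : L, π (φ l x) := by
    intro x
    simp only [ν, MonoidHom.finsetProd_apply]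
    rfl
  have hνinv : ∀ (m : L) (x : P), ν (φ m x) = ν x := by
    intro m x
    rw [hν, hν]
    apply Fintype.prod_equiv (Equiv.mulRight m)
    intro l
    simp [map_mul, MulAut.mul_apply]
  refine ⟨ν.ker, ?_, ?_, ?_, ?_⟩
  · intro l x hx
    rw [MonoidHom.mem_ker] at hx ⊢
    rw [hνinv, hx]
  · rw [MonoidHom.mem_ker, hν]
    apply Finset.prod_eq_one
    intro l _
    rw [hφz l, hπ]
    exact Subgroup.mem_zpowers z
  · intro u hu huY
    rw [MonoidHom.mem_ker, hν] at huY
    have h1 : ∀ l : L, π (φ l u) = π u := by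
      intro l
      have := (hπ _).mpr (hZ u hu l)
      rw [map_mul, map_inv] at this
      exact (inv_mul_eq_one.mp this).symm
    simp only [h1, Finset.prod_const, Finset.card_univ] at huY
    have h2 : π u ^ 2 = 1 := by rw [← map_pow, hπ]; exact hsq u
    rw [← Nat.card_eq_fintype_card] at huY
    obtain ⟨k, hk⟩ := hL
    rw [hk, pow_succ, pow_mul, h2, one_pow, one_mul] at huY
    exact (hπ u).mp huY
  · intro l x
    rw [MonoidHom.mem_ker, map_mul, map_inv, hνinv, inv_mul_cancel]

end Cfsg.Agent.Lib.Helper29.SmallTwo
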