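import Mathlib
import Cfsg.Agent.Lib.Helper29.SmallTwoB
import Cfsg.Agent.Lib.Helper29.SmallTwoNorm
import Cfsg.Agent.Lib.Helper49.SmallTwoD8
import Cfsg.Agent.Lib.Helper29.ExtraTwoBuild
import Cfsg.Agent.Lib.Helper29.ExtraTwoIso
import Cfsg.Agent.Lib.Helper29.ExtraTwoRank

/-!
# The main type-level theorem for S4409

A `2`-group `P` of class at most two with central squares, acted on nontrivially by a group `L` of
odd order such that every proper `L`-invariant subgroup is small, is commutative, extraspecial,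
`Q₈ ∘ Z` with `|Z| = 4`, or special with centre of order four.
-/

set_option autoImplicit false

namespace Cfsg.Agent.Lib.Helper29.SmallTwo

open scoped commutatorElement
open Cfsg.Agent.Lib.Helper29

section transfer

variable {P : Type*} [Group P]

theorem sub_class (M : Subgroup P) (hle : commutator P ≤ Subgroup.center P) :
    commutator M ≤ Subgroup.center M := by
  rw [commutator_eq_closure, Subgroup.closure_le]
  rintro _ ⟨a, b, rfl⟩
  rw [SetLike.mem_coe, Subgroup.mem_center_iff]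
  intro g
  apply Subtype.ext
  have h := Subgroup.mem_center_iff.mp (comm_mem_center_of_le hle (a : P) (b : P)) (g : P)
  simpa [commutatorElement_def] using h

theorem sub_sq (M : Subgroup P) (hsq : ∀ x : P, x ^ 2 ∈ Subgroup.center P) :
    ∀ x : M, x ^ 2 ∈ Subgroup.center M := by
  intro x
  rw [Subgroup.mem_center_iff]
  intro g
  apply Subtype.ext
  have h := Subgroup.mem_center_iff.mp (hsq (x : P)) (g : P)
  simpa using h

theorem aut_mem_center (a : MulAut P) {w : P} (hw : w ∈ Subgroup.center P) :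
    a w ∈ Subgroup.center P := by
  rw [Subgroup.mem_center_iff]
  intro g
  have h := Subgroup.mem_center_iff.mp hw (a⁻¹ g)
  have h2 := congrArg a h
  simpa using h2

theorem hom_pow_card {L : Type*} [Group L] [Finite L] (φ : L →* MulAut P) (l : L) :
    (φ l) ^ Nat.card L = 1 := by
  rw [← map_pow, pow_card_eq_one', map_one]

end transfer

section cyc

variable {C : Type*} [Group C] [Finite C]

theorem exists_orderOf_four (hC : IsPGroup 2 C) (hcyc : IsCyclic C) (h4 : 4 ≤ Nat.card C) :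
    ∃ n : C, orderOf n = 4 := by
  have : Fact (Nat.Prime 2) := ⟨Nat.prime_two⟩
  obtain ⟨j, hj⟩ := hC.exists_card_eq
  have hj2 : 2 ≤ j := by
    by_contra h; push Not at h
    have : 2 ^ j ≤ 2 ^ 1 := Nat.pow_le_pow_right (by norm_num) (by omega)
    omega
  obtain ⟨g, hg⟩ := hcyc.exists_generator
  have hgo : orderOf g = 2 ^ j := by
    rw [← hj]; exact orderOf_eq_card_of_forall_mem_zpowers hg
  refine ⟨g ^ 2 ^ (j - 2), ?_⟩
  rw [orderOf_pow_of_dvd (by positivity) (by rw [hgo]; exact pow_dvd_pow 2 (by omega)), hgo,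
    Nat.pow_div (by omega) (by norm_num)]
  have : j - (j - 2) = 2 := by omega
  rw [this]

theorem exists_pow_four_ne_one (hcyc : IsCyclic C) (h8 : 8 ≤ Nat.card C) :
    ∃ g : C, g ^ 4 ≠ 1 := by
  obtain ⟨g, hg⟩ := hcyc.exists_generator
  have hgo : orderOf g = Nat.card C := orderOf_eq_card_of_forall_mem_zpowers hg
  exact ⟨g, pow_ne_one_of_lt_orderOf (by norm_num) (by omega)⟩

end cyc

section T3

variable {P : Type*} [Group P]

theorem cm_sq_eq_one (hle : commutator P ≤ Subgroup.center P)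
    (hsq : ∀ x : P, x ^ 2 ∈ Subgroup.center P) (x y : P) : (cm y x) ^ 2 = 1 := by
  rw [← cm_pow_left hle y x 2, cm_eq_one_iff]
  exact (Subgroup.mem_center_iff.mp (hsq y) x).symm

theorem mul_pow_four (hle : commutator P ≤ Subgroup.center P)
    (hsq : ∀ x : P, x ^ 2 ∈ Subgroup.center P) (x y : P) : (x * y) ^ 4 = x ^ 4 * y ^ 4 := by
  rw [mul_pow_classTwo hle x y 4]
  have : Nat.choose 4 2 = 2 * 3 := by decide
  rw [this, pow_mul, cm_sq_eq_one hle hsq, one_pow, mul_one]

/-- the elements of exponent four -/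
def powFourSub (hle : commutator P ≤ Subgroup.center P)
    (hsq : ∀ x : P, x ^ 2 ∈ Subgroup.center P) : Subgroup P where
  carrier := {x | x ^ 4 = 1}
  one_mem' := one_pow 4
  mul_mem' := by
    intro a b ha hb
    show (a * b) ^ 4 = 1
    rw [mul_pow_four hle hsq, show a ^ 4 = 1 from ha, show b ^ 4 = 1 from hb, one_mul]
  inv_mem' := by
    intro a ha
    show a⁻¹ ^ 4 = 1
    rw [inv_pow, show a ^ 4 = 1 from ha, inv_one]

theorem mem_powFourSub (hle : commutator P ≤ Subgroup.center P)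
    (hsq : ∀ x : P, x ^ 2 ∈ Subgroup.center P) (x : P) :
    x ∈ powFourSub hle hsq ↔ x ^ 4 = 1 := Iff.rfl

/-- **Cyclic centre of order at least eight is impossible** (for a noncommutative group). -/
theorem comm_of_cyclic_center_ge_eight [Finite P] {L : Type*} [Group L] (hP : IsPGroup 2 P)
    (φ : L →* MulAut P) (hle : commutator P ≤ Subgroup.center P)
    (hsq : ∀ x : P, x ^ 2 ∈ Subgroup.center P)
    (hsmall : ∀ M : Subgroup P, M ≠ ⊤ → (∀ l : L, ∀ x ∈ M, φ l x ∈ M) → NoAb8 M)
    (hcyc : IsCyclic (Subgroup.center P)) (h8 : 8 ≤ Nat.card (Subgroup.center P)) :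
    ∀ x y : P, x * y = y * x := by
  set E := powFourSub hle hsq with hE
  have hEinv : ∀ l : L, ∀ x ∈ E, φ l x ∈ E := by
    intro l x hx
    rw [mem_powFourSub] at hx ⊢
    rw [← map_pow, hx, map_one]
  have hEne : E ≠ ⊤ := by
    intro e
    obtain ⟨g, hg⟩ := exists_pow_four_ne_one hcyc h8
    apply hg
    have : (g : P) ∈ E := by rw [e]; exact Subgroup.mem_top _
    rw [mem_powFourSub] at this
    exact Subtype.ext (by simpa using this)
  have hEs := hsmall E hEne hEinv
  obtain ⟨n, hn⟩ := exists_orderOf_four (hP.to_subgroup _) hcyc (by omega)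
  have hn4 : (n : P) ^ 4 = 1 := by
    have := pow_orderOf_eq_one n
    rw [hn] at this
    have h2 := congrArg Subtype.val this
    simpa using h2
  have hnE : (n : P) ∈ E := hn4
  have hnoE : orderOf (⟨(n : P), hnE⟩ : E) = 4 := by
    rw [← Subgroup.orderOf_coe, Subgroup.coe_mk, Subgroup.orderOf_coe, hn]
  apply Cfsg.Agent.Lib.Helper8.SmallTwoCZ.comm_of_cyclic_center hP (comm_mem_center_of_le hle) hsq hcyc
  intro v hv
  have hvE : v ∈ E := hv
  have hcomm : (⟨(n : P), hnE⟩ : E) * ⟨v, hvE⟩ = ⟨v, hvE⟩ * ⟨(n : P), hnE⟩ :=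
    Subtype.ext (Subgroup.mem_center_iff.mp n.2 v).symm
  have hv4 : (⟨v, hvE⟩ : E) ^ 4 = 1 := Subtype.ext (by simpa using hv)
  have h1 := mem_zpowers_of_commute_of_pow_four (hP.to_subgroup E) hEs hnoE hcomm hv4
  obtain ⟨i, hi⟩ := Subgroup.mem_zpowers_iff.mp h1
  have h2 := congrArg Subtype.val hi
  simp only [Subgroup.coe_zpow] at h2
  rw [← h2]
  exact Subgroup.zpow_mem _ n.2 i

end T3

section T2

variable {P : Type*} [Group P]

/-- **Centre of order two**: extraspecial of order at least `32`. -/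
theorem extraspecial_of_center_two [Finite P] (hle : commutator P ≤ Subgroup.center P)
    (hZ2 : Nat.card (Subgroup.center P) = 2) (hna : ∃ x y : P, x * y ≠ y * x)
    (h8 : ¬ NoAb8 P) : Cfsg.IsExtraspecial 2 P ∧ 32 ≤ Nat.card P := by
  have : Fact (Nat.Prime 2) := ⟨Nat.prime_two⟩
  obtain ⟨z, hE2⟩ := IsE2.exists_of_card hZ2 hle
  have hex := hE2.isExtraspecial hna
  refine ⟨hex, ?_⟩
  obtain ⟨n, hn1, hcard⟩ := card_extraspecial hex
  rcases Nat.lt_or_ge n 2 with hn | hn
  · exfalso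
    have hn' : n = 1 := by omega
    rw [hn'] at hcard
    apply h8
    intro A hA hA8
    exfalso
    have htop : A = ⊤ := by
      rw [← Subgroup.card_eq_iff_eq_top, hA8, hcard]; norm_num
    obtain ⟨x, y, hxy⟩ := hna
    apply hxy
    have hx : x ∈ A := by rw [htop]; exact Subgroup.mem_top x
    have hy : y ∈ A := by rw [htop]; exact Subgroup.mem_top y
    have := hA.is_comm.comm (⟨x, hx⟩ : A) ⟨y, hy⟩
    exact congrArg Subtype.val this
  · rw [hcard]
    calc 32 = 2 ^ 5 := by norm_num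
      _ ≤ 2 ^ (2 * n + 1) := Nat.pow_le_pow_right (by norm_num) (by omega)

end T2

section T5

/-- the setting of the case `|Z(P)| = 4`, `|P'| = 2` -/
structure Ctx (P L : Type*) [Group P] [Group L] (φ : L →* MulAut P) (z : P) : Prop where
  hP : IsPGroup 2 P
  hL : Odd (Nat.card L)
  hle : commutator P ≤ Subgroup.center P
  hsq : ∀ x : P, x ^ 2 ∈ Subgroup.center P
  hsmall : ∀ M : Subgroup P, M ≠ ⊤ → (∀ l : L, ∀ x ∈ M, φ l x ∈ M) → NoAb8 M
  hnt : ∃ (l : L) (x : P), φ l x ≠ x
  hna : ∃ x y : P, x * y ≠ y * x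
  hZ4 : Nat.card (Subgroup.center P) = 4
  hzc : z ∈ Subgroup.center P
  hz1 : z ≠ 1
  hz2 : z * z = 1
  hcm : ∀ x y : P, cm x y = 1 ∨ cm x y = z
  hzfix : ∀ l : L, φ l z = z

namespace Ctx

variable {P L : Type*} [Group P] [Group L] {φ : L →* MulAut P} {z : P}

theorem mem_zz (h : Ctx P L φ z) {w : P} : w ∈ Subgroup.zpowers z ↔ w = 1 ∨ w = z := by
  constructor
  · exact mem_zpowers_of_sq h.hz2 w
  · rintro (rfl | rfl)
    · exact Subgroup.one_mem _
    · exact Subgroup.mem_zpowers _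

theorem zz_le (h : Ctx P L φ z) : Subgroup.zpowers z ≤ Subgroup.center P :=
  Subgroup.zpowers_le.mpr h.hzc

theorem sq_of_mem_zz (h : Ctx P L φ z) {w : P} (hw : w ∈ Subgroup.zpowers z) : w * w = 1 := by
  rcases h.mem_zz.mp hw with rfl | rfl
  · exact one_mul 1
  · exact h.hz2

theorem fix_of_mem_zz (h : Ctx P L φ z) (l : L) {w : P} (hw : w ∈ Subgroup.zpowers z) :
    φ l w = w := by
  rcases h.mem_zz.mp hw with rfl | rfl
  · exact map_one _
  · exact h.hzfix l

theorem cm_mem_zz (h : Ctx P L φ z) (x y : P) : cm x y ∈ Subgroup.zpowers z :=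
  h.mem_zz.mpr (h.hcm x y)

theorem card_zz (h : Ctx P L φ z) : Nat.card (Subgroup.zpowers z) = 2 := by
  rw [Nat.card_zpowers]
  exact orderOf_eq_prime (by rw [pow_two]; exact h.hz2) h.hz1

theorem relIndex_zz [Finite P] (h : Ctx P L φ z) :
    (Subgroup.zpowers z).relIndex (Subgroup.center P) = 2 := by
  have h1 := card_mul_relIndex h.zz_le
  rw [h.card_zz, h.hZ4] at h1
  omega

/-- the key parity rule in the centre -/
theorem mul_mem_zz_iff [Finite P] (h : Ctx P L φ z) {a b : P} (ha : a ∈ Subgroup.center P)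
    (hb : b ∈ Subgroup.center P) :
    a * b ∈ Subgroup.zpowers z ↔ (a ∈ Subgroup.zpowers z ↔ b ∈ Subgroup.zpowers z) := by
  have h2 : ((Subgroup.zpowers z).subgroupOf (Subgroup.center P)).index = 2 := h.relIndex_zz
  have := Subgroup.mul_mem_iff_of_index_two h2 (a := ⟨a, ha⟩) (b := ⟨b, hb⟩)
  simpa [Subgroup.mem_subgroupOf] using this

theorem sq_mem_zz_of_center [Finite P] (h : Ctx P L φ z) {w : P} (hw : w ∈ Subgroup.center P) :
    w ^ 2 ∈ Subgroup.zpowers z := by
  rw [pow_two, h.mul_mem_zz_iff hw hw]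

theorem aut_mem_zz_iff (h : Ctx P L φ z) (l : L) {w : P} :
    φ l w ∈ Subgroup.zpowers z ↔ w ∈ Subgroup.zpowers z := by
  constructor
  · intro hw
    have h1 := h.fix_of_mem_zz l⁻¹ hw
    rw [← MulAut.mul_apply, ← map_mul, inv_mul_cancel, map_one, MulAut.one_apply] at h1
    rw [h1]; exact hw
  · intro hw
    rw [h.fix_of_mem_zz l hw]; exact hw

theorem inv_mul_aut_mem_zz [Finite P] (h : Ctx P L φ z) (l : L) {u : P}
    (hu : u ∈ Subgroup.center P) : u⁻¹ * φ l u ∈ Subgroup.zpowers z := by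
  rw [h.mul_mem_zz_iff (Subgroup.inv_mem _ hu) (aut_mem_center _ hu), Subgroup.inv_mem_iff,
    h.aut_mem_zz_iff]

/-- a proper invariant subgroup containing the centre is commutative -/
theorem comm_of_ge_center [Finite P] (h : Ctx P L φ z) (M : Subgroup P) (hM : M ≠ ⊤)
    (hinv : ∀ l : L, ∀ x ∈ M, φ l x ∈ M) (hZM : Subgroup.center P ≤ M) :
    ∀ a b : M, a * b = b * a := by
  have hs := h.hsmall M hM hinv
  rcases lemmaA (h.hP.to_subgroup M) hs (sub_class M h.hle) (sub_sq M h.hsq) with h1 | ⟨-, h2⟩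
  · exact h1
  · exfalso
    let f : Subgroup.center P → Subgroup.center M := fun w =>
      ⟨⟨w.1, hZM w.2⟩, by
        rw [Subgroup.mem_center_iff]
        intro g
        exact Subtype.ext (Subgroup.mem_center_iff.mp w.2 (g : P))⟩
    have hf : Function.Injective f := by
      intro a b hab
      apply Subtype.ext
      have := congrArg (fun t : Subgroup.center M => ((t : M) : P)) hab
      exact this
    have := Nat.card_le_card_of_injective f hf
    rw [h.hZ4, h2] at this
    omega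

/-- the subgroup of elements whose square lies in `⟨z⟩` -/
def sqSub (h : Ctx P L φ z) : Subgroup P where
  carrier := {x | x ^ 2 ∈ Subgroup.zpowers z}
  one_mem' := by
    show (1 : P) ^ 2 ∈ Subgroup.zpowers z
    rw [one_pow]; exact Subgroup.one_mem _
  mul_mem' := by
    intro a b ha hb
    show (a * b) ^ 2 ∈ Subgroup.zpowers z
    rw [mul_pow_classTwo h.hle a b 2]
    have : Nat.choose 2 2 = 1 := by decide
    rw [this, pow_one]
    exact Subgroup.mul_mem _ (Subgroup.mul_mem _ ha hb) (h.cm_mem_zz b a)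
  inv_mem' := by
    intro a ha
    show a⁻¹ ^ 2 ∈ Subgroup.zpowers z
    rw [inv_pow]
    exact Subgroup.inv_mem _ ha

theorem mem_sqSub (h : Ctx P L φ z) (x : P) : x ∈ h.sqSub ↔ x ^ 2 ∈ Subgroup.zpowers z := Iff.rfl

theorem sqSub_inv (h : Ctx P L φ z) : ∀ l : L, ∀ x ∈ h.sqSub, φ l x ∈ h.sqSub := by
  intro l x hx
  rw [mem_sqSub] at hx ⊢
  rw [← map_pow, h.aut_mem_zz_iff]
  exact hx

theorem center_le_sqSub [Finite P] (h : Ctx P L φ z) : Subgroup.center P ≤ h.sqSub :=
  fun _ hw => h.sq_mem_zz_of_center hw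

/-- `x⁻¹ * φ l x` has its square in `⟨z⟩` -/
theorem inv_mul_aut_mem_sqSub [Finite P] (h : Ctx P L φ z) (l : L) (x : P) :
    x⁻¹ * φ l x ∈ h.sqSub := by
  rw [mem_sqSub, mul_pow_classTwo h.hle x⁻¹ (φ l x) 2]
  have : Nat.choose 2 2 = 1 := by decide
  rw [this, pow_one]
  apply Subgroup.mul_mem _ _ (h.cm_mem_zz _ _)
  have h1 : x⁻¹ ^ 2 * (φ l x) ^ 2 = (x ^ 2)⁻¹ * φ l (x ^ 2) := by
    rw [inv_pow, map_pow]
  rw [h1]
  exact h.inv_mul_aut_mem_zz l (h.hsq x)

theorem isPow2 (h : Ctx P L φ z) (n : P) : ∃ k : ℕ, n ^ 2 ^ k = 1 := h.hP n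

/-- **all squares lie in `⟨z⟩`** -/
theorem sq_mem_zz [Finite P] [Finite L] (h : Ctx P L φ z) (x : P) :
    x ^ 2 ∈ Subgroup.zpowers z := by
  by_contra hx
  have hQne : h.sqSub ≠ ⊤ := by
    intro e
    apply hx
    rw [← h.mem_sqSub, e]; exact Subgroup.mem_top x
  have hQc := h.comm_of_ge_center h.sqSub hQne h.sqSub_inv h.center_le_sqSub
  have hQs := h.hsmall h.sqSub hQne h.sqSub_inv
  rcases cyclic_or_card_le (h.hP.to_subgroup _) hQs hQc with hc | hc
  · -- cyclic: the action is trivial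
    obtain ⟨l, y, hly⟩ := h.hnt
    apply hly
    have hfixQ := odd_aut_cyclic_sub h.sqSub (h.hP.to_subgroup _) hc (φ l) (h.sqSub_inv l) h.hL
      (hom_pow_card φ l)
    obtain ⟨k, hk⟩ := h.isPow2 (y⁻¹ * φ l y)
    exact odd_aut_fix (φ l) h.hL (hom_pow_card φ l) y (hfixQ _ (h.inv_mul_aut_mem_sqSub l y)) hk
  · -- order at most four: the group is commutative
    have heq : Subgroup.center P = h.sqSub :=
      Subgroup.eq_of_le_of_card_ge h.center_le_sqSub (by rw [h.hZ4]; exact hc)
    obtain ⟨a, b, hab⟩ := h.hna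
    apply hab
    by_cases ha : a ^ 2 ∈ Subgroup.zpowers z
    · have : a ∈ Subgroup.center P := by rw [heq]; exact ha
      exact (Subgroup.mem_center_iff.mp this b).symm
    by_cases hb : b ^ 2 ∈ Subgroup.zpowers z
    · have : b ∈ Subgroup.center P := by rw [heq]; exact hb
      exact Subgroup.mem_center_iff.mp this a
    have h1 : a ^ 2 * (b⁻¹) ^ 2 ∈ Subgroup.zpowers z := by
      rw [h.mul_mem_zz_iff (h.hsq a) (h.hsq b⁻¹), inv_pow, Subgroup.inv_mem_iff]
      exact ⟨fun h' => absurd h' ha, fun h' => absurd h' hb⟩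
    have h2 : a * b⁻¹ ∈ h.sqSub := by
      rw [mem_sqSub, mul_pow_classTwo h.hle a b⁻¹ 2]
      have : Nat.choose 2 2 = 1 := by decide
      rw [this, pow_one]
      exact Subgroup.mul_mem _ h1 (h.cm_mem_zz _ _)
    rw [← heq] at h2
    have h3 := Subgroup.mem_center_iff.mp h2 b
    calc a * b = (a * b⁻¹) * b * b := by group
      _ = b * (a * b⁻¹) * b := by rw [h3]
      _ = b * a := by group

theorem pow_four [Finite P] [Finite L] (h : Ctx P L φ z) (x : P) : x ^ 4 = 1 := by
  rw [show (4 : ℕ) = 2 * 2 from rfl, pow_mul, pow_two (x ^ 2)]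
  exact h.sq_of_mem_zz (h.sq_mem_zz x)

/-- no invariant subgroup lies strictly between the centre and the whole group -/
theorem le_center_of_inv [Finite P] [Finite L] (h : Ctx P L φ z) (M : Subgroup P) (hM : M ≠ ⊤)
    (hinv : ∀ l : L, ∀ x ∈ M, φ l x ∈ M) (hZM : Subgroup.center P ≤ M) :
    M ≤ Subgroup.center P := by
  have hc := h.comm_of_ge_center M hM hinv hZM
  have hs := h.hsmall M hM hinv
  have h4 : Nat.card M ≤ 4 := by
    rcases cyclic_or_card_le (h.hP.to_subgroup _) hs hc with h1 | h1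
    · exact card_le_four_of_cyclic h1 (fun x => Subtype.ext (by simpa using h.pow_four (x : P)))
    · exact h1
  have heq : Subgroup.center P = M :=
    Subgroup.eq_of_le_of_card_ge hZM (by rw [h.hZ4]; exact h4)
  rw [heq]

theorem inv_sup (M₁ M₂ : Subgroup P) (hinv₁ : ∀ l : L, ∀ x ∈ M₁, φ l x ∈ M₁)
    (hinv₂ : ∀ l : L, ∀ x ∈ M₂, φ l x ∈ M₂) : ∀ l : L, ∀ x ∈ M₁ ⊔ M₂, φ l x ∈ M₁ ⊔ M₂ := by
  intro l x hx
  have h1 : φ l x ∈ (M₁ ⊔ M₂).map (φ l).toMonoidHom := Subgroup.mem_map_of_mem _ hx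
  rw [Subgroup.map_sup] at h1
  have h2 : M₁.map (φ l).toMonoidHom ⊔ M₂.map (φ l).toMonoidHom ≤ M₁ ⊔ M₂ := by
    apply sup_le_sup
    · rintro _ ⟨y, hy, rfl⟩; exact hinv₁ l y hy
    · rintro _ ⟨y, hy, rfl⟩; exact hinv₂ l y hy
  exact h2 h1

theorem center_inv (l : L) : ∀ x ∈ Subgroup.center P, φ l x ∈ Subgroup.center P :=
  fun _ hx => aut_mem_center _ hx

/-- the conclusion in the case `|Z(P)| = 4`, `|P'| = 2` -/
theorem exists_quaternion [Finite P] [Finite L] (h : Ctx P L φ z) :
    ∃ Y : Subgroup P, Y.index = 2 ∧ Nonempty (Y ≃* QuaternionGroup 2) ∧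
      Y ⊔ Subgroup.centralizer (Y : Set P) = ⊤ := by
  have hcomm' : ∀ x y : P, ⁅x, y⁆ ∈ Subgroup.zpowers z := by
    intro x y
    rw [← cm_eq_comm]; exact h.cm_mem_zz x y
  obtain ⟨Y, hYinv, hzY, hYZ, hYcomm⟩ := exists_invariant_complement h.hL φ z h.hzc hcomm'
    h.sq_mem_zz h.hzfix (Subgroup.center P) (fun u hu l => h.inv_mul_aut_mem_zz l hu)
  have hzzY : Subgroup.zpowers z ≤ Y := Subgroup.zpowers_le.mpr hzY
  -- Y ⊔ Z = ⊤
  have hsup : Y ⊔ Subgroup.center P = ⊤ := by
    by_contra hne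
    have hle := h.le_center_of_inv _ hne (inv_sup _ _ hYinv center_inv) le_sup_right
    have hYle : Y ≤ Subgroup.zpowers z := fun y hy => hYZ y (hle (le_sup_left (a := Y) hy)) hy
    obtain ⟨l, y, hly⟩ := h.hnt
    apply hly
    obtain ⟨k, hk⟩ := h.isPow2 (y⁻¹ * φ l y)
    exact odd_aut_fix (φ l) h.hL (hom_pow_card φ l) y (h.fix_of_mem_zz l (hYle (hYcomm l y))) hk
  -- elements are products
  have hprod : ∀ b : P, ∃ y ∈ Y, ∃ w ∈ Subgroup.center P, b = y * w := by
    intro b
    have hb : b ∈ ((Y ⊔ Subgroup.center P : Subgroup P) : Set P) := by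
      rw [hsup]; exact Set.mem_univ b
    rw [Subgroup.mul_normal] at hb
    obtain ⟨y, hy, w, hw, rfl⟩ := Set.mem_mul.mp hb
    exact ⟨y, hy, w, hw, rfl⟩
  -- Y ≠ ⊤
  have hYne : Y ≠ ⊤ := by
    intro e
    have hle : Subgroup.center P ≤ Subgroup.zpowers z := fun u hu => hYZ u hu (by rw [e]; exact Subgroup.mem_top u)
    have := Subgroup.card_le_of_le hle
    rw [h.hZ4, h.card_zz] at this
    omega
  have hYs := h.hsmall Y hYne hYinv
  have hYA := lemmaA (h.hP.to_subgroup Y) hYs (sub_class Y h.hle) (sub_sq Y h.hsq)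
  have hYna : ∃ a b : Y, a * b ≠ b * a := by
    by_contra hcon
    push Not at hcon
    obtain ⟨a, b, hab⟩ := h.hna
    apply hab
    obtain ⟨y, hy, w, hw, rfl⟩ := hprod a
    obtain ⟨y', hy', w', hw', rfl⟩ := hprod b
    have h1 : y * y' = y' * y := congrArg Subtype.val (hcon ⟨y, hy⟩ ⟨y', hy'⟩)
    have c1 := Subgroup.mem_center_iff.mp hw
    have c2 := Subgroup.mem_center_iff.mp hw'
    calc y * w * (y' * w') = y * (w * y') * w' := by group
      _ = y * (y' * w) * w' := by rw [c1 y']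
      _ = (y * y') * (w * w') := by group
      _ = (y' * y) * (w' * w) := by rw [h1, ← c1 w']
      _ = y' * (y * w') * w := by group
      _ = y' * (w' * y) * w := by rw [c2 y]
      _ = y' * w' * (y * w) := by group
  rcases hYA with hYc | ⟨hY8, hYZ2⟩
  · exfalso
    obtain ⟨a, b, hab⟩ := hYna
    exact hab (hYc a b)
  obtain ⟨ζ, hE2⟩ := IsE2.exists_of_card hYZ2 (sub_class Y h.hle)
  -- an element of the centre outside ⟨z⟩
  obtain ⟨u, huZ, huz⟩ : ∃ u ∈ Subgroup.center P, u ∉ Subgroup.zpowers z := by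
    by_contra hcon
    push Not at hcon
    have := Subgroup.card_le_of_le (show Subgroup.center P ≤ Subgroup.zpowers z from hcon)
    rw [h.hZ4, h.card_zz] at this
    omega
  have hmemY : ∀ y ∈ Y, ∀ w ∈ Subgroup.center P, (y * w ∈ Y ↔ w ∈ Subgroup.zpowers z) := by
    intro y hy w hw
    constructor
    · intro hyw
      have : w ∈ Y := by
        have := Y.mul_mem (Y.inv_mem hy) hyw
        rwa [inv_mul_cancel_left] at this
      exact hYZ w hw this
    · intro hwz
      exact Y.mul_mem hy (hzzY hwz)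
  refine ⟨Y, ?_, ?_, ?_⟩
  · rw [Subgroup.index_eq_two_iff]
    refine ⟨u, fun b => ?_⟩
    obtain ⟨y, hy, w, hw, rfl⟩ := hprod b
    have e : y * w * u = y * (w * u) := mul_assoc _ _ _
    rw [e, hmemY y hy w hw, hmemY y hy (w * u) (Subgroup.mul_mem _ hw huZ),
      h.mul_mem_zz_iff hw huZ]
    by_cases hwz : w ∈ Subgroup.zpowers z
    · right
      exact ⟨hwz, fun h' => huz (h'.mp hwz)⟩
    · left
      exact ⟨⟨fun h' => absurd h' hwz, fun h' => absurd h' huz⟩, hwz⟩
  · -- quaternion recognition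
    have hNI : ∀ t : Y, t * t = 1 → t ∈ Subgroup.center Y := by
      intro t ht
      by_contra htc
      obtain ⟨v, hv, hvall⟩ := Cfsg.Agent.Lib.Helper49.SmallTwo.exists_char_of_noncentral_involution hE2 hY8 t ht htc
      set M := Subgroup.center P ⊔ Subgroup.zpowers (v : P) with hM
      have hMc := comm_sup_zpowers (Subgroup.center P) le_rfl (v : P)
      have hMne : M ≠ ⊤ := by
        intro e
        obtain ⟨a, b, hab⟩ := h.hna
        have ha : a ∈ M := by rw [e]; exact Subgroup.mem_top a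
        have hb : b ∈ M := by rw [e]; exact Subgroup.mem_top b
        exact hab (hMc a ha b hb)
      have hvinv : ∀ l : L, ∀ x ∈ Subgroup.zpowers (v : P), φ l x ∈ Subgroup.zpowers (v : P) := by
        intro l x hx
        obtain ⟨i, rfl⟩ := Subgroup.mem_zpowers_iff.mp hx
        rw [map_zpow]
        apply Subgroup.zpow_mem
        have hw : (⟨φ l (v : P), hYinv l _ v.2⟩ : Y) * ⟨φ l (v : P), hYinv l _ v.2⟩ ≠ 1 := by
          intro e
          apply hv
          have e1 := congrArg Subtype.val e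
          simp only [Subgroup.coe_mul, Subgroup.coe_one] at e1
          rw [← map_mul] at e1
          have e2 : (v : P) * (v : P) = 1 := by
            have := (φ l).injective (e1.trans (map_one (φ l)).symm)
            exact this
          exact Subtype.ext e2
        rcases hvall _ hw with e | e
        · have := congrArg Subtype.val e
          simp only [] at this
          rw [this]; exact Subgroup.mem_zpowers _
        · have := congrArg Subtype.val e
          simp only [Subgroup.coe_inv] at this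
          rw [this]; exact Subgroup.inv_mem _ (Subgroup.mem_zpowers _)
      have hle := h.le_center_of_inv M hMne (inv_sup _ _ center_inv hvinv) le_sup_left
      have hvZ : (v : P) ∈ Subgroup.center P :=
        hle ((le_sup_right : Subgroup.zpowers (v : P) ≤ M) (Subgroup.mem_zpowers _))
      have hvz := hYZ _ hvZ v.2
      apply hv
      exact Subtype.ext (h.sq_of_mem_zz hvz)
    exact (hE2.quaternion_of_no_involution hYna hNI).2.1
  · rw [eq_top_iff, ← hsup]
    exact sup_le_sup le_rfl (Subgroup.center_le_centralizer _)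

end Ctx

end T5

section main

variable {P L : Type*} [Group P] [Group L]

/-- the context in the case `|Z(P)| = 4`, `P' ≠ Z(P)` -/
theorem exists_ctx [Finite P] (hP : IsPGroup 2 P)
    (hL : Odd (Nat.card L)) (φ : L →* MulAut P)
    (hle : commutator P ≤ Subgroup.center P) (hsq : ∀ x : P, x ^ 2 ∈ Subgroup.center P)
    (hsmall : ∀ M : Subgroup P, M ≠ ⊤ → (∀ l : L, ∀ x ∈ M, φ l x ∈ M) → NoAb8 M)
    (hnt : ∃ (l : L) (x : P), φ l x ≠ x) (hna : ∃ x y : P, x * y ≠ y * x)
    (hZ4 : Nat.card (Subgroup.center P) = 4) (hne : commutator P ≠ Subgroup.center P) :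
    ∃ z : P, Ctx P L φ z := by
  have : Fact (Nat.Prime 2) := ⟨Nat.prime_two⟩
  obtain ⟨x₀, y₀, hxy⟩ := hna
  obtain ⟨i, hi⟩ := (hP.to_subgroup (commutator P)).exists_card_eq
  have hlt : commutator P < Subgroup.center P := lt_of_le_of_ne hle hne
  have hclt := card_lt_of_lt hlt
  rw [hZ4, hi] at hclt
  have hi1 := two_pow_lt_four hclt
  have hcm0 : cm x₀ y₀ ≠ 1 := fun e => hxy ((cm_eq_one_iff _ _).mp e)
  have hi0 : i ≠ 0 := by
    intro h0
    rw [h0, pow_zero] at hi
    have : Subsingleton (commutator P) := by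
      rw [← Finite.card_le_one_iff_subsingleton, hi]
    apply hcm0
    have := Subsingleton.elim (⟨cm x₀ y₀, cm_mem_commutator x₀ y₀⟩ : commutator P) 1
    exact congrArg Subtype.val this
  have hc2 : Nat.card (commutator P) = 2 := by
    have : i = 1 := by omega
    rw [hi, this]; norm_num
  obtain ⟨z, hz1, hzall⟩ := (Nat.card_eq_two_iff' (1 : commutator P)).mp hc2
  have hz1' : (z : P) ≠ 1 := fun e => hz1 (Subtype.ext e)
  have hall : ∀ w ∈ commutator P, w = 1 ∨ w = (z : P) := by
    intro w hw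
    by_cases hw1 : w = 1
    · exact Or.inl hw1
    · right
      have := hzall ⟨w, hw⟩ (fun e => hw1 (congrArg Subtype.val e))
      exact congrArg Subtype.val this
  have hcm : ∀ x y : P, cm x y = 1 ∨ cm x y = (z : P) := fun x y => hall _ (cm_mem_commutator x y)
  have hcmz : cm x₀ y₀ = (z : P) := (hcm x₀ y₀).resolve_left hcm0
  have hz2 : (z : P) * (z : P) = 1 := by
    rcases hall _ (Subgroup.mul_mem _ z.2 z.2) with e | e
    · exact e
    · exfalso
      apply hz1'
      have : (z : P) * (z : P) = (z : P) * 1 := by rw [e, mul_one]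
      exact mul_left_cancel this
  have hzfix : ∀ l : L, φ l (z : P) = (z : P) := by
    intro l
    have e : φ l (cm x₀ y₀) = cm (φ l x₀) (φ l y₀) := by
      simp only [cm, map_mul, map_inv]
    rw [← hcmz, e]
    rcases hcm (φ l x₀) (φ l y₀) with e1 | e1
    · exfalso
      rw [← e, hcmz] at e1
      apply hz1'
      exact (φ l).injective (e1.trans (map_one (φ l)).symm)
    · rw [e1, hcmz]
  exact ⟨z, ⟨hP, hL, hle, hsq, hsmall, hnt, ⟨x₀, y₀, hxy⟩, hZ4, hle z.2, hz1', hz2, hcm, hzfix⟩⟩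

/-- **Main type-level theorem.** -/
theorem main_T [Finite P] [Finite L] (hP : IsPGroup 2 P)
    (hL : Odd (Nat.card L)) (φ : L →* MulAut P)
    (hle : commutator P ≤ Subgroup.center P) (hsq : ∀ x : P, x ^ 2 ∈ Subgroup.center P)
    (hsmall : ∀ M : Subgroup P, M ≠ ⊤ → (∀ l : L, ∀ x ∈ M, φ l x ∈ M) → NoAb8 M)
    (hnt : ∃ (l : L) (x : P), φ l x ≠ x)
    (h8 : ¬ NoAb8 P) :
    (∀ x y : P, x * y = y * x) ∨ (Cfsg.IsExtraspecial 2 P ∧ 32 ≤ Nat.card P) ∨
    (∃ Y : Subgroup P, Y.index = 2 ∧ Nonempty (Y ≃* QuaternionGroup 2) ∧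
      Y ⊔ Subgroup.centralizer (Y : Set P) = ⊤) ∨
    (Cfsg.IsSpecial 2 P ∧ Nat.card (Subgroup.center P) = 4) := by
  have : Fact (Nat.Prime 2) := ⟨Nat.prime_two⟩
  by_cases hab : ∀ x y : P, x * y = y * x
  · exact Or.inl hab
  right
  push Not at hab
  obtain ⟨x₀, y₀, hxy⟩ := hab
  have hna : ∃ x y : P, x * y ≠ y * x := ⟨x₀, y₀, hxy⟩
  have hZne : Subgroup.center P ≠ ⊤ := by
    intro e
    apply hxy
    have : x₀ ∈ Subgroup.center P := by rw [e]; exact Subgroup.mem_top _
    exact (Subgroup.mem_center_iff.mp this y₀).symm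
  have hZs := hsmall _ hZne (fun l => Ctx.center_inv (φ := φ) l)
  have hZc : ∀ a b : Subgroup.center P, a * b = b * a :=
    fun a b => Subtype.ext (Subgroup.mem_center_iff.mp a.2 (b : P)).symm
  obtain ⟨j, hj⟩ := (hP.to_subgroup (Subgroup.center P)).exists_card_eq
  by_cases h8c : 8 ≤ Nat.card (Subgroup.center P)
  · exfalso
    rcases cyclic_or_card_le (hP.to_subgroup _) hZs hZc with hcyc | hle4
    · exact hxy (comm_of_cyclic_center_ge_eight hP φ hle hsq hsmall hcyc h8c x₀ y₀)
    · omega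
  push Not at h8c
  have hj2 : j ≤ 2 := by
    by_contra h; push Not at h
    have : 2 ^ 3 ≤ 2 ^ j := Nat.pow_le_pow_right (by norm_num) h
    omega
  have hj0 : j ≠ 0 := by
    intro h0
    have : Nontrivial P := ⟨⟨x₀, y₀, fun e => hxy (by rw [e])⟩⟩
    have := hP.center_nontrivial
    rw [h0, pow_zero] at hj
    have h1 := Finite.one_lt_card (α := Subgroup.center P)
    omega
  rcases Nat.lt_or_ge j 2 with hj1 | hj2'
  · left
    have hZ2 : Nat.card (Subgroup.center P) = 2 := by
      have : j = 1 := by omega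
      rw [hj, this]; norm_num
    exact extraspecial_of_center_two hle hZ2 hna h8
  · right
    have hZ4 : Nat.card (Subgroup.center P) = 4 := by
      have : j = 2 := by omega
      rw [hj, this]; norm_num
    by_cases heq : commutator P = Subgroup.center P
    · right
      refine ⟨⟨hP, ?_, heq⟩, hZ4⟩
      apply le_antisymm
      · apply Cfsg.Agent.Lib.Helper47.frattini_le_of_elementary_abelian_quotient 2
        · exact comm_mem_center_of_le hle
        · exact hsq
      · rw [← heq]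
        exact Cfsg.Agent.Lib.Helper2.commutator_le_frattini hP
    · left
      obtain ⟨z, hctx⟩ := exists_ctx hP hL φ hle hsq hsmall hnt hna hZ4 heq
      exact hctx.exists_quaternion

end main

end Cfsg.Agent.Lib.Helper29.SmallTwo
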