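import Mathlib
import Cfsg.Agent.Lib.Helper29.SmallTwoC
import Cfsg.Agent.Lib.Helper29.SmallTwoD

/-!
# Glue for S4409: from the group `S` to the type-level theorem
-/

set_option autoImplicit false

namespace Cfsg.Agent.Lib.Helper29.SmallTwo

open scoped commutatorElement

variable {S : Type*} [Group S]

/-- the predicate of the statement: a noncyclic abelian subgroup of order eight inside `M` -/
def HasIn (M : Subgroup S) : Prop :=
  ∃ A : Subgroup S, A ≤ M ∧ IsMulCommutative ↥A ∧ ¬ IsCyclic ↥A ∧ Nat.card ↥A = 8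

theorem noAb8_of_not_hasIn (M : Subgroup S) (h : ¬ HasIn M) : NoAb8 M := by
  intro A hA hc
  by_contra hnc
  apply h
  let e := A.equivMapOfInjective M.subtype M.subtype_injective
  refine ⟨A.map M.subtype, Subgroup.map_subtype_le A, ?_, ?_, ?_⟩
  · refine ⟨⟨fun a b => ?_⟩⟩
    have h2 := hA.is_comm.comm (e.symm a) (e.symm b)
    have h3 := congrArg e h2
    rw [map_mul, map_mul, MulEquiv.apply_symm_apply, MulEquiv.apply_symm_apply] at h3
    exact h3
  · intro hcyc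
    exact hnc (isCyclic_of_surjective e.symm e.symm.surjective)
  · rw [← hc]; exact (Nat.card_congr e.toEquiv).symm

theorem HasIn.mono {M N : Subgroup S} (hMN : M ≤ N) (h : HasIn M) : HasIn N := by
  obtain ⟨A, hA, h1, h2, h3⟩ := h
  exact ⟨A, hA.trans hMN, h1, h2, h3⟩

/-- class two and central squares, from the element-level statements -/
theorem class_of_elem (C : Subgroup S)
    (hE1 : ∀ a ∈ C, ∀ b ∈ C, ∀ g ∈ C, g * ⁅a, b⁆ = ⁅a, b⁆ * g) :
    commutator C ≤ Subgroup.center C := by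
  rw [commutator_eq_closure, Subgroup.closure_le]
  rintro _ ⟨a, b, rfl⟩
  rw [SetLike.mem_coe, Subgroup.mem_center_iff]
  intro g
  apply Subtype.ext
  have h := hE1 a a.2 b b.2 g g.2
  simpa [commutatorElement_def] using h

theorem sq_of_elem (C : Subgroup S) (hE2 : ∀ a ∈ C, ∀ g ∈ C, g * a ^ 2 = a ^ 2 * g) :
    ∀ x : C, x ^ 2 ∈ Subgroup.center C := by
  intro x
  rw [Subgroup.mem_center_iff]
  intro g
  apply Subtype.ext
  have h := hE2 x x.2 g g.2
  simpa using h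

/-- the case of a `2`-group -/
theorem twoGroup_case [Finite S] (h2 : IsPGroup 2 S)
    (h8 : ∃ A : Subgroup S, IsMulCommutative ↥A ∧ ¬ IsCyclic ↥A ∧ Nat.card ↥A = 8)
    (hmin : ∀ R : Subgroup S, R ≠ ⊤ → (∃ k : ℕ, R.index = 2 ^ k) → ¬ HasIn R) (X : Sylow 2 S) :
    (X : Subgroup S).Normal ∧ IsMulCommutative ↥(X : Subgroup S) := by
  have : Fact (Nat.Prime 2) := ⟨Nat.prime_two⟩
  obtain ⟨A, hA, hnc, hc8⟩ := h8
  have hAtop : A = ⊤ := by
    by_contra hne
    obtain ⟨n, hn⟩ := h2.exists_card_eq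
    have hdvd : A.index ∣ 2 ^ n := by rw [← hn]; exact Subgroup.index_dvd_card A
    obtain ⟨k, -, hk⟩ := (Nat.dvd_prime_pow Nat.prime_two).mp hdvd
    exact hmin A hne ⟨k, hk⟩ ⟨A, le_rfl, hA, hnc, hc8⟩
  have hcomm : ∀ a b : S, a * b = b * a := by
    intro a b
    have ha : a ∈ A := by rw [hAtop]; exact Subgroup.mem_top a
    have hb : b ∈ A := by rw [hAtop]; exact Subgroup.mem_top b
    exact congrArg Subtype.val (hA.is_comm.comm (⟨a, ha⟩ : A) ⟨b, hb⟩)
  refine ⟨⟨fun n hn g => ?_⟩, ⟨⟨fun a b => Subtype.ext (hcomm a b)⟩⟩⟩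
  rw [hcomm g n, mul_inv_cancel_right]
  exact hn

/-- elements of a `2`-subgroup lying in a subgroup of odd order are trivial -/
theorem eq_one_of_mem_of_mem {Q K : Subgroup S} (hQ : IsPGroup 2 Q) (hK : Odd (Nat.card K))
    {g : S} (hgQ : g ∈ Q) (hgK : g ∈ K) : g = 1 := by
  obtain ⟨k, hk⟩ := hQ ⟨g, hgQ⟩
  have hk' : g ^ 2 ^ k = 1 := by
    have := congrArg Subtype.val hk
    simpa using this
  have h1 : orderOf g ∣ 2 ^ k := orderOf_dvd_of_pow_eq_one hk'
  have h2 : orderOf g ∣ Nat.card K := Subgroup.orderOf_dvd_natCard K hgK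
  have hcop : Nat.Coprime (Nat.card K) (2 ^ k) :=
    Nat.Coprime.pow_right _ (Nat.coprime_two_right.mpr hK)
  have h3 : orderOf g ∣ 1 := by
    rw [← hcop.gcd_eq_one]
    exact Nat.dvd_gcd h2 h1
  exact orderOf_eq_one_iff.mp (Nat.dvd_one.mp h3)

/-- **The normal Sylow case**: the structure of a normal self-centralizing Sylow `2`-subgroup of
class at most two with central squares, under the minimality hypothesis. -/
theorem final [Finite S] (Xs : Subgroup S) [hXn : Xs.Normal] (hX2 : IsPGroup 2 Xs)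
    (hXmax : ∀ A : Subgroup S, IsPGroup 2 A → A ≤ Xs)
    (hCX : Subgroup.centralizer (Xs : Set S) ≤ Xs)
    (hE1 : ∀ a ∈ Xs, ∀ b ∈ Xs, ∀ g ∈ Xs, g * ⁅a, b⁆ = ⁅a, b⁆ * g)
    (hE2 : ∀ a ∈ Xs, ∀ g ∈ Xs, g * a ^ 2 = a ^ 2 * g)
    (K : Subgroup S) (hKodd : Odd (Nat.card K)) (hKidx : ∃ v : ℕ, K.index = 2 ^ v)
    (hnot2 : ¬ IsPGroup 2 S)
    (h8 : ∃ A : Subgroup S, IsMulCommutative ↥A ∧ ¬ IsCyclic ↥A ∧ Nat.card ↥A = 8)
    (hmin : ∀ R : Subgroup S, R ≠ ⊤ → (∃ k : ℕ, R.index = 2 ^ k) → ¬ HasIn R) :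
    IsMulCommutative ↥Xs ∨
      (Cfsg.IsExtraspecial 2 ↥Xs ∧ 32 ≤ Nat.card ↥Xs) ∨
      (∃ (X₀ : Subgroup S) (k : ℕ), X₀ ≤ Xs ∧ X₀.relIndex Xs = 2 ∧
        Nonempty (↥X₀ ≃* QuaternionGroup (2 ^ (k + 1))) ∧
        X₀ ⊔ (Xs ⊓ Subgroup.centralizer (X₀ : Set S)) = Xs) ∨
      (Cfsg.IsSpecial 2 ↥Xs ∧ Nat.card ↥(Subgroup.center ↥Xs) = 4) := by
  have : Fact (Nat.Prime 2) := ⟨Nat.prime_two⟩
  let φ : K →* MulAut Xs := (MulAut.conjNormal (H := Xs)).comp K.subtype
  have hφ : ∀ (l : K) (x : Xs), ((φ l x : Xs) : S) = (l : S) * x * (l : S)⁻¹ := fun l x => rfl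
  have hXK : ∀ g, g ∈ Xs → g ∈ K → g = 1 := fun g h1 h2 => eq_one_of_mem_of_mem hX2 hKodd h1 h2
  have hsmall : ∀ M : Subgroup Xs, M ≠ ⊤ → (∀ l : K, ∀ x ∈ M, φ l x ∈ M) → NoAb8 M := by
    intro M hM hinv
    set M' := M.map Xs.subtype with hM'
    have hM'X : M' ≤ Xs := Subgroup.map_subtype_le M
    have hconj : ∀ k ∈ K, ∀ m ∈ M', k * m * k⁻¹ ∈ M' := by
      rintro k hk _ ⟨m₀, hm₀, rfl⟩
      exact ⟨φ ⟨k, hk⟩ m₀, hinv ⟨k, hk⟩ m₀ hm₀, hφ ⟨k, hk⟩ m₀⟩
    have hKn : K ≤ Subgroup.normalizer (M' : Set S) := by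
      intro k hk
      rw [Subgroup.mem_normalizer_iff]
      intro m
      constructor
      · exact hconj k hk m
      · intro hm
        have := hconj k⁻¹ (K.inv_mem hk) _ hm
        have e : k⁻¹ * (k * m * k⁻¹) * k⁻¹⁻¹ = m := by group
        rwa [e] at this
    have hne : M' ⊔ K ≠ ⊤ := by
      intro e
      apply hM
      rw [eq_top_iff]
      intro x _
      have hx : (x : S) ∈ ((M' ⊔ K : Subgroup S) : Set S) := by rw [e]; exact Set.mem_univ _
      rw [Subgroup.coe_mul_of_right_le_normalizer_left M' K hKn] at hx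
      obtain ⟨m, hm, k, hk, hmk⟩ := Set.mem_mul.mp hx
      have hkX : k ∈ Xs := by
        have : k = m⁻¹ * (x : S) := by rw [← hmk]; group
        rw [this]; exact Xs.mul_mem (Xs.inv_mem (hM'X hm)) x.2
      have hk1 : k = 1 := hXK k hkX hk
      rw [hk1, mul_one] at hmk
      obtain ⟨m₀, hm₀, hm₀e⟩ := hm
      have : m₀ = x := Subtype.ext (hm₀e.trans hmk)
      rw [← this]; exact hm₀
    have hidx : ∃ k : ℕ, (M' ⊔ K).index = 2 ^ k := by
      obtain ⟨v, hv⟩ := hKidx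
      have hdvd : (M' ⊔ K).index ∣ 2 ^ v := by
        rw [← hv]; exact Subgroup.index_dvd_of_le le_sup_right
      obtain ⟨k, -, hk⟩ := (Nat.dvd_prime_pow Nat.prime_two).mp hdvd
      exact ⟨k, hk⟩
    have hno : ¬ HasIn M' := fun h => hmin _ hne hidx (h.mono le_sup_left)
    exact (noAb8_of_not_hasIn M' hno).of_equiv
      (M.equivMapOfInjective Xs.subtype Xs.subtype_injective)
  have hnt : ∃ (l : K) (x : Xs), φ l x ≠ x := by
    by_contra hcon
    push Not at hcon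
    apply hnot2
    have hKbot : K = ⊥ := by
      rw [eq_bot_iff]
      intro k hk
      have hkC : k ∈ Subgroup.centralizer (Xs : Set S) := by
        rw [Subgroup.mem_centralizer_iff]
        intro x hx
        have h1 := congrArg Subtype.val (hcon ⟨k, hk⟩ ⟨x, hx⟩)
        rw [hφ] at h1
        have h2 : k * x * k⁻¹ = x := h1
        calc x * k = (k * x * k⁻¹) * k := by rw [h2]
          _ = k * x := by group
      exact Subgroup.mem_bot.mpr (hXK k (hCX hkC) hk)
    obtain ⟨v, hv⟩ := hKidx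
    rw [hKbot, Subgroup.index_bot] at hv
    exact IsPGroup.of_card hv
  have h8' : ¬ NoAb8 Xs := by
    obtain ⟨A, hA, hnc, hc8⟩ := h8
    have hA2 : IsPGroup 2 A := IsPGroup.of_card (n := 3) (by rw [hc8]; norm_num)
    have hAX : A ≤ Xs := hXmax A hA2
    intro hno
    apply hnc
    let e := Subgroup.subgroupOfEquivOfLe hAX
    have h1 : IsMulCommutative (A.subgroupOf Xs) := ⟨⟨fun a b => by
      have := hA.is_comm.comm (e a) (e b)
      exact e.injective (by rw [map_mul, map_mul]; exact this)⟩⟩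
    have h2 : Nat.card (A.subgroupOf Xs) = 8 := by rw [← hc8]; exact Nat.card_congr e.toEquiv
    have := hno _ h1 h2
    exact isCyclic_of_surjective e e.surjective
  rcases main_T hX2 hKodd φ (class_of_elem Xs hE1) (sq_of_elem Xs hE2) hsmall hnt h8' with
    h1 | h1 | h1 | h1
  · left; exact ⟨⟨h1⟩⟩
  · right; left; exact h1
  · right; right; left
    obtain ⟨Y, hYi, ⟨eY⟩, hYsup⟩ := h1
    refine ⟨Y.map Xs.subtype, 0, Subgroup.map_subtype_le Y, ?_, ?_, ?_⟩
    · rw [Subgroup.relIndex, Subgroup.subgroupOf,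
        Subgroup.comap_map_eq_self_of_injective Xs.subtype_injective]
      exact hYi
    · exact ⟨(Y.equivMapOfInjective Xs.subtype Xs.subtype_injective).symm.trans eY⟩
    · apply le_antisymm
      · exact sup_le (Subgroup.map_subtype_le Y) inf_le_left
      · intro x hx
        have hx' : (⟨x, hx⟩ : Xs) ∈ Y ⊔ Subgroup.centralizer (Y : Set Xs) := by
          rw [hYsup]; exact Subgroup.mem_top _
        have h2 : x ∈ (Y ⊔ Subgroup.centralizer (Y : Set Xs)).map Xs.subtype :=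
          ⟨⟨x, hx⟩, hx', rfl⟩
        rw [Subgroup.map_sup] at h2
        have h3 : Y.map Xs.subtype ⊔ (Subgroup.centralizer (Y : Set Xs)).map Xs.subtype ≤
            Y.map Xs.subtype ⊔ (Xs ⊓ Subgroup.centralizer ((Y.map Xs.subtype : Subgroup S) : Set S)) := by
          apply sup_le_sup le_rfl
          rintro _ ⟨c, hc, rfl⟩
          refine ⟨c.2, ?_⟩
          apply Subgroup.mem_centralizer_iff.mpr
          rintro _ ⟨y, hy, rfl⟩
          have := Subgroup.mem_centralizer_iff.mp hc y hy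
          exact congrArg Subtype.val this
        exact h3 h2
  · right; right; right; exact h1

end Cfsg.Agent.Lib.Helper29.SmallTwo
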