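import Mathlib
import Cfsg.Prelude.Def_Classical

set_option autoImplicit false
set_option linter.unusedSectionVars false

/-!
# Hyperbolic coordinates for a quadratic form of plus type over the field with two elements
-/

namespace Cfsg.Agent.Lib.Helper29.Witt

open QuadraticMap

variable {U : Type*} [AddCommGroup U] [Module (ZMod 2) U]

section basic

variable (q : QuadraticForm (ZMod 2) U)

theorem q_add (x y : U) : q (x + y) = q x + q y + polarBilin q x y := by
  rw [polarBilin_apply_apply, polar]; abel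

theorem B_self (x : U) : polarBilin q x x = 0 := by
  rw [polarBilin_apply_apply, polar_self, two_nsmul]
  exact CharTwo.add_self_eq_zero _

theorem B_comm (x y : U) : polarBilin q x y = polarBilin q y x := by
  rw [polarBilin_apply_apply, polarBilin_apply_apply, polar_comm]

theorem q_smul (a : ZMod 2) (x : U) : q (a • x) = a * q x := by
  rw [QuadraticMap.map_smul, smul_eq_mul]
  have : ∀ a : ZMod 2, a * a = a := by decide
  rw [this]

theorem q_sum_eq_zero {ι : Type*} (s : Finset ι) (f : ι → U) (hf : ∀ i ∈ s, q (f i) = 0)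
    (hB : ∀ i ∈ s, ∀ j ∈ s, i ≠ j → polarBilin q (f i) (f j) = 0) : q (∑ i ∈ s, f i) = 0 := by
  classical
  induction s using Finset.induction_on with
  | empty => simp
  | insert a s ha ih =>
    rw [Finset.sum_insert ha, q_add, hf a (Finset.mem_insert_self a s),
      ih (fun i hi => hf i (Finset.mem_insert_of_mem hi))
        (fun i hi j hj hij => hB i (Finset.mem_insert_of_mem hi) j (Finset.mem_insert_of_mem hj) hij),
      map_sum, zero_add, zero_add]
    apply Finset.sum_eq_zero
    intro j hj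
    apply hB a (Finset.mem_insert_self a s) j (Finset.mem_insert_of_mem hj)
    rintro rfl
    exact ha hj

theorem exists_dual_family [Module.Finite (ZMod 2) U] (hnd : (polarBilin q).Nondegenerate)
    (W : Submodule (ZMod 2) U) {n : ℕ} (bw : Module.Basis (Fin n) (ZMod 2) W) :
    ∃ v : Fin n → U, ∀ i j, polarBilin q (v i) (bw j : U) = if i = j then 1 else 0 := by
  have h : ∀ i, ∃ g : Module.Dual (ZMod 2) U, W.dualRestrict g = bw.coord i :=
    fun i => Subspace.dualRestrict_surjective _
  choose g hg using h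
  refine ⟨fun i => (LinearMap.BilinForm.toDual (polarBilin q) hnd).symm (g i), fun i j => ?_⟩
  rw [LinearMap.BilinForm.apply_toDual_symm_apply]
  have h1 := congrArg (fun φ : Module.Dual (ZMod 2) W => φ (bw j)) (hg i)
  simp only [Submodule.dualRestrict_apply] at h1
  rw [h1, Module.Basis.coord_apply, Module.Basis.repr_self, Finsupp.single_apply]
  by_cases hij : i = j
  · rw [if_pos hij, if_pos hij.symm]
  · rw [if_neg hij, if_neg (fun h => hij h.symm)]

theorem B_add_left (x y z : U) :
    polarBilin q (x + y) z = polarBilin q x z + polarBilin q y z := by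
  rw [map_add, LinearMap.add_apply]

theorem B_add_right (x y z : U) :
    polarBilin q x (y + z) = polarBilin q x y + polarBilin q x z := map_add _ _ _

theorem B_smul_left (a : ZMod 2) (x y : U) : polarBilin q (a • x) y = a * polarBilin q x y := by
  rw [map_smul, LinearMap.smul_apply, smul_eq_mul]

theorem B_smul_right (a : ZMod 2) (x y : U) : polarBilin q x (a • y) = a * polarBilin q x y := by
  rw [map_smul, smul_eq_mul]

theorem B_sum_left {ι : Type*} (s : Finset ι) (f : ι → U) (y : U) :
    polarBilin q (∑ i ∈ s, f i) y = ∑ i ∈ s, polarBilin q (f i) y := by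
  rw [map_sum, LinearMap.sum_apply]

theorem B_sum_right {ι : Type*} (s : Finset ι) (f : ι → U) (x : U) :
    polarBilin q x (∑ i ∈ s, f i) = ∑ i ∈ s, polarBilin q x (f i) := map_sum _ _ _

end basic

/-- **hyperbolic coordinates** -/
theorem exists_plus_coords [Module.Finite (ZMod 2) U] (n : ℕ) (hn1 : 1 ≤ n)
    (hn : Module.finrank (ZMod 2) U = 2 * n) (q : QuadraticForm (ZMod 2) U)
    (hnd : (polarBilin q).Nondegenerate) (W : Submodule (ZMod 2) U)
    (hW : Module.finrank (ZMod 2) W = n) (hqW : ∀ w ∈ W, q w = 0) :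
    ∃ ψ : U ≃ₗ[ZMod 2] (Fin n ⊕ Fin n → ZMod 2), ∀ u, q u = Cfsg.quadFormPlus n (ZMod 2) (ψ u) := by
  classical
  let bw := Module.finBasisOfFinrankEq (ZMod 2) W hW
  obtain ⟨v, hv⟩ := exists_dual_family q hnd W bw
  obtain ⟨w, hwdef⟩ : ∃ w : Fin n → U, ∀ j, w j = (bw j : U) := ⟨_, fun _ => rfl⟩
  have hvw : ∀ i j, polarBilin q (v i) (w j) = if i = j then 1 else 0 := by
    intro i j; rw [hwdef]; exact hv i j
  have hwW : ∀ j, w j ∈ W := fun j => by rw [hwdef]; exact (bw j).2
  have hBW : ∀ x ∈ W, ∀ y ∈ W, polarBilin q x y = 0 := by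
    intro x hx y hy
    have h1 := q_add q x y
    rw [hqW x hx, hqW y hy, hqW _ (W.add_mem hx hy), zero_add, zero_add] at h1
    exact h1.symm
  have hsumW : ∀ d : Fin n → ZMod 2, ∑ k, d k • w k ∈ W :=
    fun d => W.sum_mem (fun k _ => W.smul_mem _ (hwW k))
  have hBvsum : ∀ (i : Fin n) (d : Fin n → ZMod 2), polarBilin q (v i) (∑ l, d l • w l) = d i := by
    intro i d
    rw [B_sum_right]
    simp only [B_smul_right, hvw, mul_ite, mul_one, mul_zero]
    rw [Finset.sum_ite_eq]
    simp
  obtain ⟨c, hcdef⟩ : ∃ c : Fin n → Fin n → ZMod 2, ∀ i k, c i k =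
      if i = k then q (v i) else if i < k then polarBilin q (v i) (v k) else 0 := ⟨_, fun _ _ => rfl⟩
  obtain ⟨wc, hwcdef⟩ : ∃ wc : Fin n → U, ∀ i, wc i = ∑ k, c i k • w k := ⟨_, fun _ => rfl⟩
  have hwc : ∀ i, wc i ∈ W := fun i => by rw [hwcdef]; exact hsumW _
  obtain ⟨v', hv'def⟩ : ∃ v' : Fin n → U, ∀ i, v' i = v i + wc i := ⟨_, fun _ => rfl⟩
  have hBvwc : ∀ i k, polarBilin q (v i) (wc k) = c k i := by
    intro i k
    rw [hwcdef, hBvsum]
  have hv'w : ∀ i j, polarBilin q (v' i) (w j) = if i = j then 1 else 0 := by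
    intro i j
    rw [hv'def, B_add_left, hBW _ (hwc i) _ (hwW j), add_zero]
    exact hvw i j
  have hqv' : ∀ i, q (v' i) = 0 := by
    intro i
    rw [hv'def, q_add, hqW _ (hwc i), add_zero, hBvwc, hcdef, if_pos rfl]
    exact CharTwo.add_self_eq_zero _
  have hv'v' : ∀ i k, i ≠ k → polarBilin q (v' i) (v' k) = 0 := by
    intro i k hik
    rw [hv'def, hv'def, B_add_left, B_add_right, B_add_right, hBW _ (hwc i) _ (hwc k), add_zero,
      hBvwc, B_comm q (wc i) (v k), hBvwc, hcdef k i, hcdef i k, if_neg hik, if_neg (Ne.symm hik)]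
    rcases lt_or_gt_of_ne hik with h | h
    · rw [if_pos h, if_neg (not_lt.2 h.le), add_zero]
      exact CharTwo.add_self_eq_zero _
    · rw [if_neg (not_lt.2 h.le), if_pos h, add_zero, B_comm q (v k) (v i)]
      exact CharTwo.add_self_eq_zero _
  have hqa : ∀ a : Fin n → ZMod 2, q (∑ i, a i • v' i) = 0 := by
    intro a
    apply q_sum_eq_zero
    · intro i _
      rw [q_smul, hqv', mul_zero]
    · intro i _ j _ hij
      rw [B_smul_left, B_smul_right, hv'v' i j hij, mul_zero, mul_zero]
  have hBl : ∀ (a b : Fin n → ZMod 2) (j : Fin n),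
      polarBilin q (∑ i, a i • v' i + ∑ i, b i • w i) (w j) = a j := by
    intro a b j
    rw [B_add_left, hBW _ (hsumW b) _ (hwW j), add_zero, B_sum_left]
    simp only [B_smul_left, hv'w, mul_ite, mul_one, mul_zero]
    rw [Finset.sum_ite_eq']
    simp
  have hBwv' : ∀ (b : Fin n → ZMod 2) (j : Fin n),
      polarBilin q (∑ i, b i • w i) (v' j) = b j := by
    intro b j
    rw [B_sum_left]
    have : ∀ i, polarBilin q (b i • w i) (v' j) = if j = i then b i else 0 := by
      intro i
      rw [B_smul_left, B_comm q (w i) (v' j), hv'w]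
      by_cases h : j = i
      · rw [if_pos h, if_pos h, mul_one]
      · rw [if_neg h, if_neg h, mul_zero]
    simp_rw [this]
    rw [Finset.sum_ite_eq]
    simp
  have hBr : ∀ (a b : Fin n → ZMod 2) (j : Fin n),
      polarBilin q (∑ i, a i • v' i + ∑ i, b i • w i) (v' j) =
        ∑ i, a i * polarBilin q (v' i) (v' j) + b j := by
    intro a b j
    rw [B_add_left, hBwv', B_sum_left]
    simp only [B_smul_left]
  have key : ∀ a b : Fin n → ZMod 2, q (∑ i, a i • v' i + ∑ i, b i • w i) = ∑ i, a i * b i := by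
    intro a b
    rw [q_add, hqa, hqW _ (hsumW b), zero_add, zero_add, B_comm, B_sum_right]
    apply Finset.sum_congr rfl
    intro i _
    rw [B_smul_right, hBwv']
  obtain ⟨f, hfdef⟩ : ∃ f : Fin n ⊕ Fin n → U, f = Sum.elim v' w := ⟨_, rfl⟩
  have hli : LinearIndependent (ZMod 2) f := by
    rw [Fintype.linearIndependent_iff]
    intro g hg
    rw [Fintype.sum_sum_type, hfdef] at hg
    have hg' : ∑ i, g (Sum.inl i) • v' i + ∑ i, g (Sum.inr i) • w i = 0 := hg
    have ha : ∀ j, g (Sum.inl j) = 0 := by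
      intro j
      have h1 := hBl (fun i => g (Sum.inl i)) (fun i => g (Sum.inr i)) j
      rw [hg', map_zero, LinearMap.zero_apply] at h1
      exact h1.symm
    have hb : ∀ j, g (Sum.inr j) = 0 := by
      intro j
      have h1 := hBr (fun i => g (Sum.inl i)) (fun i => g (Sum.inr i)) j
      rw [hg', map_zero, LinearMap.zero_apply] at h1
      simp only [ha, zero_mul, Finset.sum_const_zero, zero_add] at h1
      exact h1.symm
    intro k
    rcases k with i | i
    · exact ha i
    · exact hb i
  have hcard : Fintype.card (Fin n ⊕ Fin n) = Module.finrank (ZMod 2) U := by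
    rw [hn, Fintype.card_sum, Fintype.card_fin, two_mul]
  haveI : Nonempty (Fin n ⊕ Fin n) := ⟨Sum.inl ⟨0, hn1⟩⟩
  let bs := basisOfLinearIndependentOfCardEqFinrank hli hcard
  refine ⟨bs.equivFun, fun u => ?_⟩
  have hu := bs.sum_equivFun u
  rw [coe_basisOfLinearIndependentOfCardEqFinrank, Fintype.sum_sum_type, hfdef] at hu
  have hu' : ∑ i, bs.equivFun u (Sum.inl i) • v' i + ∑ i, bs.equivFun u (Sum.inr i) • w i = u := hu
  conv_lhs => rw [← hu']
  rw [key]
  rfl

end Cfsg.Agent.Lib.Helper29.Witt
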